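import Mathlib
import Cfsg.Agent.H769.SpSix
import Cfsg.Agent.Cit.Commute
import Cfsg.Agent.Cit.AutQuat
import Cfsg.Agent.Cit.TyTrans_m3
import Cfsg.Agent.LFourB.ProdAut
import Cfsg.Agent.S0950
import Cfsg.Agent.S0261
import Cfsg.Agent.H129.TorusUntw
import Cfsg.Agent.H129.RealT_m3
import Cfsg.Agent.H129.WData
import Cfsg.Agent.S1062
import Cfsg.Agent.S1092
import Cfsg.Agent.S1065
import Cfsg.Agent.S1093
import Cfsg.Agent.Lib.SL2Mat
import Cfsg.Agent.Cit.FamFb_m3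
import Cfsg.Agent.OddHalf.LongSL.OfCls
import Cfsg.Agent.Cit.LongConj
import Cfsg.Agent.H132.RowTw
import Cfsg.Agent.ChevalleyStructure.HMatDiagAll
import Cfsg.Agent.H129.ChainFast
import Cfsg.Agent.Lib.FinFast
import Cfsg.Agent.H767.EssFrat
import Cfsg.Agent.ClassificationK.GTwoModel
import Cfsg.Agent.Lib.FrattiniPGroup
import Cfsg.Agent.H285.D4Sylow
import Cfsg.Agent.H638.G2Iso
import Cfsg.Agent.S1059
import Cfsg.Agent.ClassificationK.GTwoSylow
import Cfsg.Agent.FastGrp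
import Cfsg.Agent.Prune
set_option linter.all false

section
prune_inst 0x7ffcb8faaff8bddfdfff7e7faefcdffdb9b8dfffe6dff9433fe021ef0b9f0b000bc5fbaf8de010ff0ec3e2b410b87853ff7eef7fea6bdc7ffffd5ff45ffbee0ff5f7bd0851d290240fb80fff03f0778e7f3fffffffffffffffffffffffffffbeffffffffffff

-- part: H745/RowAbs
section
prune_inst 0x200014000000000000000010000024005200019000088c00c4a10b460600e902000001008c8005034000220000300008110800104000000000000000000000000000000250810000400006000080000000000000000000000000000000000000000000000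
set_option linter.all false
open scoped Cfsg.Agent.FastGrp

-- part: H745/PermTwo
section
/-!
# Permutation groups of degree 4, 7, 8 and elements of odd order normalising a 2-subgroup (helper745, for S5161)

`Good E` : every element of odd order which normalises a 2-subgroup containing `E` is trivial.

* `good_four`, `good_seven`, `good_eight`.
-/

set_option autoImplicit false
set_option linter.style.haveILetI false

namespace Cfsg.Agent.H745.PermTwo

open Equiv Subgroup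

/-- every element of odd order which normalises a 2-subgroup containing `E` is trivial -/
def Good {n : ℕ} (E : Set (Perm (Fin n))) : Prop :=
  IsPGroup 2 (closure E) ∧ ∀ S : Subgroup (Perm (Fin n)), IsPGroup 2 S → E ⊆ S →
    ∀ w ∈ normalizer (S : Set (Perm (Fin n))), Odd (orderOf w) → w = 1

/-! ### the core -/

set_option maxRecDepth 100000 in
theorem t4 : ∀ w : Perm (Fin 4), w ^ 3 = 1 → (w * swap (2 : Fin 4) 3 * w⁻¹ * (swap (2 : Fin 4) 3)⁻¹) ^ 3 = 1 ∧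
    ((w * swap (2 : Fin 4) 3 * w⁻¹ * (swap (2 : Fin 4) 3)⁻¹) = 1 → w = 1) := by decide +kernel

set_option maxRecDepth 100000 in
theorem t12 : ∀ w : Perm (Fin 4), w ^ 12 = 1 := by decide +kernel

set_option maxRecDepth 100000 in
theorem t3 : ∀ w : Perm (Fin 3), w ^ 3 = 1 → (w * swap (0 : Fin 3) 1 * w⁻¹ * (swap (0 : Fin 3) 1)⁻¹) ^ 3 = 1 ∧
    ((w * swap (0 : Fin 3) 1 * w⁻¹ * (swap (0 : Fin 3) 1)⁻¹) = 1 → w = 1) := by decide +kernel

set_option maxRecDepth 100000 in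
theorem t6 : ∀ w : Perm (Fin 3), w ^ 6 = 1 := by decide +kernel

theorem cube_of_odd {G : Type*} [Group G] {w : G} {m : ℕ} (h : w ^ (3 * 2 ^ m) = 1) (ho : Odd (orderOf w)) :
    w ^ 3 = 1 := by
  have h1 : orderOf w ∣ 3 * 2 ^ m := orderOf_dvd_of_pow_eq_one h
  have h2 : Nat.Coprime (orderOf w) (2 ^ m) := Nat.Coprime.pow_right _ (Nat.coprime_two_right.2 ho)
  exact orderOf_dvd_iff_pow_eq_one.1 (h2.dvd_of_dvd_mul_right h1)

theorem eq_one_of_cube_two {G : Type*} [Group G] {u : G} {k : ℕ} (h3 : u ^ 3 = 1) (h2 : u ^ 2 ^ k = 1) : u = 1 := by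
  have h4 : orderOf u ∣ 1 := by
    have hc : Nat.Coprime 3 (2 ^ k) := Nat.Coprime.pow_right _ (by norm_num)
    rw [← hc]
    exact Nat.dvd_gcd (orderOf_dvd_of_pow_eq_one h3) (orderOf_dvd_of_pow_eq_one h2)
  rwa [Nat.dvd_one, orderOf_eq_one_iff] at h4

/-- the core argument: `P` is `Perm (Fin 4)` or `Perm (Fin 3)` -/
theorem core {G P : Type*} [Group G] [Group P] {S B : Subgroup G} (hS : IsPGroup 2 S) {w e : G}
    (hw : w ∈ normalizer (S : Set G)) (ho : Odd (orderOf w)) (he : e ∈ S) (hSB : S ≤ B) (hwB : w ∈ B)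
    (κ : B →* P) {s : P} (hκ : κ ⟨e, hSB he⟩ = s) {m : ℕ} (hP : ∀ w : P, w ^ (3 * 2 ^ m) = 1)
    (ht : ∀ w : P, w ^ 3 = 1 → (w * s * w⁻¹ * s⁻¹) ^ 3 = 1 ∧ ((w * s * w⁻¹ * s⁻¹) = 1 → w = 1)) :
    κ ⟨w, hwB⟩ = 1 := by
  have hu : w * e * w⁻¹ * e⁻¹ ∈ S := mul_mem ((mem_normalizer_iff.1 hw e).1 he) (inv_mem he)
  obtain ⟨k, hk⟩ := hS ⟨_, hu⟩
  have hk' : (w * e * w⁻¹ * e⁻¹) ^ 2 ^ k = 1 := congrArg Subtype.val hk
  have h1 : (κ ⟨w, hwB⟩) ^ 3 = 1 := by
    apply cube_of_odd (hP _)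
    have h2 : orderOf (κ ⟨w, hwB⟩) ∣ orderOf w := by
      rw [← Subgroup.orderOf_mk w hwB]
      exact orderOf_map_dvd _ _
    exact ho.of_dvd_nat h2
  obtain ⟨h2, h3⟩ := ht _ h1
  apply h3
  refine eq_one_of_cube_two (k := k) h2 ?_
  have h4 : κ ⟨w, hwB⟩ * s * (κ ⟨w, hwB⟩)⁻¹ * s⁻¹ = κ ⟨w * e * w⁻¹ * e⁻¹, hSB hu⟩ := by
    rw [← hκ, ← map_inv, ← map_inv, ← map_mul, ← map_mul, ← map_mul]
    rfl
  rw [h4, ← map_pow]
  have h5 : (⟨w * e * w⁻¹ * e⁻¹, hSB hu⟩ : B) ^ 2 ^ k = 1 := Subtype.ext hk'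
  rw [h5, map_one]

/-! ### induced permutations -/

/-- Permutations induced on `Fin m` by permutations of `Fin n`. -/
structure Ind {n m : ℕ} (B : Subgroup (Perm (Fin n))) (D : Set (Fin n)) (ι : Fin m → Fin n) (ρ : Fin n → Fin m) :
    Prop where
  stab : ∀ σ ∈ B, ∀ x ∈ D, σ x ∈ D
  mem : ∀ j, ι j ∈ D
  eq : ∀ j, ρ (ι j) = j
  comp : ∀ σ ∈ B, ∀ x ∈ D, ρ (σ (ι (ρ x))) = ρ (σ x)

namespace Ind

variable {n m : ℕ} {B : Subgroup (Perm (Fin n))} {D : Set (Fin n)} {ι : Fin m → Fin n} {ρ : Fin n → Fin m}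
  (H : Ind B D ι ρ)

include H

theorem mul_apply {σ τ : Perm (Fin n)} (hσ : σ ∈ B) (hτ : τ ∈ B) (j : Fin m) :
    ρ ((σ * τ) (ι j)) = ρ (σ (ι (ρ (τ (ι j))))) := by
  rw [H.comp σ hσ _ (H.stab τ hτ _ (H.mem j))]
  rfl

/-- the hom -/
def hom : B →* Perm (Fin m) where
  toFun σ :=
    { toFun := fun j => ρ ((σ : Perm (Fin n)) (ι j))
      invFun := fun j => ρ ((σ : Perm (Fin n))⁻¹ (ι j))
      left_inv := fun j => by
        show ρ ((σ : Perm (Fin n))⁻¹ (ι (ρ ((σ : Perm (Fin n)) (ι j))))) = j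
        rw [← H.mul_apply (inv_mem σ.2) σ.2, inv_mul_cancel]
        exact H.eq j
      right_inv := fun j => by
        show ρ ((σ : Perm (Fin n)) (ι (ρ ((σ : Perm (Fin n))⁻¹ (ι j))))) = j
        rw [← H.mul_apply σ.2 (inv_mem σ.2), mul_inv_cancel]
        exact H.eq j }
  map_one' := by
    ext j
    exact congrArg Fin.val (H.eq j)
  map_mul' σ τ := by
    ext j
    exact congrArg Fin.val (H.mul_apply σ.2 τ.2 j)

theorem hom_apply (σ : B) (j : Fin m) : H.hom σ j = ρ ((σ : Perm (Fin n)) (ι j)) := rfl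

end Ind

/-! ### degree 4 -/

theorem good_four : Good ({swap (2 : Fin 4) 3} : Set (Perm (Fin 4))) := by
  constructor
  · rw [← zpowers_eq_closure]
    apply IsPGroup.of_card (n := 1)
    rw [Nat.card_zpowers, pow_one]
    exact orderOf_eq_prime (by rw [pow_two]; exact swap_mul_self 2 3) (by decide)
  · intro S hS hE w hw ho
    have h1 : swap (2 : Fin 4) 3 ∈ S := hE rfl
    exact core (B := ⊤) hS hw ho h1 le_top (mem_top w) (⊤ : Subgroup (Perm (Fin 4))).subtype (s := swap (2 : Fin 4) 3) rfl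
      (m := 2) (fun w => t12 w) t4

/-! ### fibrations -/

theorem isPGroup_fib {n : ℕ} (f2 : Fin n → Fin 4) (f1 : Fin n → Fin 2)
    (h2 : ∀ x y z, f1 x = f1 y → f1 y = f1 z → f2 x ≠ f2 y → f2 y ≠ f2 z → f2 x = f2 z)
    (h3 : ∀ x y z, f2 x = f2 y → f2 y = f2 z → x ≠ y → y ≠ z → x = z)
    {E : Set (Perm (Fin n))}
    (hE : ∀ e ∈ E, ∀ x y, (f1 (e x) = f1 (e y) ↔ f1 x = f1 y) ∧ (f2 (e x) = f2 (e y) ↔ f2 x = f2 y)) :
    IsPGroup 2 (closure E) := by
  have hall : ∀ g ∈ closure E, ∀ x y, (f1 (g x) = f1 (g y) ↔ f1 x = f1 y) ∧ (f2 (g x) = f2 (g y) ↔ f2 x = f2 y) := by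
    intro g hg
    induction hg using closure_induction with
    | mem x hx => exact hE x hx
    | one => exact fun x y => ⟨Iff.rfl, Iff.rfl⟩
    | mul a b _ _ ha hb =>
      intro x y
      exact ⟨((ha _ _).1).trans (hb x y).1, ((ha _ _).2).trans (hb x y).2⟩
    | inv a _ ha =>
      intro x y
      have h := ha (a⁻¹ x) (a⁻¹ y)
      rw [show a (a⁻¹ x) = x from a.apply_symm_apply x, show a (a⁻¹ y) = y from a.apply_symm_apply y] at h
      exact ⟨h.1.symm, h.2.symm⟩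
  have h1 : ∀ x y z : Fin 2, x ≠ y → y ≠ z → x = z := by decide
  rintro ⟨g, hg⟩
  refine ⟨3, Subtype.ext ?_⟩
  show g ^ 2 ^ 3 = 1
  have k1 : ∀ x, f1 ((g * g) x) = f1 x := by
    intro x
    show f1 (g (g x)) = f1 x
    by_cases hx : f1 x = f1 (g x)
    · rw [← (hall g hg x (g x)).1.2 hx]
      exact hx.symm
    · exact (h1 _ _ _ hx (fun h => hx ((hall g hg x (g x)).1.1 h))).symm
  have hg2 : g * g ∈ closure E := mul_mem hg hg
  set a := g * g with ha
  have k2 : ∀ x, f2 ((a * a) x) = f2 x := by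
    intro x
    show f2 (a (a x)) = f2 x
    by_cases hx : f2 x = f2 (a x)
    · rw [← (hall a hg2 x (a x)).2.2 hx]
      exact hx.symm
    · exact (h2 _ _ _ (k1 x).symm (k1 (a x)).symm hx (fun h => hx ((hall a hg2 x (a x)).2.1 h))).symm
  have hg4 : a * a ∈ closure E := mul_mem hg2 hg2
  set b := a * a with hb
  have k3 : ∀ x, b (b x) = x := by
    intro x
    by_cases hx : x = b x
    · rw [← hx]; exact hx.symm
    · exact (h3 _ _ _ (k2 x).symm (k2 (b x)).symm hx (fun h => hx (b.injective h))).symm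
  have e : g ^ 2 ^ 3 = b * b := by
    rw [hb, ha]
    simp only [← pow_two, ← pow_mul]
    norm_num
  rw [e]
  exact Equiv.ext k3

/-! ### degree 7 -/

/-- the permutations of `Fin 7` which preserve `{3, 4, 5, 6}` -/
def B7 : Subgroup (Perm (Fin 7)) where
  carrier := {σ | ∀ x, (3 : Fin 7) ≤ σ x ↔ 3 ≤ x}
  mul_mem' := fun {σ τ} hσ hτ x => (hσ (τ x)).trans (hτ x)
  one_mem' := fun _ => Iff.rfl
  inv_mem' := fun {σ} hσ x => by
    have h := hσ (σ⁻¹ x)
    rw [show σ (σ⁻¹ x) = x from σ.apply_symm_apply x] at h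
    exact h.symm

theorem mem_B7 {σ : Perm (Fin 7)} : σ ∈ B7 ↔ ∀ x, (3 : Fin 7) ≤ σ x ↔ 3 ≤ x := Iff.rfl

def a7 : Perm (Fin 7) := swap (0 : Fin 7) 2 * swap (3 : Fin 7) 4
def b7 : Perm (Fin 7) := swap (3 : Fin 7) 5 * swap (4 : Fin 7) 6

def E7 : Set (Perm (Fin 7)) := {a7, b7}

theorem orbit_card {S : Subgroup (Perm (Fin 7))} (hS : IsPGroup 2 S) (hE : E7 ⊆ S) {x : Fin 7} (hx : 3 ≤ x) :
    (MulAction.orbit S x : Set (Fin 7)) = {y | 3 ≤ y} := by
  classical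
  have ha : a7 ∈ S := hE (by simp [E7])
  have hb : b7 ∈ S := hE (by simp [E7])
  have h1 : ({y | 3 ≤ y} : Set (Fin 7)) ⊆ MulAction.orbit S x := by
    have hd : ∀ x y : Fin 7, 3 ≤ x → 3 ≤ y → x = y ∨ a7 x = y ∨ b7 x = y ∨ (a7 * b7) x = y ∨
        (b7 * a7) x = y ∨ (b7 * a7 * b7) x = y := by decide
    intro y hy
    rcases hd x y hx hy with h | h | h | h | h | h
    · exact ⟨1, h⟩
    · exact ⟨⟨a7, ha⟩, h⟩
    · exact ⟨⟨b7, hb⟩, h⟩
    · exact ⟨⟨a7 * b7, mul_mem ha hb⟩, h⟩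
    · exact ⟨⟨b7 * a7, mul_mem hb ha⟩, h⟩
    · exact ⟨⟨b7 * a7 * b7, mul_mem (mul_mem hb ha) hb⟩, h⟩
  haveI : Fact (Nat.Prime 2) := ⟨Nat.prime_two⟩
  obtain ⟨n, hn⟩ := hS.card_orbit x
  rw [Nat.card_coe_set_eq] at hn
  have h4 : ({y | 3 ≤ y} : Set (Fin 7)).ncard = 4 := by
    rw [Set.ncard_eq_toFinset_card']
    decide
  have h5 : 4 ≤ (MulAction.orbit S x : Set (Fin 7)).ncard := by
    rw [← h4]; exact Set.ncard_le_ncard h1 (Set.toFinite _)
  have h6 : (MulAction.orbit S x : Set (Fin 7)).ncard ≤ 7 := by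
    have := Set.ncard_le_card (MulAction.orbit S x : Set (Fin 7))
    rwa [Nat.card_eq_fintype_card, Fintype.card_fin] at this
  have h7 : n = 2 := by
    rw [hn] at h5 h6
    have h8 : n < 3 := by
      by_contra h
      have : 2 ^ 3 ≤ 2 ^ n := Nat.pow_le_pow_right (by norm_num) (by omega)
      omega
    have h9 : 1 < n := by
      by_contra h
      have : 2 ^ n ≤ 2 ^ 1 := Nat.pow_le_pow_right (by norm_num) (by omega)
      omega
    omega
  symm
  apply Set.eq_of_subset_of_ncard_le h1 _ (Set.toFinite _)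
  rw [hn, h7, h4]
  norm_num

theorem le_B7 {S : Subgroup (Perm (Fin 7))} (hS : IsPGroup 2 S) (hE : E7 ⊆ S) : S ≤ B7 := by
  have key : ∀ σ ∈ S, ∀ x, (3 : Fin 7) ≤ x → 3 ≤ σ x := by
    intro σ hσ x hx
    have h1 : σ x ∈ (MulAction.orbit S x : Set (Fin 7)) := ⟨⟨σ, hσ⟩, rfl⟩
    rw [orbit_card hS hE hx] at h1
    exact h1
  intro σ hσ x
  refine ⟨fun h => ?_, key σ hσ x⟩
  have h2 := key σ⁻¹ (inv_mem hσ) _ h
  rwa [show σ⁻¹ (σ x) = x from σ.symm_apply_apply x] at h2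

theorem norm_B7 {S : Subgroup (Perm (Fin 7))} (hS : IsPGroup 2 S) (hE : E7 ⊆ S) {w : Perm (Fin 7)}
    (hw : w ∈ normalizer (S : Set (Perm (Fin 7)))) : w ∈ B7 := by
  classical
  have h4 : ({y | 3 ≤ y} : Set (Fin 7)).ncard = 4 := by
    rw [Set.ncard_eq_toFinset_card']
    decide
  have himg : ∀ w ∈ normalizer (S : Set (Perm (Fin 7))), ∀ y : Fin 7, 3 ≤ y →
      ∃ s ∈ S, w y = s (w 3) := by
    intro w hw y hy
    have h1 : y ∈ (MulAction.orbit S (3 : Fin 7) : Set (Fin 7)) := by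
      rw [orbit_card hS hE le_rfl]; exact hy
    obtain ⟨⟨s, hs⟩, hsy⟩ := h1
    refine ⟨w * s * w⁻¹, (mem_normalizer_iff.1 hw s).1 hs, ?_⟩
    have hsy' : s 3 = y := hsy
    rw [← hsy']
    simp [Perm.mul_apply]
  have hthree : ∀ w ∈ normalizer (S : Set (Perm (Fin 7))), (3 : Fin 7) ≤ w 3 := by
    intro w hw
    by_contra hcon
    have hall : ∀ y : Fin 7, 3 ≤ y → ¬ 3 ≤ w y := by
      intro y hy h
      obtain ⟨s, hs, he⟩ := himg w hw y hy
      rw [he] at h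
      exact hcon ((mem_B7.1 (le_B7 hS hE hs) (w 3)).1 h)
    have h5 : (w '' ({y | 3 ≤ y} : Set (Fin 7))).ncard = 4 := by
      rw [Set.ncard_image_of_injective _ w.injective, h4]
    have h6 : (w '' ({y | 3 ≤ y} : Set (Fin 7))) ⊆ {y | ¬ 3 ≤ y} := by
      rintro _ ⟨y, hy, rfl⟩
      exact hall y hy
    have h7 : ({y | ¬ 3 ≤ y} : Set (Fin 7)).ncard = 3 := by
      rw [Set.ncard_eq_toFinset_card']
      decide
    have h8 := Set.ncard_le_ncard h6 (Set.toFinite _)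
    omega
  have key : ∀ w ∈ normalizer (S : Set (Perm (Fin 7))), ∀ y : Fin 7, 3 ≤ y → 3 ≤ w y := by
    intro w hw y hy
    obtain ⟨s, hs, he⟩ := himg w hw y hy
    rw [he]
    exact (mem_B7.1 (le_B7 hS hE hs) (w 3)).2 (hthree w hw)
  intro x
  refine ⟨fun h => ?_, key w hw x⟩
  have h2 := key w⁻¹ (inv_mem hw) _ h
  rwa [show w⁻¹ (w x) = x from w.symm_apply_apply x] at h2

def iA : Fin 4 → Fin 7 := ![5, 6, 3, 4]
def rA : Fin 7 → Fin 4 := ![0, 0, 0, 2, 3, 0, 1]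
def iB : Fin 3 → Fin 7 := ![0, 2, 1]
def rB : Fin 7 → Fin 3 := ![0, 2, 1, 0, 0, 0, 0]

theorem indA : Ind B7 {x | 3 ≤ x} iA rA where
  stab := fun σ hσ x hx => (mem_B7.1 hσ x).2 hx
  mem := by decide
  eq := by decide
  comp := fun σ _ x hx => by
    have h : ∀ x : Fin 7, 3 ≤ x → iA (rA x) = x := by decide
    rw [h x hx]

theorem indB : Ind B7 {x | ¬ 3 ≤ x} iB rB where
  stab := fun σ hσ x hx => fun h => hx ((mem_B7.1 hσ x).1 h)
  mem := by decide
  eq := by decide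
  comp := fun σ _ x hx => by
    have h : ∀ x : Fin 7, ¬ 3 ≤ x → iB (rB x) = x := by decide
    rw [h x hx]

theorem good_seven : Good E7 := by
  constructor
  · apply isPGroup_fib (![1, 0, 1, 3, 3, 2, 2]) (![0, 0, 0, 1, 1, 1, 1])
    · decide
    · decide
    · rintro e (rfl | rfl) <;> decide
  · intro S hS hE w hw ho
    have ha : a7 ∈ S := hE (by simp [E7])
    have h1 := core hS hw ho ha (le_B7 hS hE) (norm_B7 hS hE hw) indA.hom (s := swap 2 3)
      (Equiv.ext (show ∀ j, rA (a7 (iA j)) = swap 2 3 j by decide)) (m := 2) t12 t4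
    have h2 := core hS hw ho ha (le_B7 hS hE) (norm_B7 hS hE hw) indB.hom (s := swap 0 1)
      (Equiv.ext (show ∀ j, rB (a7 (iB j)) = swap 0 1 j by decide)) (m := 1) t6 t3
    have hwB := mem_B7.1 (norm_B7 hS hE hw)
    ext x
    by_cases hx : 3 ≤ x
    · have hA : ∀ x : Fin 7, 3 ≤ x → iA (rA x) = x := by decide
      have h3 : indA.hom ⟨w, norm_B7 hS hE hw⟩ (rA x) = rA x := by rw [h1]; rfl
      rw [Ind.hom_apply, hA x hx] at h3
      have h4 : w x = iA (rA (w x)) := (hA _ ((hwB x).2 hx)).symm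
      have h3' : rA (w x) = rA x := h3
      rw [h4, h3', hA x hx]
      rfl
    · have hA : ∀ x : Fin 7, ¬ 3 ≤ x → iB (rB x) = x := by decide
      have h3 : indB.hom ⟨w, norm_B7 hS hE hw⟩ (rB x) = rB x := by rw [h2]; rfl
      rw [Ind.hom_apply, hA x hx] at h3
      have h4 : w x = iB (rB (w x)) := (hA _ (fun h => hx ((hwB x).1 h))).symm
      have h3' : rB (w x) = rB x := h3
      rw [h4, h3', hA x hx]
      rfl

end Cfsg.Agent.H745.PermTwo
end

-- part: H745/RowAbs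
section
/-!
# Groups with a frame of commuting `SL₂(q)`, `q` odd: elements of odd order of `N(T)` centralise `T` (helper745)

For S5161 (rows of Lie type in odd characteristic). Main result: `Frame.oddRow`.
-/

set_option autoImplicit false
set_option linter.style.haveILetI false
set_option linter.unusedSectionVars false

namespace Cfsg.Agent.H745.RowAbs

open Subgroup Cfsg.Agent.Cit Matrix

variable {K : Type*} [Group K]

/-! ### generalised quaternion groups -/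

theorem q8_pair : ∀ x y : QuaternionGroup 2, x * x ≠ 1 → y * y ≠ 1 → y ≠ x → y ≠ x⁻¹ →
    x * y * x⁻¹ = y⁻¹ ∧ y * x * y⁻¹ = x⁻¹ := by decide +kernel

theorem pair_of_card {Q : Subgroup K} (hQ : AutQuat.IsQ Q) (h8 : Nat.card Q = 8) {x y : K} (hx : x ∈ Q) (hy : y ∈ Q)
    (hx2 : x * x ≠ 1) (hy2 : y * y ≠ 1) (h1 : y ≠ x) (h2 : y ≠ x⁻¹) :
    x * y * x⁻¹ = y⁻¹ ∧ y * x * y⁻¹ = x⁻¹ := by
  obtain ⟨n, ⟨e⟩⟩ := hQ
  have hn : n = 0 := by
    by_contra hn
    have h3 : Nat.card Q = 4 * 2 ^ (n + 1) := by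
      rw [Nat.card_congr e.toEquiv, Nat.card_eq_fintype_card, QuaternionGroup.card]
    have h4 : 2 ^ 2 ≤ 2 ^ (n + 1) := Nat.pow_le_pow_right (by norm_num) (by omega)
    omega
  subst hn
  have key := q8_pair (e ⟨x, hx⟩) (e ⟨y, hy⟩)
    (fun h => hx2 (by
      rw [← map_mul, map_eq_one_iff e e.injective] at h
      exact congrArg Subtype.val h))
    (fun h => hy2 (by
      rw [← map_mul, map_eq_one_iff e e.injective] at h
      exact congrArg Subtype.val h))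
    (fun h => h1 (congrArg Subtype.val (e.injective h)))
    (fun h => h2 (by
      rw [← map_inv] at h
      exact congrArg Subtype.val (e.injective h)))
  constructor
  · have h := key.1
    rw [← map_inv, ← map_mul, ← map_mul, ← map_inv] at h
    exact congrArg Subtype.val (e.injective h)
  · have h := key.2
    rw [← map_inv, ← map_mul, ← map_mul, ← map_inv] at h
    exact congrArg Subtype.val (e.injective h)

/-- elements of odd order normalising a generalised quaternion group centralise it, in the case of `Q₈` if they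
fix a subgroup of order `4` -/
theorem centralizes_of {Q : Subgroup K} (hQ : AutQuat.IsQ Q) {w : K} (hw : w ∈ normalizer (Q : Set K))
    (ho : Odd (orderOf w))
    (h8 : Nat.card Q = 8 → ∃ x ∈ Q, x * x ≠ 1 ∧ (w * x * w⁻¹ = x ∨ w * x * w⁻¹ = x⁻¹)) :
    ∀ x ∈ Q, w * x = x * w := by
  obtain ⟨n, ⟨e⟩⟩ := hQ
  set φ : MulAut Q := Q.normalizerMonoidHom ⟨w, hw⟩ with hφ
  have hap : ∀ x : Q, ((φ x : Q) : K) = w * x * w⁻¹ := fun x => rfl
  have hpow : φ ^ (orderOf w) = 1 := by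
    rw [hφ, ← map_pow]
    have : (⟨w, hw⟩ : normalizer (Q : Set K)) ^ orderOf w = 1 := Subtype.ext (pow_orderOf_eq_one w)
    rw [this, map_one]
  have h1 : φ = 1 := by
    rcases Nat.eq_zero_or_pos n with hn | hn
    · subst hn
      have hc : Nat.card Q = 8 := by
        rw [Nat.card_congr e.toEquiv, Nat.card_eq_fintype_card, QuaternionGroup.card]
        norm_num
      obtain ⟨x, hx, hx2, hxw⟩ := h8 hc
      have h2 : MulAut.congr e φ = 1 := by
        refine S0950.lemA _ (orderOf w) ho (by rw [← map_pow, hpow, map_one]) (e ⟨x, hx⟩) ?_ ?_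
        · intro h
          rw [← map_mul, map_eq_one_iff e e.injective] at h
          exact hx2 (congrArg Subtype.val h)
        · have h3 : (MulAut.congr e φ) (e ⟨x, hx⟩) = e (φ ⟨x, hx⟩) := by
            show e (φ (e.symm (e ⟨x, hx⟩))) = _
            rw [MulEquiv.symm_apply_apply]
          rw [h3]
          rcases hxw with h4 | h4
          · left
            congr 1
            exact Subtype.ext h4
          · right
            rw [← map_inv]
            congr 1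
            exact Subtype.ext h4
      exact (MulAut.congr e).injective (by rw [h2, map_one])
    · exact LFourB.ProdAut.eq_one_of_odd' (by omega) e φ ho hpow
  intro x hx
  have h2 := hap ⟨x, hx⟩
  rw [h1, MulAut.one_apply] at h2
  have h3 : x = w * x * w⁻¹ := h2
  calc w * x = w * x * w⁻¹ * w := by group
    _ = x * w := by rw [← h3]

theorem exists_pair {Q : Subgroup K} (hQ : AutQuat.IsQ Q) : ∃ a ∈ Q, ∃ b ∈ Q, a * b ≠ b * a := by
  obtain ⟨x, hx, hx4⟩ := hQ.exists_four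
  obtain ⟨y, hy, hxy⟩ := hQ.exists_inverts x hx
  refine ⟨x, hx, y, hy, fun h => ?_⟩
  have h5 : x = x⁻¹ := by
    rw [← hxy, ← h]
    group
  have h6 : x ^ 2 = 1 := by rw [pow_two]; nth_rewrite 2 [h5]; exact mul_inv_cancel x
  have h7 := orderOf_dvd_of_pow_eq_one h6
  rw [hx4] at h7
  omega

theorem norm_cj {M : Type*} [Group M] {T : Subgroup M} {w : M} (hw : w ∈ normalizer (T : Set M)) (h : M) :
    h * w * h⁻¹ ∈ normalizer ((cj h T : Subgroup M) : Set M) := by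
  rw [mem_normalizer_iff_cj] at hw ⊢
  rw [← cj_mul, show h * w * h⁻¹ * h = h * w by group, cj_mul, hw]

theorem coe_smul {M : Type*} [Group M] {S T : Sylow 2 M} {h : M} (hh : h • T = S) :
    (S : Subgroup M) = cj h (T : Subgroup M) := by
  rw [← hh]
  rfl

/-- all 2-subgroups of the range are contained in the image of any Sylow subgroup up to conjugation -/
theorem odd_map {M P : Type*} [Group M] [Group P] [Finite M] (π : M →* P) (T : Sylow 2 M) {w : M}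
    (hw : w ∈ normalizer ((T : Subgroup M) : Set M)) (ho : Odd (orderOf w)) {R : Subgroup M} (hR : IsPGroup 2 R)
    (hgood : ∀ S : Subgroup P, IsPGroup 2 S → R.map π ≤ S →
      ∀ w ∈ normalizer (S : Set P), Odd (orderOf w) → w = 1) : π w = 1 := by
  haveI : Fact (Nat.Prime 2) := ⟨Nat.prime_two⟩
  obtain ⟨S, hS⟩ := hR.exists_le_sylow
  obtain ⟨h, hh⟩ := MulAction.exists_smul_eq M T S
  have h1 := norm_cj hw h
  rw [← coe_smul hh] at h1
  have h2 : π (h * w * h⁻¹) = 1 := by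
    refine hgood _ (S.isPGroup'.map π) (Subgroup.map_mono hS) _ (le_normalizer_map π ⟨_, h1, rfl⟩) ?_
    have h3 : orderOf (π (h * w * h⁻¹)) ∣ orderOf w := by
      refine (orderOf_map_dvd _ _).trans ?_
      have e1 : orderOf (h * w * h⁻¹) = orderOf w := (MulAut.conj h).orderOf_eq _
      rw [e1]
    exact ho.of_dvd_nat h3
  rw [map_mul, map_mul, map_inv] at h2
  exact mul_eq_left.1 (mul_inv_eq_one.1 h2)

/-- a 2-subgroup of the range is covered by a 2-subgroup -/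
theorem exists_two_lift {M P : Type*} [Group M] [Group P] [Finite M] (π : M →* P) (C : Subgroup P) (hC : IsPGroup 2 C)
    (hle : C ≤ π.range) : ∃ R : Subgroup M, IsPGroup 2 R ∧ C ≤ R.map π := by
  haveI : Fact (Nat.Prime 2) := ⟨Nat.prime_two⟩
  let f : C.comap π →* C := (π.comp (C.comap π).subtype).codRestrict C fun x => x.2
  have hf : Function.Surjective f := by
    rintro ⟨c, hc⟩
    obtain ⟨x, rfl⟩ := hle hc
    exact ⟨⟨x, hc⟩, rfl⟩
  haveI : Finite C := Finite.of_surjective f hf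
  obtain ⟨Q⟩ : Nonempty (Sylow 2 (C.comap π)) := inferInstance
  have h1 : ((Q.mapSurjective hf : Sylow 2 C) : Subgroup C) = ⊤ := by
    symm
    exact (Q.mapSurjective hf).3 (hC.to_subgroup ⊤) le_top
  refine ⟨(Q : Subgroup (C.comap π)).map (C.comap π).subtype, Q.isPGroup'.map _, fun c hc => ?_⟩
  have h2 : (⟨c, hc⟩ : C) ∈ ((Q.mapSurjective hf : Sylow 2 C) : Subgroup C) := by
    rw [h1]
    exact mem_top _
  obtain ⟨q, hq, hqc⟩ := h2
  exact ⟨(q : M), ⟨q, hq, rfl⟩, congrArg Subtype.val hqc⟩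

theorem eq_one_of_coprime {u : K} {k j : ℕ} (hk : Odd k) (h1 : u ^ k = 1) (h2 : u ^ 2 ^ j = 1) : u = 1 := by
  have h4 : orderOf u ∣ 1 := by
    have hc : Nat.Coprime k (2 ^ j) := Nat.Coprime.pow_right _ (Nat.coprime_two_right.2 hk)
    rw [← hc]
    exact Nat.dvd_gcd (orderOf_dvd_of_pow_eq_one h1) (orderOf_dvd_of_pow_eq_one h2)
  rwa [Nat.dvd_one, orderOf_eq_one_iff] at h4

theorem of_mem_zpowers {x y : K} (hx : orderOf x = 4) (hy : orderOf y = 4) (h : y ∈ zpowers x) : y = x ∨ y = x⁻¹ := by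
  have hfin : 0 < orderOf x := by omega
  obtain ⟨k, hk, rfl⟩ : ∃ k < orderOf x, x ^ k = y := by
    obtain ⟨k, hk⟩ := (mem_zpowers_iff).1 h
    refine ⟨(k % (orderOf x : ℤ)).toNat, ?_, ?_⟩
    · have h1 := Int.emod_lt_of_pos k (b := (orderOf x : ℤ)) (by exact_mod_cast hfin)
      have h2 := Int.emod_nonneg k (b := (orderOf x : ℤ)) (by exact_mod_cast hfin.ne')
      omega
    · have h2 := Int.emod_nonneg k (b := (orderOf x : ℤ)) (by exact_mod_cast hfin.ne')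
      rw [← zpow_natCast, Int.toNat_of_nonneg h2, zpow_mod_orderOf, hk]
  rw [hx] at hk
  have h4 : x ^ 4 = 1 := by rw [← hx]; exact pow_orderOf_eq_one x
  interval_cases k
  · rw [pow_zero, orderOf_one] at hy
    omega
  · left
    exact pow_one x
  · exfalso
    have h5 : (x ^ 2) ^ 2 = 1 := by rw [← pow_mul]; exact h4
    have := orderOf_dvd_of_pow_eq_one h5
    rw [hy] at this
    omega
  · right
    rw [eq_inv_iff_mul_eq_one, ← pow_succ]
    exact h4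

/-- an element which normalises two cyclic subgroups of order `4` acts like an inner automorphism -/
theorem exists_inner {Q : Subgroup K} {x y t : K} (hx : x ∈ Q) (hy : y ∈ Q)
    (h1 : x * y * x⁻¹ = y⁻¹) (h2 : y * x * y⁻¹ = x⁻¹) (htx : t * x * t⁻¹ = x ∨ t * x * t⁻¹ = x⁻¹)
    (hty : t * y * t⁻¹ = y ∨ t * y * t⁻¹ = y⁻¹) :
    ∃ q ∈ Q, q⁻¹ * t * x = x * (q⁻¹ * t) ∧ q⁻¹ * t * y = y * (q⁻¹ * t) := by
  have key : ∀ q u : K, q * u * q⁻¹ = t * u * t⁻¹ → q⁻¹ * t * u = u * (q⁻¹ * t) := by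
    intro q u h
    calc q⁻¹ * t * u = q⁻¹ * (t * u * t⁻¹) * t := by group
      _ = q⁻¹ * (q * u * q⁻¹) * t := by rw [h]
      _ = u * (q⁻¹ * t) := by group
  have h3 : x * x * x⁻¹ = x := by group
  have h4 : y * y * y⁻¹ = y := by group
  rcases htx with a | a <;> rcases hty with b | b
  · refine ⟨1, Q.one_mem, key _ _ ?_, key _ _ ?_⟩
    · rw [a]; group
    · rw [b]; group
  · exact ⟨x, hx, key _ _ (by rw [a, h3]), key _ _ (by rw [b, h1])⟩
  · exact ⟨y, hy, key _ _ (by rw [a, h2]), key _ _ (by rw [b, h4])⟩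
  · refine ⟨x * y, Q.mul_mem hx hy, key _ _ ?_, key _ _ ?_⟩
    · rw [a]
      calc x * y * x * (x * y)⁻¹ = x * (y * x * y⁻¹) * x⁻¹ := by group
        _ = x⁻¹ := by rw [h2]; group
    · rw [b]
      calc x * y * y * (x * y)⁻¹ = x * y * x⁻¹ := by group
        _ = y⁻¹ := h1

/-! ### two by two matrices -/

variable {F : Type*} [Field F]

/-- a matrix commuting with two noncommuting matrices is scalar -/
theorem scalar_of_comm {m x y : Matrix (Fin 2) (Fin 2) F} (hx : m * x = x * m) (hy : m * y = y * m)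
    (hxy : x * y ≠ y * x) : ∃ c : F, m = c • (1 : Matrix (Fin 2) (Fin 2) F) := by
  have e1 : ∀ a b : Matrix (Fin 2) (Fin 2) F, a * b = b * a ↔
      (a 0 1 * b 1 0 = b 0 1 * a 1 0 ∧ a 0 0 * b 0 1 + a 0 1 * b 1 1 = b 0 0 * a 0 1 + b 0 1 * a 1 1 ∧
        a 1 0 * b 0 0 + a 1 1 * b 1 0 = b 1 0 * a 0 0 + b 1 1 * a 1 0) := by
    intro a b
    constructor
    · intro h
      have h00 := congrFun (congrFun h 0) 0
      have h01 := congrFun (congrFun h 0) 1
      have h10 := congrFun (congrFun h 1) 0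
      simp only [Matrix.mul_apply, Fin.sum_univ_two] at h00 h01 h10
      exact ⟨by linear_combination h00, h01, h10⟩
    · rintro ⟨h1, h2, h3⟩
      ext i j
      fin_cases i <;> fin_cases j <;> simp only [Matrix.mul_apply, Fin.sum_univ_two, Fin.zero_eta, Fin.mk_one]
      · linear_combination h1
      · exact h2
      · exact h3
      · linear_combination -h1
  rw [e1] at hx hy
  obtain ⟨x1, x2, x3⟩ := hx
  obtain ⟨y1, y2, y3⟩ := hy
  have hb : m 0 1 = 0 := by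
    by_contra hb
    apply hxy
    rw [e1]
    refine ⟨?_, ?_, ?_⟩
    · apply mul_left_cancel₀ hb
      linear_combination x 0 1 * y1 - y 0 1 * x1
    · apply mul_left_cancel₀ hb
      linear_combination x 0 1 * y2 - y 0 1 * x2
    · apply mul_left_cancel₀ hb
      linear_combination (y 0 0 - y 1 1) * x1 + y 1 0 * x2 + x 0 1 * y3
  have hc : m 1 0 = 0 := by
    by_contra hb
    apply hxy
    rw [e1]
    refine ⟨?_, ?_, ?_⟩
    · apply mul_left_cancel₀ hb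
      linear_combination x 1 0 * y1 - y 1 0 * x1
    · apply mul_left_cancel₀ hb
      linear_combination (y 0 0 - y 1 1) * x1 + y 0 1 * x3 + x 1 0 * y2
    · apply mul_left_cancel₀ hb
      linear_combination x 1 0 * y3 - y 1 0 * x3
  have he : m 0 0 = m 1 1 := by
    by_contra he
    have hb' : m 0 0 - m 1 1 ≠ 0 := sub_ne_zero.2 he
    rw [hb] at x2 y2
    rw [hc] at x3 y3
    have p1 : x 0 1 = 0 := by
      apply (mul_eq_zero.1 (show (m 0 0 - m 1 1) * x 0 1 = 0 by linear_combination x2)).resolve_left hb'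
    have p2 : x 1 0 = 0 := by
      apply (mul_eq_zero.1 (show (m 0 0 - m 1 1) * x 1 0 = 0 by linear_combination -x3)).resolve_left hb'
    have p3 : y 0 1 = 0 := by
      apply (mul_eq_zero.1 (show (m 0 0 - m 1 1) * y 0 1 = 0 by linear_combination y2)).resolve_left hb'
    have p4 : y 1 0 = 0 := by
      apply (mul_eq_zero.1 (show (m 0 0 - m 1 1) * y 1 0 = 0 by linear_combination -y3)).resolve_left hb'
    apply hxy
    rw [e1]
    rw [p1, p2, p3, p4]
    exact ⟨by ring, by ring, by ring⟩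
  refine ⟨m 0 0, ?_⟩
  ext i j
  fin_cases i <;> fin_cases j <;> simp [hb, hc, he]


/-! ### actions by matrices -/

local notation "SL2" => Matrix.SpecialLinearGroup (Fin 2)

section Acts

variable {φ : SL2 F →* K}

/-- `g` acts on the image of `φ` like the matrix `m` -/
def Acts (φ : SL2 F →* K) (g : K) (m : Matrix (Fin 2) (Fin 2) F) : Prop :=
  m.det ≠ 0 ∧ ∀ x y : SL2 F, g * φ x = φ y * g → m * x.1 = y.1 * m

theorem exists_of_norm {g : K} (hg : g ∈ normalizer ((φ.range : Subgroup K) : Set K)) (x : SL2 F) :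
    ∃ y, g * φ x = φ y * g := by
  have h1 : g * φ x * g⁻¹ ∈ φ.range := (mem_normalizer_iff.1 hg _).1 ⟨x, rfl⟩
  obtain ⟨y, hy⟩ := h1
  exact ⟨y, by rw [hy]; group⟩

namespace Acts

variable {g g' : K} {m m' : Matrix (Fin 2) (Fin 2) F}

theorem mul (h : Acts φ g m) (h' : Acts φ g' m') (hg' : g' ∈ normalizer ((φ.range : Subgroup K) : Set K)) :
    Acts φ (g * g') (m * m') := by
  refine ⟨by rw [det_mul]; exact mul_ne_zero h.1 h'.1, fun x y hxy => ?_⟩
  obtain ⟨v, hv⟩ := exists_of_norm hg' x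
  have h1 : g * φ v = φ y * g := by
    apply mul_right_cancel (b := g')
    rw [mul_assoc, ← hv, ← mul_assoc, hxy, mul_assoc]
  rw [mul_assoc, h'.2 _ _ hv, ← mul_assoc, h.2 _ _ h1, mul_assoc]

theorem inv (h : Acts φ g m) : Acts φ g⁻¹ m⁻¹ := by
  have hu : IsUnit m.det := isUnit_iff_ne_zero.2 h.1
  refine ⟨?_, fun x y hxy => ?_⟩
  · rw [det_nonsing_inv, Ring.inverse_eq_inv']
    exact inv_ne_zero h.1
  · have h1 : g * φ y = φ x * g := by
      calc g * φ y = g * (φ y * g⁻¹) * g := by group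
        _ = g * (g⁻¹ * φ x) * g := by rw [hxy]
        _ = φ x * g := by group
    have h2 := h.2 _ _ h1
    have h3 : m⁻¹ * (m * y.1) * m⁻¹ = m⁻¹ * (x.1 * m) * m⁻¹ := by rw [h2]
    rw [← mul_assoc, nonsing_inv_mul _ hu, one_mul] at h3
    rw [← mul_assoc, mul_assoc, mul_nonsing_inv _ hu, mul_one] at h3
    exact h3.symm

theorem of_range (hinj : Function.Injective φ) (q : SL2 F) : Acts φ (φ q) q.1 := by
  refine ⟨by rw [q.2]; exact one_ne_zero, fun x y hxy => ?_⟩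
  rw [← map_mul, ← map_mul] at hxy
  exact congrArg Subtype.val (hinj hxy)

theorem pow (h : Acts φ g m) (hg : g ∈ normalizer ((φ.range : Subgroup K) : Set K)) (hinj : Function.Injective φ)
    (k : ℕ) : Acts φ (g ^ k) (m ^ k) := by
  induction k with
  | zero =>
    rw [pow_zero, pow_zero]
    have := of_range hinj (1 : SL2 F)
    rwa [map_one] at this
  | succ k ih =>
    rw [pow_succ, pow_succ]
    exact ih.mul h hg

theorem scalar (h : Acts φ g m) {x y : SL2 F} (hx : g * φ x = φ x * g) (hy : g * φ y = φ y * g)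
    (hxy : x * y ≠ y * x) : ∃ c : F, m = c • (1 : Matrix (Fin 2) (Fin 2) F) := by
  refine scalar_of_comm (h.2 _ _ hx) (h.2 _ _ hy) (fun h1 => hxy ?_)
  exact Subtype.ext h1

theorem cent {c : F} (h : Acts φ g (c • (1 : Matrix (Fin 2) (Fin 2) F)))
    (hg : g ∈ normalizer ((φ.range : Subgroup K) : Set K)) (x : SL2 F) : g * φ x = φ x * g := by
  obtain ⟨y, hy⟩ := exists_of_norm hg x
  have h1 := h.2 _ _ hy
  have hc : c ≠ 0 := by
    rintro rfl
    apply h.1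
    rw [zero_smul]
    exact det_zero
  have h2 : x.1 = y.1 := by
    rw [smul_mul_assoc, one_mul, mul_smul_comm, mul_one] at h1
    exact smul_right_injective _ hc h1
  have h3 : x = y := Subtype.ext h2
  rw [hy, ← h3]

/-- an element which commutes with two noncommuting elements of the image centralises the image -/
theorem centralizes (h : Acts φ g m) (hg : g ∈ normalizer ((φ.range : Subgroup K) : Set K)) {a b : K}
    (ha : a ∈ φ.range) (hb : b ∈ φ.range) (hab : a * b ≠ b * a) (hga : g * a = a * g) (hgb : g * b = b * g)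
    (x : SL2 F) : g * φ x = φ x * g := by
  obtain ⟨u, rfl⟩ := ha
  obtain ⟨v, rfl⟩ := hb
  obtain ⟨c, rfl⟩ := h.scalar hga hgb (fun h1 => hab (by rw [← map_mul, ← map_mul, h1]))
  exact h.cent hg x

theorem isSquare (hinj : Function.Injective φ) (h : Acts φ g m) {q a b : K}
    (hq : q ∈ φ.range) (ha : a ∈ φ.range) (hb : b ∈ φ.range) (hab : a * b ≠ b * a)
    (hga : q⁻¹ * g * a = a * (q⁻¹ * g)) (hgb : q⁻¹ * g * b = b * (q⁻¹ * g))
    (hg : g ∈ normalizer ((φ.range : Subgroup K) : Set K)) : IsSquare m.det := by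
  obtain ⟨q, rfl⟩ := hq
  obtain ⟨u, rfl⟩ := ha
  obtain ⟨v, rfl⟩ := hb
  have h1 : Acts φ (φ q⁻¹ * g) (q⁻¹.1 * m) := (of_range hinj q⁻¹).mul h hg
  rw [map_inv] at h1
  obtain ⟨c, hc⟩ := h1.scalar hga hgb (fun h1 => hab (by rw [← map_mul, ← map_mul, h1]))
  have h2 := congrArg Matrix.det hc
  rw [det_mul, q⁻¹.2, one_mul, det_smul, det_one, mul_one, Fintype.card_fin] at h2
  exact ⟨c, by rw [h2, pow_two]⟩

end Acts

end Acts

theorem not_isSquare_pow {d : F} (hd : ¬ IsSquare d) {k : ℕ} (hk : Odd k) (h0 : d ≠ 0) : ¬ IsSquare (d ^ k) := by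
  rintro ⟨c, hc⟩
  obtain ⟨j, rfl⟩ := hk
  apply hd
  refine ⟨c / d ^ j, ?_⟩
  have h1 : d ^ j ≠ 0 := pow_ne_zero _ h0
  rw [div_mul_div_comm, ← hc, ← pow_add, eq_div_iff (pow_ne_zero _ h0), ← pow_succ']
  congr 1
  ring

/-! ### the hypotheses -/

section Frame

variable {n : ℕ}

/-- the subgroup centralising all the involutions `φ i (-1)` -/
def Lam (φ : Fin n → (SL2 F →* K)) : Subgroup K := ⨅ i, centralizer {φ i (-1)}

theorem mem_Lam {φ : Fin n → (SL2 F →* K)} {g : K} : g ∈ Lam φ ↔ ∀ i, g * φ i (-1) = φ i (-1) * g := by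
  rw [Lam, mem_iInf]
  exact forall_congr' fun i => mem_centralizer_singleton_iff

/-- **The hypotheses.** -/
structure Frame (φ : Fin n → (SL2 F →* K)) (E : Set (Equiv.Perm (Fin n))) : Prop where
  inj : ∀ i, Function.Injective (φ i)
  comm : ∀ i j, i ≠ j → ∀ x y, φ i x * φ j y = φ j y * φ i x
  norm : ∀ i g, g * φ i (-1) = φ i (-1) * g → g ∈ normalizer (((φ i).range : Subgroup K) : Set K)
  conj : ∀ i j, ∃ g, cj g (φ i).range = (φ j).range
  acts : ∀ g ∈ Lam φ, ∀ i, ∃ m, Acts (φ i) g m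
  cent : ∀ g, (∀ i x, g * φ i x = φ i x * g) → ∀ h ∈ Lam φ, g * h = h * g
  nsq : ∀ i, ∃ g ∈ Lam φ, ∃ m, Acts (φ i) g m ∧ ¬ IsSquare m.det
  perm : ∀ σ ∈ E, ∃ g, ∀ i, cj g (φ i).range = (φ (σ i)).range
  good : PermTwo.Good E

/-- The hypotheses without the existence of elements acting with nonsquare determinant. -/
structure PFrame (φ : Fin n → (SL2 F →* K)) (E : Set (Equiv.Perm (Fin n))) : Prop where
  inj : ∀ i, Function.Injective (φ i)
  comm : ∀ i j, i ≠ j → ∀ x y, φ i x * φ j y = φ j y * φ i x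
  norm : ∀ i g, g * φ i (-1) = φ i (-1) * g → g ∈ normalizer (((φ i).range : Subgroup K) : Set K)
  conj : ∀ i j, ∃ g, cj g (φ i).range = (φ j).range
  acts : ∀ g ∈ Lam φ, ∀ i, ∃ m, Acts (φ i) g m
  cent : ∀ g, (∀ i x, g * φ i x = φ i x * g) → ∀ h ∈ Lam φ, g * h = h * g
  perm : ∀ σ ∈ E, ∃ g, ∀ i, cj g (φ i).range = (φ (σ i)).range
  good : PermTwo.Good E

theorem Frame.pre {φ : Fin n → (SL2 F →* K)} {E : Set (Equiv.Perm (Fin n))} (H : Frame φ E) : PFrame φ E :=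
  ⟨H.inj, H.comm, H.norm, H.conj, H.acts, H.cent, H.perm, H.good⟩

/-- there are elements acting with nonsquare determinant, or the Sylow 2-subgroups of `SL₂(F)` are not of order `8` -/
def NSQ (φ : Fin n → (SL2 F →* K)) (i : Fin n) : Prop :=
  (∃ g ∈ Lam φ, ∃ m, Acts (φ i) g m ∧ ¬ IsSquare m.det) ∨ 16 ∣ Nat.card (SL2 F)

/-- the stabiliser of the frame -/
def stab (φ : Fin n → (SL2 F →* K)) : Subgroup K where
  carrier := {g | ∃ σ : Equiv.Perm (Fin n), ∀ i, cj g (φ i).range = (φ (σ i)).range}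
  mul_mem' := by
    rintro a b ⟨σ, hσ⟩ ⟨τ, hτ⟩
    refine ⟨σ * τ, fun i => ?_⟩
    rw [cj_mul, hτ, hσ]
    rfl
  one_mem' := ⟨1, fun i => cj_one _⟩
  inv_mem' := by
    rintro a ⟨σ, hσ⟩
    refine ⟨σ⁻¹, fun i => ?_⟩
    have h1 := hσ (σ⁻¹ i)
    rw [show σ (σ⁻¹ i) = i from σ.apply_symm_apply i] at h1
    rw [← h1, cj_inv_cj]

theorem mem_stab {φ : Fin n → (SL2 F →* K)} {g : K} :
    g ∈ stab φ ↔ ∃ σ : Equiv.Perm (Fin n), ∀ i, cj g (φ i).range = (φ (σ i)).range := Iff.rfl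

/-- the permutation of the frame -/
noncomputable def ppi (φ : Fin n → (SL2 F →* K)) (hφ : ∀ i j, (φ i).range = (φ j).range → i = j) :
    stab φ →* Equiv.Perm (Fin n) :=
  MonoidHom.mk' (fun g => (mem_stab.1 g.2).choose) fun a b => by
    ext i
    congr 1
    apply hφ
    have h1 := (mem_stab.1 (a * b).2).choose_spec i
    have h2 := (mem_stab.1 b.2).choose_spec i
    have h3 := (mem_stab.1 a.2).choose_spec ((mem_stab.1 b.2).choose i)
    rw [← h1]
    show cj ((a : K) * b) _ = _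
    rw [cj_mul, h2, h3]
    rfl

theorem ppi_spec {φ : Fin n → (SL2 F →* K)} (hφ : ∀ i j, (φ i).range = (φ j).range → i = j) (g : stab φ) (i : Fin n) :
    cj (g : K) (φ i).range = (φ (ppi φ hφ g i)).range := (mem_stab.1 g.2).choose_spec i

/-- a Sylow 2-subgroup which meets `Λ` in a Sylow 2-subgroup -/
theorem exists_sylow [Finite K] (L : Subgroup K) :
    ∃ T : Sylow 2 K, ∀ R : Subgroup K, R ≤ L → IsPGroup 2 R → ∃ l ∈ L, cj l R ≤ T := by
  haveI : Fact (Nat.Prime 2) := ⟨Nat.prime_two⟩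
  obtain ⟨P⟩ : Nonempty (Sylow 2 L) := inferInstance
  obtain ⟨T, hT⟩ := (P.isPGroup'.map L.subtype).exists_le_sylow
  refine ⟨T, fun R hR h2 => ?_⟩
  have h3 : IsPGroup 2 (R.subgroupOf L) := h2.comap_subtype
  obtain ⟨Q, hQ⟩ := h3.exists_le_sylow
  obtain ⟨l, hl⟩ := MulAction.exists_smul_eq L Q P
  refine ⟨l, l.2, ?_⟩
  rintro _ ⟨r, hr, rfl⟩
  apply hT
  have h4 : (⟨r, hR hr⟩ : L) ∈ (Q : Subgroup L) := hQ hr
  have h5 : l * ⟨r, hR hr⟩ * l⁻¹ ∈ ((l • Q : Sylow 2 L) : Subgroup L) := by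
    rw [Sylow.coe_subgroup_smul]
    exact Subgroup.smul_mem_pointwise_smul _ (MulAut.conj l) _ h4
  rw [hl] at h5
  exact ⟨_, h5, rfl⟩

namespace PFrame

variable {φ : Fin n → (SL2 F →* K)} {E : Set (Equiv.Perm (Fin n))} (H : PFrame φ E)

theorem z_comm (i : Fin n) (x : SL2 F) : φ i x * φ i (-1) = φ i (-1) * φ i x := by
  rw [← map_mul, ← map_mul, mul_neg, neg_mul, mul_one, one_mul]

include H

theorem range_le (i : Fin n) : (φ i).range ≤ Lam φ := by
  rintro _ ⟨x, rfl⟩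
  rw [mem_Lam]
  intro j
  by_cases hij : i = j
  · subst hij
    exact z_comm i x
  · exact H.comm i j hij x _

theorem lam_norm (i : Fin n) : Lam φ ≤ normalizer (((φ i).range : Subgroup K) : Set K) :=
  fun g hg => H.norm i g (mem_Lam.1 hg i)

theorem mem_cls (i j : Fin n) : (φ j).range ∈ cls (φ i).range := by
  obtain ⟨g, hg⟩ := H.conj i j
  exact ⟨g, hg.symm⟩

variable [Fintype F] (hF : Odd (Fintype.card F))

include hF

theorem orderOf_z (i : Fin n) : orderOf (φ i (-1)) = 2 := by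
  rw [orderOf_injective _ (H.inj i), TwoFusion.QuatCoverSL.orderOf_neg_one hF]

theorem uniq (i : Fin n) {t : K} (ht : t ∈ (φ i).range) (h2 : orderOf t = 2) : t = φ i (-1) := by
  obtain ⟨x, rfl⟩ := ht
  rw [orderOf_injective _ (H.inj i)] at h2
  rw [TwoFusion.QuatCoverSL.eq_neg_one_of_orderOf_two hF x h2]

theorem hyp [Finite K] (i : Fin n) : Hyp (cls (φ i).range) ∧ zz (φ i).range = φ i (-1) := by
  haveI : Fact (Nat.Prime 2) := ⟨Nat.prime_two⟩
  have hle : centralizer ({φ i (-1)} : Set K) ≤ normalizer (((φ i).range : Subgroup K) : Set K) := by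
    intro g hg
    exact H.norm i g (mem_centralizer_singleton_iff.1 hg)
  refine hyp_of_class (φ i (-1)) (H.orderOf_z hF i) _ ⟨-1, rfl⟩ ?_ ?_ (fun t ht h2 => H.uniq hF i ht h2) ?_ ?_
  · haveI : ((φ i).range.subgroupOf (centralizer ({φ i (-1)} : Set K))).Normal := by
      rw [normal_subgroupOf_iff_le_normalizer]
      · exact hle
      · rintro _ ⟨x, rfl⟩
        rw [mem_centralizer_singleton_iff]
        exact z_comm i x
    exact Subgroup.Normal.isSubnormal inferInstance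
  · obtain ⟨P⟩ : Nonempty (Sylow 2 (SL2 F)) := inferInstance
    obtain ⟨k, hk, ⟨e⟩⟩ := S0261.result hF P
    let f : SL2 F ≃* (φ i).range := MonoidHom.ofInjective (H.inj i)
    refine ⟨(P.isPGroup'.map f.toMonoidHom).toSylow ?_, k - 1, ⟨?_⟩⟩
    · have h5 : ((P : Subgroup (SL2 F)).map f.toMonoidHom).index = (P : Subgroup (SL2 F)).index :=
        Subgroup.index_map_equiv _ f
      rw [h5]
      exact P.not_dvd_index
    · rw [Nat.sub_add_cancel hk]
      exact (((P : Subgroup (SL2 F)).equivMapOfInjective _ f.injective).symm).trans e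
  · intro u hu
    left
    exact mem_normalizer_iff_cj.1 (hle hu)
  · intro y _ g _ _ hg
    exact hle hg


theorem zz_eq [Finite K] (i : Fin n) : zz (φ i).range = φ i (-1) := (H.hyp hF i).2

theorem range_inj [Finite K] {i j : Fin n} (h : (φ i).range = (φ j).range) : i = j := by
  by_contra hij
  obtain ⟨Q, hQ⟩ := Hyp.exists_syl (φ i).range
  have h1 := (H.hyp hF i).1.isGQ (self_mem_cls _) hQ
  have h2 : AutQuat.IsQ Q := h1
  obtain ⟨x, hx, hx4⟩ := h2.exists_four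
  obtain ⟨y, hy, hxy⟩ := h2.exists_inverts x hx
  obtain ⟨u, hu⟩ := hQ.1 hx
  have h3 := hQ.1 hy
  rw [h] at h3
  obtain ⟨v, hv⟩ := h3
  have h4 := H.comm i j hij u v
  rw [hu, hv] at h4
  have h5 : x = x⁻¹ := by
    rw [← hxy, ← h4]
    group
  have h6 : x ^ 2 = 1 := by rw [pow_two]; nth_rewrite 2 [h5]; exact mul_inv_cancel x
  have h7 := orderOf_dvd_of_pow_eq_one h6
  rw [hx4] at h7
  omega


theorem lam_le_stab : Lam φ ≤ stab φ := fun _ hg =>
  ⟨1, fun i => mem_normalizer_iff_cj.1 (H.lam_norm i hg)⟩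

theorem mem_lam_of_perm [Finite K] {hφ : ∀ i j, (φ i).range = (φ j).range → i = j} {g : stab φ} (hg : ppi φ hφ g = 1) :
    (g : K) ∈ Lam φ := by
  rw [mem_Lam]
  intro i
  have h1 := ppi_spec hφ g i
  rw [hg] at h1
  have h2 : (g : K) ∈ normalizer (((φ i).range : Subgroup K) : Set K) := mem_normalizer_iff_cj.2 h1
  have h3 := (H.hyp hF i).1.comm_zz (self_mem_cls _) h2
  rwa [H.zz_eq hF i] at h3

/-! ### the 2-components of `T` -/

section

variable [Finite K] (T : Sylow 2 K)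
  (hT : ∀ R : Subgroup K, R ≤ Lam φ → IsPGroup 2 R → ∃ l ∈ Lam φ, cj l R ≤ T)

include hT

theorem mem_OmS (i₀ i : Fin n) : (φ i).range ∈ OmS (cls (φ i₀).range) (T : Subgroup K) := by
  obtain ⟨Q, hQ⟩ := Hyp.exists_syl (φ i).range
  obtain ⟨l, hl, h1⟩ := hT Q (hQ.1.trans (H.range_le i)) hQ.2.1
  have h2 := hQ.cj l
  rw [mem_normalizer_iff_cj.1 (H.lam_norm i hl)] at h2
  exact mem_OmS_of_le (H.mem_cls i₀ i) h2 h1

theorem isQ (i : Fin n) : AutQuat.IsQ ((φ i).range ⊓ (T : Subgroup K)) :=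
  (H.hyp hF i).1.isGQ (self_mem_cls _) (syl_inf T.isPGroup' (H.mem_OmS hF T hT i i))

theorem eq_of_mem_OmS (i₀ : Fin n) {L : Subgroup K} (hL : L ∈ OmS (cls (φ i₀).range) (T : Subgroup K)) :
    ∃ i, L = (φ i).range := by
  by_contra hcon
  push Not at hcon
  have hyp := (H.hyp hF i₀).1
  have hLQ : AutQuat.IsQ (L ⊓ (T : Subgroup K)) := hyp.isGQ hL.1 (syl_inf T.isPGroup' hL)
  obtain ⟨a, ha, b, hb, hab⟩ := exists_pair hLQ
  have hc : ∀ a ∈ L ⊓ (T : Subgroup K), ∀ i, ∀ q ∈ (φ i).range ⊓ (T : Subgroup K), a * q = q * a :=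
    fun a ha i q hq => hyp.comm T.isPGroup' hL (H.mem_OmS hF T hT i₀ i) (hcon i) ha hq
  have hlam : ∀ a ∈ L ⊓ (T : Subgroup K), a ∈ Lam φ := by
    intro a ha
    rw [mem_Lam]
    intro i
    have h1 := hyp.zz_mem_inf T.isPGroup' (H.mem_OmS hF T hT i₀ i)
    rw [H.zz_eq hF i] at h1
    exact hc a ha i _ h1
  refine hab (H.cent a (fun i x => ?_) b (hlam b hb))
  obtain ⟨m, hm⟩ := H.acts a (hlam a ha) i
  obtain ⟨u, hu, v, hv, huv⟩ := exists_pair (H.isQ hF T hT i)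
  exact hm.centralizes (H.lam_norm i (hlam a ha)) hu.1 hv.1 huv (hc a ha i u hu) (hc a ha i v hv) x

theorem le_stab (i₀ : Fin n) : normalizer ((T : Subgroup K) : Set K) ≤ stab φ := by
  intro w hw
  have h1 : ∀ i, ∃ j, cj w (φ i).range = (φ j).range := fun i =>
    H.eq_of_mem_OmS hF T hT i₀ (cj_mem_OmS' (H.hyp hF i₀).1.conj hw (H.mem_OmS hF T hT i₀ i))
  choose f hf using h1
  have hinj : Function.Injective f := by
    intro i j hij
    apply H.range_inj hF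
    have h2 : cj w (φ i).range = cj w (φ j).range := by rw [hf, hf, hij]
    exact cj_inj.1 h2
  exact ⟨Equiv.ofBijective f (Finite.injective_iff_bijective.1 hinj), hf⟩

/-- elements of odd order of `N(T)` act trivially on the frame -/
theorem mem_lam_of_odd (i₀ : Fin n) {w : K} (hw : w ∈ normalizer ((T : Subgroup K) : Set K)) (ho : Odd (orderOf w)) :
    w ∈ Lam φ := by
  haveI : Fact (Nat.Prime 2) := ⟨Nat.prime_two⟩
  have hφ : ∀ i j, (φ i).range = (φ j).range → i = j := fun i j h => H.range_inj hF h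
  have hM := H.le_stab hF T hT i₀
  have hTM : (T : Subgroup K) ≤ stab φ := le_normalizer.trans hM
  set π := ppi φ hφ with hπ
  have hE : closure E ≤ π.range := by
    rw [closure_le]
    intro σ hσ
    obtain ⟨g, hg⟩ := H.perm σ hσ
    refine ⟨⟨g, mem_stab.2 ⟨σ, hg⟩⟩, ?_⟩
    ext i
    congr 1
    apply hφ
    rw [← hg i]
    exact (ppi_spec hφ _ i).symm
  obtain ⟨R, hR, hCR⟩ := exists_two_lift π (closure E) H.good.1 hE
  have hwM : w ∈ stab φ := hM hw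
  have hwn : (⟨w, hwM⟩ : stab φ) ∈ normalizer (((T.subtype hTM : Sylow 2 (stab φ)) : Subgroup (stab φ)) :
      Set (stab φ)) := by
    rw [mem_normalizer_iff]
    intro x
    exact mem_normalizer_iff.1 hw x
  have h3 : π ⟨w, hwM⟩ = 1 := by
    refine odd_map π (T.subtype hTM) hwn ?_ hR (fun S hS hRS => H.good.2 S hS ?_)
    · rw [Subgroup.orderOf_mk]
      exact ho
    · exact fun σ hσ => hRS (hCR (subset_closure hσ))
  exact H.mem_lam_of_perm hF h3

/-- some element of `T ∩ Λ` acts on `J i` with nonsquare determinant -/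
theorem exists_nsq (i : Fin n) (hn : ∃ g ∈ Lam φ, ∃ m, Acts (φ i) g m ∧ ¬ IsSquare m.det) :
    ∃ t ∈ Lam φ, t ∈ (T : Subgroup K) ∧ ∃ m, Acts (φ i) t m ∧ ¬ IsSquare m.det := by
  obtain ⟨g, hg, m, hm, hns⟩ := hn
  set k := orderOf g / 2 ^ (orderOf g).factorization 2 with hk
  have h0 : orderOf g ≠ 0 := (orderOf_pos g).ne'
  have hodd : Odd k := by
    rw [← Nat.not_even_iff_odd, even_iff_two_dvd]
    exact Nat.not_dvd_ordCompl Nat.prime_two h0
  have hmul : 2 ^ (orderOf g).factorization 2 * k = orderOf g := Nat.ordProj_mul_ordCompl_eq_self _ _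
  have h2 : IsPGroup 2 (zpowers (g ^ k)) := by
    have h3 : (g ^ k) ^ 2 ^ (orderOf g).factorization 2 = 1 := by
      rw [← pow_mul, mul_comm, hmul, pow_orderOf_eq_one]
    obtain ⟨b, _, hb⟩ := (Nat.dvd_prime_pow Nat.prime_two).1 (orderOf_dvd_of_pow_eq_one h3)
    exact IsPGroup.of_card (n := b) (by rw [Nat.card_zpowers, hb])
  obtain ⟨l, hl, hlT⟩ := hT _ (by rw [zpowers_le]; exact pow_mem hg k) h2
  obtain ⟨m', hm'⟩ := H.acts l hl i
  have hN := H.lam_norm i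
  refine ⟨l * g ^ k * l⁻¹, mul_mem (mul_mem hl (pow_mem hg k)) (inv_mem hl), ?_, m' * m ^ k * m'⁻¹, ?_, ?_⟩
  · exact hlT (conj_mem_cj (mem_zpowers _))
  · exact (hm'.mul (hm.pow (hN hg) (H.inj i) k) (hN (pow_mem hg k))).mul hm'.inv (hN (inv_mem hl))
  · have e1 : (m' * m ^ k * m'⁻¹).det = m.det ^ k := by
      rw [det_mul, det_mul, det_pow, det_nonsing_inv, Ring.inverse_eq_inv']
      have := hm'.1
      field_simp
    rw [e1]
    exact not_isSquare_pow hns hodd hm.1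

theorem card_inf_ne (i : Fin n) (h16 : 16 ∣ Nat.card (SL2 F)) :
    Nat.card (((φ i).range ⊓ (T : Subgroup K) : Subgroup K)) ≠ 8 := by
  intro h8
  obtain ⟨h1, -, h2⟩ := syl_inf T.isPGroup' (H.mem_OmS hF T hT i i)
  have h3 : Nat.card (φ i).range = Nat.card (SL2 F) :=
    (Nat.card_congr (MonoidHom.ofInjective (H.inj i)).toEquiv).symm
  have h4 := relIndex_mul_relIndex ⊥ _ _ bot_le h1
  rw [relIndex_bot_left, relIndex_bot_left] at h4
  rw [h8, h3] at h4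
  obtain ⟨c, hc⟩ := h16
  apply h2
  exact ⟨c, by omega⟩

/-- elements of odd order of `N(T)` centralise `J i ⊓ T` -/
theorem centralizes_inf (i : Fin n) (hns : NSQ φ i) {w : K} (hw : w ∈ normalizer ((T : Subgroup K) : Set K)) (ho : Odd (orderOf w))
    (hwL : w ∈ Lam φ) : ∀ x ∈ (φ i).range ⊓ (T : Subgroup K), w * x = x * w := by
  have hQ := H.isQ hF T hT i
  have hnorm : ∀ g, g ∈ Lam φ → g ∈ normalizer ((T : Subgroup K) : Set K) →
      g ∈ normalizer ((((φ i).range ⊓ (T : Subgroup K) : Subgroup K)) : Set K) := by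
    intro g h1 h2
    rw [mem_normalizer_iff_cj, cj_inf, mem_normalizer_iff_cj.1 h2, mem_normalizer_iff_cj.1 (H.lam_norm i h1)]
  refine centralizes_of hQ (hnorm w hwL hw) ho fun h8 => ?_
  have hns' := hns.resolve_right fun h16 => H.card_inf_ne hF T hT i h16 h8
  obtain ⟨x, hx, hx4, hxc, hP⟩ := hQ.exists_cyclic (P := (T : Subgroup K) ⊓ Lam φ) (T.isPGroup'.to_le inf_le_left)
    (fun g hg => hnorm g hg.2 (le_normalizer hg.1))
  have hx4 : orderOf x = 4 := by omega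
  have hconj : ∀ g u : K, orderOf (g * u * g⁻¹) = orderOf u := fun g u => (MulAut.conj g).orderOf_eq u
  have hPx : ∀ p ∈ (T : Subgroup K) ⊓ Lam φ, p * x * p⁻¹ = x ∨ p * x * p⁻¹ = x⁻¹ := fun p hp =>
    of_mem_zpowers hx4 (by rw [hconj, hx4]) (hP p hp)
  have hsq : ∀ u : K, orderOf u = 4 → u * u ≠ 1 := by
    intro u hu h
    have := orderOf_dvd_of_pow_eq_one (by rw [pow_two]; exact h : u ^ 2 = 1)
    rw [hu] at this
    omega
  refine ⟨x, hx, hsq x hx4, ?_⟩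
  by_contra hcon
  push Not at hcon
  have hy : w * x * w⁻¹ ∈ (φ i).range ⊓ (T : Subgroup K) := (mem_normalizer_iff.1 (hnorm w hwL hw) x).1 hx
  have hy4 : orderOf (w * x * w⁻¹) = 4 := by rw [hconj, hx4]
  have hPy : ∀ p ∈ (T : Subgroup K) ⊓ Lam φ, p * (w * x * w⁻¹) * p⁻¹ = w * x * w⁻¹ ∨
      p * (w * x * w⁻¹) * p⁻¹ = (w * x * w⁻¹)⁻¹ := by
    intro p hp
    have h1 : w⁻¹ * p * w ∈ (T : Subgroup K) ⊓ Lam φ := by
      refine ⟨?_, (Lam φ).mul_mem ((Lam φ).mul_mem ((Lam φ).inv_mem hwL) hp.2) hwL⟩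
      have hwi : w⁻¹ ∈ normalizer ((T : Subgroup K) : Set K) := inv_mem hw
      have := (mem_normalizer_iff.1 hwi p).1 hp.1
      rwa [inv_inv] at this
    have e1 : p * (w * x * w⁻¹) * p⁻¹ = w * ((w⁻¹ * p * w) * x * (w⁻¹ * p * w)⁻¹) * w⁻¹ := by group
    rw [e1]
    rcases hPx _ h1 with h2 | h2
    · left; rw [h2]
    · right; rw [h2]; group
  obtain ⟨h1, h2⟩ := pair_of_card hQ h8 hx hy (hsq x hx4) (hsq _ hy4) hcon.1 hcon.2
  obtain ⟨t, htL, htT, m, hm, hns⟩ := H.exists_nsq hF T hT i hns'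
  obtain ⟨q, hq, hqx, hqy⟩ := exists_inner hx hy h1 h2 (hPx t ⟨htT, htL⟩) (hPy t ⟨htT, htL⟩)
  refine hns (hm.isSquare (H.inj i) hq.1 hx.1 hy.1 ?_ hqx hqy (H.lam_norm i htL))
  intro h3
  apply hsq _ hy4
  rw [h3] at h1
  have h4 : w * x * w⁻¹ = (w * x * w⁻¹)⁻¹ := by
    rw [← h1]; group
  nth_rewrite 2 [h4]
  exact mul_inv_cancel _

/-- **Main**: elements of odd order of `N(T)` centralise `T` -/
theorem centralizes_T (hns : ∀ i, NSQ φ i) (i₀ : Fin n) {w : K} (hw : w ∈ normalizer ((T : Subgroup K) : Set K)) (ho : Odd (orderOf w)) :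
    ∀ t ∈ (T : Subgroup K), w * t = t * w := by
  have hφ : ∀ i j, (φ i).range = (φ j).range → i = j := fun i j h => H.range_inj hF h
  have hwL := H.mem_lam_of_odd hF T hT i₀ hw ho
  have hwJ : ∀ i x, w * φ i x = φ i x * w := by
    intro i x
    obtain ⟨m, hm⟩ := H.acts w hwL i
    obtain ⟨a, ha, b, hb, hab⟩ := exists_pair (H.isQ hF T hT i)
    have hc := H.centralizes_inf hF T hT i (hns i) hw ho hwL
    exact hm.centralizes (H.lam_norm i hwL) ha.1 hb.1 hab (hc a ha) (hc b hb) x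
  have hwc := H.cent w hwJ
  intro t ht
  have htM : t ∈ stab φ := H.le_stab hF T hT i₀ (le_normalizer ht)
  have hlam1 : ∀ (l : K) (hl : l ∈ Lam φ), ppi φ hφ ⟨l, H.lam_le_stab hF hl⟩ = 1 := by
    intro l hl
    ext i
    congr 1
    apply hφ
    rw [← ppi_spec hφ ⟨l, H.lam_le_stab hF hl⟩ i]
    exact mem_normalizer_iff_cj.1 (H.lam_norm i hl)
  set u := w * t * w⁻¹ * t⁻¹ with hu
  have huT : u ∈ (T : Subgroup K) := mul_mem ((mem_normalizer_iff.1 hw t).1 ht) (inv_mem ht)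
  have huL : u ∈ Lam φ := by
    have h1 : ppi φ hφ (⟨w, H.lam_le_stab hF hwL⟩ * ⟨t, htM⟩ * (⟨w, H.lam_le_stab hF hwL⟩)⁻¹ * (⟨t, htM⟩)⁻¹) = 1 := by
      rw [map_mul, map_mul, map_mul, map_inv, map_inv, hlam1 w hwL]
      group
    exact H.mem_lam_of_perm hF h1
  have hcomm : w * u = u * w := hwc u huL
  have hut : w * t = u * t * w := by rw [hu]; group
  have hpow : ∀ k : ℕ, w ^ k * t = u ^ k * t * w ^ k := by
    intro k
    induction k with
    | zero => simp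
    | succ k ih =>
      have hck : w ^ k * u = u * w ^ k := (Commute.pow_left hcomm k)
      have hcu : w * u ^ k = u ^ k * w := (Commute.pow_right hcomm k)
      calc w ^ (k + 1) * t = w * (w ^ k * t) := by rw [pow_succ']; group
        _ = w * (u ^ k * t * w ^ k) := by rw [ih]
        _ = (w * u ^ k) * t * w ^ k := by group
        _ = u ^ k * (w * t) * w ^ k := by rw [hcu]; group
        _ = u ^ k * (u * t * w) * w ^ k := by rw [hut]
        _ = u ^ (k + 1) * t * w ^ (k + 1) := by rw [pow_succ, pow_succ']; group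
  have h1 := hpow (orderOf w)
  rw [pow_orderOf_eq_one, one_mul, mul_one] at h1
  have h2 : u ^ orderOf w = 1 := (mul_eq_right.1 h1.symm)
  obtain ⟨j, hj⟩ := T.isPGroup' ⟨u, huT⟩
  have h3 : u = 1 := eq_one_of_coprime ho h2 (congrArg Subtype.val hj)
  rw [h3, one_mul] at hut
  exact hut

end

/-- **The result.** -/
theorem oddRow [Finite K] (hns : ∀ i, NSQ φ i) (i₀ : Fin n) : H747.OddRow K := by
  obtain ⟨T, hT⟩ := exists_sylow (Lam φ)
  exact H747.OddRow.of_centralizes T fun g hg ho s hs => H.centralizes_T hF T hT hns i₀ hg ho s hs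

end PFrame

/-- **The result** for frames. -/
theorem Frame.oddRow {φ : Fin n → (SL2 F →* K)} {E : Set (Equiv.Perm (Fin n))} (H : Frame φ E) [Fintype F]
    (hF : Odd (Fintype.card F)) [Finite K] (i₀ : Fin n) : H747.OddRow K :=
  H.pre.oddRow hF (fun i => Or.inl (H.nsq i)) i₀

end Frame

end Cfsg.Agent.H745.RowAbs
end

private theorem dce_036d53b4237f : _root_.True := by
  try have : _root_.True := by simp only [_root_.Cfsg.Agent.H745.RowAbs.Lam.eq_1]
  try have : _root_.True := by simp only [_root_.Cfsg.Agent.H745.RowAbs.ppi.congr_simp]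
  try have : _root_.True := by simp only [_root_.Cfsg.Agent.H745.PermTwo.E7.eq_1]
  exact _root_.True.intro
end

-- part: H796/RowF4_mg
section
prune_inst 0x4400000000000000000050010000004000000000000000008000000000000400000000000000000000000000000000000000000000000000000000000000000000800000040a000000000000000000000000000000000000000000000000000000000000
set_option linter.all false
open scoped Cfsg.Agent.FastGrp

-- part: H796/TorRow
section
/-!
# Odd order automorphisms of a 2-group with a large homocyclic normal subgroup (helper796)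

`G` a group, `P` a 2-subgroup, `A` an abelian normal subgroup of `P`, described by characters `χ a : ℤ^l → k`, on which
`P` acts through a group `W` of lattice automorphisms (`Dat`). If no element of `W` other than `1`, `-1` is trivial
modulo 2, and some element of `P` has a single Jordan block on the elements of order two of `A`, then the elements of
odd order normalising `P` centralise `P` (`Dat.main`).
-/

set_option autoImplicit false

namespace Cfsg.Agent.H796.TorRow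

open Subgroup

variable {G : Type*} [Group G]

theorem pow_conj {g u c : G} (hc : g * c * g⁻¹ = c) (hu : g * u * g⁻¹ = c * u) (m : ℕ) :
    g ^ m * u * (g ^ m)⁻¹ = c ^ m * u := by
  induction m with
  | zero => simp
  | succ m ih =>
    have hcm : g * c ^ m * g⁻¹ = c ^ m := by rw [← conj_pow, hc]
    calc g ^ (m + 1) * u * (g ^ (m + 1))⁻¹ = g * (g ^ m * u * (g ^ m)⁻¹) * g⁻¹ := by rw [pow_succ']; group
      _ = (g * c ^ m * g⁻¹) * (g * u * g⁻¹) := by rw [ih]; group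
      _ = c ^ (m + 1) * u := by rw [hcm, hu, pow_succ, mul_assoc]

/-- an element of odd order moving `u` by a 2-element which it fixes fixes `u`. -/
theorem eq_one_of_conj {g u c : G} (ho : Odd (orderOf g)) (hc : g * c * g⁻¹ = c) (hu : g * u * g⁻¹ = c * u)
    {n : ℕ} (h2 : c ^ 2 ^ n = 1) : c = 1 := by
  have h1 := pow_conj hc hu (orderOf g)
  rw [pow_orderOf_eq_one, inv_one, mul_one, one_mul] at h1
  have h3 : c ^ orderOf g = 1 := (mul_eq_right.1 h1.symm)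
  have h4 : orderOf c ∣ 2 ^ n := orderOf_dvd_of_pow_eq_one h2
  have h5 : orderOf c ∣ orderOf g := orderOf_dvd_of_pow_eq_one h3
  have h6 : Nat.Coprime (2 ^ n) (orderOf g) := Nat.Coprime.pow_left n (Nat.coprime_two_left.2 ho)
  have h7 : orderOf c ∣ 1 := by
    rw [← h6.gcd_eq_one]
    exact Nat.dvd_gcd h4 h5
  exact orderOf_eq_one_iff.1 (Nat.dvd_one.1 h7)

/-- the commutator of a normal subgroup of a finite 2-group with the group is proper. -/
theorem comm_lt [Finite G] {P U : Subgroup G} (hP : IsPGroup 2 P) (hU : U ≤ P) (h : U ≤ _root_.Subgroup.closure {y | ∃ x ∈ P, ∃ u ∈ U, y = x * u * x⁻¹ * u⁻¹}) :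
    U = ⊥ := by
  have : Fact (Nat.Prime 2) := ⟨Nat.prime_two⟩
  have hnil : Group.IsNilpotent P := hP.isNilpotent
  have hn : ∀ n, U ≤ P.lowerCentralSeries n := by
    intro n
    induction n with
    | zero => exact hU
    | succ n ih =>
      refine h.trans ((closure_le _).2 ?_)
      rintro _ ⟨x, hx, u, hu, rfl⟩
      rw [Subgroup.lowerCentralSeries_succ]
      have h1 := inv_mem (commutator_mem_commutator (ih hu) hx)
      rw [commutatorElement_inv, commutatorElement_def] at h1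
      exact h1
  obtain ⟨n, hn'⟩ := (isNilpotent_iff_lowerCentralSeries P).1 hnil
  have := hn n
  rw [hn'] at this
  exact le_bot_iff.1 this

theorem inv_conj_mem [Finite G] {U : Subgroup G} {g : G} (h : ∀ u ∈ U, g * u * g⁻¹ ∈ U) :
    ∀ u ∈ U, g⁻¹ * u * g ∈ U := by
  have h1 : ∀ (n : ℕ), ∀ u ∈ U, g ^ n * u * (g ^ n)⁻¹ ∈ U := by
    intro n
    induction n with
    | zero => intro u hu; simpa using hu
    | succ n ih =>
      intro u hu
      have h2 := h _ (ih u hu)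
      have e : g ^ (n + 1) * u * (g ^ (n + 1))⁻¹ = g * (g ^ n * u * (g ^ n)⁻¹) * g⁻¹ := by rw [pow_succ']; group
      rwa [e]
  intro u hu
  have h2 := h1 (orderOf g - 1) u hu
  have h3 : g ^ (orderOf g - 1) = g⁻¹ := by
    rw [eq_inv_iff_mul_eq_one, ← pow_succ, Nat.sub_add_cancel (orderOf_pos g), pow_orderOf_eq_one]
  rwa [h3, inv_inv] at h2

/-- **Chain argument.** -/
theorem centralizes_of_chain [Finite G] {P V : Subgroup G} (hP : IsPGroup 2 P) (hVP : V ≤ P) {p : G} (hp : p ∈ P)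
    (hcomm : ∀ a ∈ V, ∀ b ∈ V, a * b = b * a)
    (hfix : ∀ v ∈ V, ∀ v' ∈ V, p * v = v * p → p * v' = v' * p → v ≠ 1 → v' ≠ 1 → v = v') {g : G}
    (ho : Odd (orderOf g)) (hgP : ∀ x ∈ P, g * x * g⁻¹ ∈ P) :
    ∀ (n : ℕ) (U : Subgroup G), Nat.card U ≤ n → U ≤ V → (∀ x ∈ P, ∀ u ∈ U, x * u * x⁻¹ ∈ U) →
      (∀ u ∈ U, g * u * g⁻¹ ∈ U) → ∀ u ∈ U, g * u * g⁻¹ = u := by
  intro n
  induction n with
  | zero =>
    intro U hU
    have : 0 < Nat.card U := Nat.card_pos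
    omega
  | succ n ih =>
    intro U hU hUV hUP hUg u hu
    by_cases hbot : U = ⊥
    · rw [hbot] at hu
      rw [mem_bot.1 hu]; group
    obtain ⟨U', hU'⟩ : ∃ U' : Subgroup G, U' = _root_.Subgroup.closure {y | ∃ x ∈ P, ∃ u ∈ U, y = x * u * x⁻¹ * u⁻¹} := ⟨_, rfl⟩
    have hU'U : U' ≤ U := by
      rw [hU', closure_le]
      rintro _ ⟨x, hx, u, hu, rfl⟩
      exact mul_mem (hUP x hx u hu) (inv_mem hu)
    have hne : U' ≠ U := by
      intro h
      exact hbot (comm_lt hP (hUV.trans hVP) (by rw [← hU', h]))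
    have hlt : Nat.card U' < Nat.card U := by
      have h1 : Nat.card U' ≤ Nat.card U := Nat.card_le_card_of_injective _ (inclusion_injective hU'U)
      rcases h1.lt_or_eq with h2 | h2
      · exact h2
      · exact absurd (eq_of_le_of_card_ge hU'U h2.ge) hne
    have hU'P : ∀ x ∈ P, ∀ u ∈ U', x * u * x⁻¹ ∈ U' := by
      intro y hy
      have h1 : U' ≤ U'.comap (MulAut.conj y).toMonoidHom := by
        conv_lhs => rw [hU']
        rw [closure_le]
        rintro _ ⟨x, hx, u, hu, rfl⟩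
        show y * (x * u * x⁻¹ * u⁻¹) * y⁻¹ ∈ U'
        rw [hU']
        refine subset_closure ⟨y * x * y⁻¹, mul_mem (mul_mem hy hx) (inv_mem hy), y * u * y⁻¹, hUP y hy u hu, ?_⟩
        group
      exact fun u hu => h1 hu
    have hU'g : ∀ u ∈ U', g * u * g⁻¹ ∈ U' := by
      have h1 : U' ≤ U'.comap (MulAut.conj g).toMonoidHom := by
        conv_lhs => rw [hU']
        rw [closure_le]
        rintro _ ⟨x, hx, u, hu, rfl⟩
        show g * (x * u * x⁻¹ * u⁻¹) * g⁻¹ ∈ U'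
        rw [hU']
        refine subset_closure ⟨g * x * g⁻¹, hgP x hx, g * u * g⁻¹, hUg u hu, ?_⟩
        group
      exact fun u hu => h1 hu
    have hfixU' := ih U' (by omega) (hU'U.trans hUV) hU'P hU'g
    -- the index is at most two
    have hidx : ∀ a ∈ U, ∀ b ∈ U, a ∉ U' → b ∉ U' → a * b ∈ U' := by
      let δ : U →* U := 
        { toFun := fun a => ⟨p * a * p⁻¹ * (a : G)⁻¹, mul_mem (hUP p hp a a.2) (inv_mem a.2)⟩
          map_one' := Subtype.ext (by simp)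
          map_mul' := fun a b => Subtype.ext (by
            have h1 := hcomm _ (hUV (mul_mem (hUP p hp b b.2) (inv_mem b.2))) _ (hUV (inv_mem a.2))
            show p * ((a : G) * b) * p⁻¹ * ((a : G) * b)⁻¹ = p * a * p⁻¹ * (a : G)⁻¹ * (p * b * p⁻¹ * (b : G)⁻¹)
            calc p * ((a : G) * b) * p⁻¹ * ((a : G) * b)⁻¹ =
                p * a * p⁻¹ * ((p * b * p⁻¹ * (b : G)⁻¹) * (a : G)⁻¹) := by group
              _ = p * a * p⁻¹ * ((a : G)⁻¹ * (p * b * p⁻¹ * (b : G)⁻¹)) := by rw [h1]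
              _ = _ := by group) }
      have hδ : ∀ a : U, ((δ a : U) : G) = p * a * p⁻¹ * (a : G)⁻¹ := fun a => rfl
      have hker : Nat.card δ.ker ≤ 2 := by
        have h1 : ∀ a : δ.ker, p * ((a : U) : G) = ((a : U) : G) * p := by
          intro a
          have h2 := congrArg Subtype.val (MonoidHom.mem_ker.1 a.2)
          rw [hδ] at h2
          have h3 : p * ((a : U) : G) * p⁻¹ * ((a : U) : G)⁻¹ = 1 := h2
          calc p * ((a : U) : G) = p * ((a : U) : G) * p⁻¹ * ((a : U) : G)⁻¹ * (((a : U) : G) * p) := by group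
            _ = _ := by rw [h3, one_mul]
        by_cases hb : ∀ a : δ.ker, a = 1
        · have : Subsingleton δ.ker := ⟨fun a b => by rw [hb a, hb b]⟩
          rw [Nat.card_eq_one_iff_unique.2 ⟨this, ⟨1⟩⟩]
          norm_num
        · push Not at hb
          obtain ⟨v, hv⟩ := hb
          have h3 : ∀ a : δ.ker, a ≠ 1 → a = v := fun a ha => by
            apply Subtype.ext
            apply Subtype.ext
            exact hfix _ (hUV (a : U).2) _ (hUV (v : U).2) (h1 a) (h1 v)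
              (fun h => ha (Subtype.ext (Subtype.ext h))) (fun h => hv (Subtype.ext (Subtype.ext h)))
          have h4 : Nat.card δ.ker ≤ Nat.card Bool := by
            refine Nat.card_le_card_of_surjective (fun b : Bool => if b then (1 : δ.ker) else v) fun a => ?_
            by_cases ha : a = 1
            · exact ⟨true, by rw [ha]; rfl⟩
            · exact ⟨false, by rw [h3 a ha]; rfl⟩
          have h5 : Nat.card Bool = 2 := by rw [Nat.card_eq_fintype_card, Fintype.card_bool]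
          rwa [h5] at h4
      have hcard : Nat.card U = Nat.card δ.range * Nat.card δ.ker := by
        rw [mul_comm]
        have := δ.ker.card_mul_index
        rw [Subgroup.index_ker] at this
        exact this.symm
      have hle : δ.range ≤ U'.subgroupOf U := by
        rintro _ ⟨a, rfl⟩
        rw [mem_subgroupOf, hδ, hU']
        exact subset_closure ⟨p, hp, a, a.2, rfl⟩
      have hidx2 : (U'.subgroupOf U).index ≤ 2 := by
        have h1 : (U'.subgroupOf U).index ∣ δ.range.index := index_dvd_of_le hle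
        have h2 : δ.range.index = Nat.card δ.ker := by
          have h3 := δ.range.card_mul_index
          rw [hcard] at h3
          exact Nat.eq_of_mul_eq_mul_left Nat.card_pos h3
        rw [h2] at h1
        exact (Nat.le_of_dvd Nat.card_pos h1).trans hker
      intro a ha b hb ha' hb'
      have h2 : (U'.subgroupOf U).index = 2 := by
        have h3 : (U'.subgroupOf U).index ≠ 1 := by
          intro h4
          rw [index_eq_one] at h4
          have : (⟨a, ha⟩ : U) ∈ U'.subgroupOf U := by rw [h4]; exact mem_top _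
          exact ha' (mem_subgroupOf.1 this)
        have h5 : (U'.subgroupOf U).index ≠ 0 := index_ne_zero_of_finite
        omega
      have h3 := (mul_mem_iff_of_index_two h2 (a := ⟨a, ha⟩) (b := ⟨b, hb⟩)).2
        ⟨fun h => absurd (mem_subgroupOf.1 h) ha', fun h => absurd (mem_subgroupOf.1 h) hb'⟩
      exact mem_subgroupOf.1 h3
    by_cases hu' : u ∈ U'
    · exact hfixU' u hu'
    have h1 : g * u * g⁻¹ ∉ U' := by
      intro h2
      have h3 := inv_conj_mem hU'g _ h2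
      have e : g⁻¹ * (g * u * g⁻¹) * g = u := by group
      rw [e] at h3
      exact hu' h3
    have h2 : g * u * g⁻¹ * u⁻¹ ∈ U' := hidx _ (hUg u hu) _ (inv_mem hu) h1 fun h => hu' (inv_mem_iff.1 h)
    have h3 : g * u * g⁻¹ * u⁻¹ = 1 := by
      obtain ⟨k, hk⟩ := hP ⟨_, hVP (hUV (hU'U h2))⟩
      refine eq_one_of_conj (g := g) (u := u) ho (hfixU' _ h2) (by group) (n := k) ?_
      exact congrArg Subtype.val hk
    exact mul_inv_eq_one.1 h3

/-! ### the data -/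

/-- `A` abelian normal in the 2-group `P`, with characters `χ a`, on which `P` acts through `act (ρ x)`. -/
structure Dat (P A : Subgroup G) {W : Type*} [Group W] {l : ℕ} (act : W →* Module.End ℤ (Fin l → ℤ)) (ρ : G → W)
    {k : Type*} [Field k] (χ : G → (Fin l → ℤ) → k) (ζ : k) : Prop where
  le : A ≤ P
  two : IsPGroup 2 P
  conj : ∀ x ∈ P, ∀ a ∈ A, x * a * x⁻¹ ∈ A
  comm : ∀ a ∈ A, ∀ b ∈ A, a * b = b * a
  rho_mul : ∀ x ∈ P, ∀ y ∈ P, ρ (x * y) = ρ x * ρ y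
  ker : ∀ x ∈ P, ρ x = 1 → x ∈ A
  ker' : ∀ x ∈ A, ρ x = 1
  mul : ∀ a ∈ A, ∀ b ∈ A, ∀ x, χ (a * b) x = χ a x * χ b x
  add : ∀ a ∈ A, ∀ x y, χ a (x + y) = χ a x * χ a y
  zero : ∀ a ∈ A, χ a 0 = 1
  inj : ∀ a ∈ A, (∀ x, χ a x = 1) → a = 1
  chi_act : ∀ p ∈ P, ∀ a ∈ A, ∀ x, χ (p * a * p⁻¹) (act (ρ p) x) = χ a x
  prim : IsPrimitiveRoot ζ 4
  rich : ∀ i : Fin l, ∃ t ∈ A, ∀ x, χ t x = ζ ^ (x i)

namespace Dat

variable {P A : Subgroup G} {W : Type*} [Group W] {l : ℕ} {act : W →* Module.End ℤ (Fin l → ℤ)} {ρ : G → W}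
  {k : Type*} [Field k] {χ : G → (Fin l → ℤ) → k} {ζ : k} (D : Dat P A act ρ χ ζ)

include D

theorem ne_zero {a : G} (ha : a ∈ A) (x : Fin l → ℤ) : χ a x ≠ 0 := by
  have h := D.add a ha x (-x)
  rw [add_neg_cancel, D.zero a ha] at h
  exact left_ne_zero_of_mul_eq_one h.symm

theorem neg {a : G} (ha : a ∈ A) (x : Fin l → ℤ) : χ a (-x) = (χ a x)⁻¹ := by
  have h := D.add a ha x (-x)
  rw [add_neg_cancel, D.zero a ha] at h
  exact eq_inv_of_mul_eq_one_right h.symm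

theorem sub {a : G} (ha : a ∈ A) (x y : Fin l → ℤ) : χ a (x - y) = χ a x / χ a y := by
  rw [sub_eq_add_neg, D.add a ha, D.neg ha, div_eq_mul_inv]

theorem one (x : Fin l → ℤ) : χ 1 x = 1 := by
  have h := D.mul 1 (one_mem A) 1 (one_mem A) x
  rw [mul_one] at h
  exact (mul_eq_left₀ (D.ne_zero (one_mem A) x)).1 h.symm

theorem inv {a : G} (ha : a ∈ A) (x : Fin l → ℤ) : χ a⁻¹ x = (χ a x)⁻¹ := by
  have h := D.mul a ha a⁻¹ (inv_mem ha) x
  rw [mul_inv_cancel, D.one] at h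
  exact eq_inv_of_mul_eq_one_right h.symm

theorem zsmul {a : G} (ha : a ∈ A) (n : ℤ) (x : Fin l → ℤ) : χ a (n • x) = χ a x ^ n := by
  have h : ∀ n : ℕ, χ a (n • x) = χ a x ^ n := by
    intro n
    induction n with
    | zero => rw [zero_smul, D.zero a ha, pow_zero]
    | succ n ih => rw [succ_nsmul, D.add a ha, ih, pow_succ]
  obtain ⟨m, rfl | rfl⟩ := Int.eq_nat_or_neg n
  · rw [natCast_zsmul, h, zpow_natCast]
  · rw [neg_smul, natCast_zsmul, D.neg ha, h, zpow_neg, zpow_natCast]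

theorem ext {a b : G} (ha : a ∈ A) (hb : b ∈ A) (h : ∀ x, χ a x = χ b x) : a = b := by
  have h1 : a * b⁻¹ = 1 := by
    refine D.inj _ (mul_mem ha (inv_mem hb)) fun x => ?_
    rw [D.mul a ha b⁻¹ (inv_mem hb), D.inv hb, h x, mul_inv_cancel₀ (D.ne_zero hb x)]
  exact mul_inv_eq_one.1 h1

theorem zeta_zpow (n : ℤ) : ζ ^ n = 1 ↔ (4 : ℤ) ∣ n := D.prim.zpow_eq_one_iff_dvd n

/-- if all the characters are trivial on `2 x`, then `x` is even. -/
theorem even_of {x : Fin l → ℤ} (h : ∀ t ∈ A, χ t x ^ 2 = 1) : ∃ y, x = (2 : ℤ) • y := by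
  have h1 : ∀ i, (2 : ℤ) ∣ x i := by
    intro i
    obtain ⟨t, ht, h2⟩ := D.rich i
    have h3 := h t ht
    rw [h2, ← zpow_natCast, ← zpow_mul, D.zeta_zpow] at h3
    obtain ⟨c, hc⟩ := h3
    exact ⟨c, by push_cast at hc; omega⟩
  choose y hy using h1
  exact ⟨y, funext fun i => hy i⟩

/-- an element of `P` centralising `A` is in `A`. -/
theorem mem_of_comm (hl : 0 < l) (hK : ∀ w : W, (∀ x, ∃ y, act w x - x = (2 : ℤ) • y) →
    w = 1 ∨ ∀ x, act w x = -x) {p : G} (hp : p ∈ P) (h : ∀ t ∈ A, p * t * p⁻¹ = t) : p ∈ A := by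
  have h1 : ∀ t ∈ A, ∀ x, χ t (act (ρ p) x - x) = 1 := by
    intro t ht x
    have h2 := D.chi_act p hp t ht x
    rw [h t ht] at h2
    rw [D.sub ht, h2, div_self (D.ne_zero ht x)]
  rcases hK (ρ p) (fun x => D.even_of fun t ht => by rw [h1 t ht x, one_pow]) with h2 | h2
  · exact D.ker p hp h2
  · exfalso
    obtain ⟨t, ht, h3⟩ := D.rich ⟨0, hl⟩
    have h4 := h1 t ht (Pi.single ⟨0, hl⟩ 1)
    rw [h2, h3, D.zeta_zpow] at h4
    simp only [Pi.sub_apply, Pi.neg_apply, Pi.single_eq_same] at h4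
    norm_num at h4

/-- the quadratic case: an element of `P` outside of `A` with the properties of the elements of a conjugate of `A`
inverts `A`. -/
theorem inverts (hK : ∀ w : W, (∀ x, ∃ y, act w x - x = (2 : ℤ) • y) →
    w = 1 ∨ ∀ x, act w x = -x) {b : G} (hb : b ∈ P) (hbA : b ∉ A)
    (h : ∀ t ∈ A, (b * t * b⁻¹ * t⁻¹) * (b * t * b⁻¹ * t⁻¹) = 1) : ∀ t ∈ A, b * t * b⁻¹ = t⁻¹ := by
  have h1 : ∀ t ∈ A, ∀ x, χ t (act (ρ b) x - x) ^ 2 = 1 := by
    intro t ht x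
    have hc := D.conj b hb t ht
    have h2 := D.chi_act b hb t ht x
    have h3 : χ (b * t * b⁻¹ * t⁻¹) (act (ρ b) x) = χ t x / χ t (act (ρ b) x) := by
      rw [D.mul _ hc _ (inv_mem ht), h2, D.inv ht, div_eq_mul_inv]
    have h4 : χ (b * t * b⁻¹ * t⁻¹) (act (ρ b) x) ^ 2 = 1 := by
      rw [pow_two, ← D.mul _ (mul_mem hc (inv_mem ht)) _ (mul_mem hc (inv_mem ht)), h t ht, D.one]
    rw [D.sub ht]
    have h5 : χ t (act (ρ b) x) / χ t x = (χ (b * t * b⁻¹ * t⁻¹) (act (ρ b) x))⁻¹ := by rw [h3, inv_div]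
    rw [h5, inv_pow, h4, inv_one]
  rcases hK (ρ b) (fun x => D.even_of fun t ht => h1 t ht x) with h2 | h2
  · exact absurd (D.ker b hb h2) hbA
  intro t ht
  refine D.ext (D.conj b hb t ht) (inv_mem ht) fun x => ?_
  have h3 := D.chi_act b hb t ht (-x)
  rw [h2, neg_neg] at h3
  rw [h3, D.neg ht, D.inv ht]

/-- **The elements normalising `P` normalise `A`.** -/
theorem normalizes [Finite G] (hl : 2 ≤ l) (hK : ∀ w : W, (∀ x, ∃ y, act w x - x = (2 : ℤ) • y) →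
    w = 1 ∨ ∀ x, act w x = -x) {g : G} (hg : ∀ x ∈ P, g * x * g⁻¹ ∈ P) : ∀ a ∈ A, g * a * g⁻¹ ∈ A := by
  by_contra hcon
  push Not at hcon
  obtain ⟨a₀, ha₀, hb₀⟩ := hcon
  have hg' := inv_conj_mem hg
  -- the conjugate `B`
  obtain ⟨B, hB⟩ : ∃ B : Subgroup G, B = A.map (MulAut.conj g).toMonoidHom := ⟨_, rfl⟩
  have hBm : ∀ y, y ∈ B ↔ g⁻¹ * y * g ∈ A := by
    intro y
    rw [hB]
    constructor
    · rintro ⟨a, ha, rfl⟩
      have e : g⁻¹ * (g * a * g⁻¹) * g = a := by group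
      show g⁻¹ * (g * a * g⁻¹) * g ∈ A
      rwa [e]
    · intro h
      exact ⟨_, h, by show g * (g⁻¹ * y * g) * g⁻¹ = y; group⟩
  have hBP : B ≤ P := by
    intro y hy
    have h1 := hg _ (D.le ((hBm y).1 hy))
    have e : g * (g⁻¹ * y * g) * g⁻¹ = y := by group
    rwa [e] at h1
  have hBc : ∀ x ∈ B, ∀ y ∈ B, x * y = y * x := by
    intro x hx y hy
    have h1 := D.comm _ ((hBm x).1 hx) _ ((hBm y).1 hy)
    calc x * y = g * (g⁻¹ * x * g * (g⁻¹ * y * g)) * g⁻¹ := by group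
      _ = g * (g⁻¹ * y * g * (g⁻¹ * x * g)) * g⁻¹ := by rw [h1]
      _ = y * x := by group
  have hBn : ∀ x ∈ P, ∀ b ∈ B, x * b * x⁻¹ ∈ B := by
    intro x hx b hb
    rw [hBm] at hb ⊢
    have h1 := D.conj _ (hg' x hx) _ hb
    have e : g⁻¹ * x * g * (g⁻¹ * b * g) * (g⁻¹ * x * g)⁻¹ = g⁻¹ * (x * b * x⁻¹) * g := by group
    rwa [e] at h1
  -- commutators
  have hcom : ∀ b ∈ B, ∀ t ∈ A, b * t * b⁻¹ * t⁻¹ ∈ A ∧ b * t * b⁻¹ * t⁻¹ ∈ B := by
    intro b hb t ht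
    refine ⟨mul_mem (D.conj b (hBP hb) t ht) (inv_mem ht), ?_⟩
    have h1 := mul_mem hb (hBn t (D.le ht) b⁻¹ (inv_mem hb))
    have e : b * (t * b⁻¹ * t⁻¹) = b * t * b⁻¹ * t⁻¹ := by group
    rwa [e] at h1
  have hsq : ∀ b ∈ B, (∀ t ∈ A, b * b * t * (b * b)⁻¹ = t) → ∀ t ∈ A,
      (b * t * b⁻¹ * t⁻¹) * (b * t * b⁻¹ * t⁻¹) = 1 := by
    intro b hb hbb t ht
    obtain ⟨h1, h2⟩ := hcom b hb t ht
    obtain ⟨c, hc⟩ : ∃ c, c = b * t * b⁻¹ * t⁻¹ := ⟨_, rfl⟩
    rw [← hc] at h1 h2 ⊢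
    have h3 : b * c * b⁻¹ = c := by rw [hBc b hb c h2]; group
    have h4 : b * t * b⁻¹ = c * t := by rw [hc]; group
    have h5 := hbb t ht
    have h6 : b * b * t * (b * b)⁻¹ = c * (c * t) := by
      calc b * b * t * (b * b)⁻¹ = b * (b * t * b⁻¹) * b⁻¹ := by group
        _ = b * (c * t) * b⁻¹ := by rw [h4]
        _ = (b * c * b⁻¹) * (b * t * b⁻¹) := by group
        _ = c * (c * t) := by rw [h3, h4]
    rw [h5] at h6
    have h7 : c * c * t = 1 * t := by rw [mul_assoc, ← h6, one_mul]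
    exact mul_right_cancel h7
  -- an element of `B` outside of `A` with square in `A`
  obtain ⟨b, hb, hbA, hbb⟩ : ∃ b ∈ B, b ∉ A ∧ b * b ∈ A := by
    have h1 : g * a₀ * g⁻¹ ∈ B := by rw [hB]; exact ⟨a₀, ha₀, rfl⟩
    obtain ⟨m, hm⟩ := D.two ⟨_, hBP h1⟩
    have hm' : (g * a₀ * g⁻¹) ^ 2 ^ m = 1 := congrArg Subtype.val hm
    classical
    have hex : ∃ m, (g * a₀ * g⁻¹) ^ 2 ^ m ∈ A := ⟨m, by rw [hm']; exact one_mem A⟩
    obtain ⟨j, hj⟩ : ∃ j, Nat.find hex = j + 1 := by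
      refine ⟨Nat.find hex - 1, ?_⟩
      have : Nat.find hex ≠ 0 := by
        intro h0
        have h2 := Nat.find_spec hex
        rw [h0, pow_zero, pow_one] at h2
        exact hb₀ h2
      omega
    refine ⟨(g * a₀ * g⁻¹) ^ 2 ^ j, pow_mem h1 _, Nat.find_min hex (by omega), ?_⟩
    have h2 := Nat.find_spec hex
    rw [hj, pow_succ, mul_two, pow_add] at h2
    exact h2
  have hinv := D.inverts hK (hBP hb) hbA (hsq b hb fun t ht => by
    rw [D.comm _ hbb _ ht]; group)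
  -- the elements of `A ∩ B` have square one
  have hAB : ∀ c ∈ A, c ∈ B → c * c = 1 := by
    intro c hc hcB
    have h1 := hinv c hc
    rw [hBc b hb c hcB, mul_inv_cancel_right] at h1
    calc c * c = c⁻¹ * c := by rw [← h1]
      _ = 1 := inv_mul_cancel c
  have hout : ∀ b₁ ∈ B, b₁ ∉ A → b * b₁ ∈ A := by
    intro b₁ hb₁ hb₁A
    have h1 : ∀ t ∈ A, b₁ * b₁ * t * (b₁ * b₁)⁻¹ = t := by
      intro t ht
      obtain ⟨h1, h2⟩ := hcom b₁ hb₁ t ht
      obtain ⟨c, hc⟩ : ∃ c, c = b₁ * t * b₁⁻¹ * t⁻¹ := ⟨_, rfl⟩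
      rw [← hc] at h1 h2
      have h3 : b₁ * c * b₁⁻¹ = c := by rw [hBc b₁ hb₁ c h2]; group
      have h4 : b₁ * t * b₁⁻¹ = c * t := by rw [hc]; group
      calc b₁ * b₁ * t * (b₁ * b₁)⁻¹ = b₁ * (b₁ * t * b₁⁻¹) * b₁⁻¹ := by group
        _ = b₁ * (c * t) * b₁⁻¹ := by rw [h4]
        _ = (b₁ * c * b₁⁻¹) * (b₁ * t * b₁⁻¹) := by group
        _ = c * c * t := by rw [h3, h4, mul_assoc]
        _ = t := by rw [hAB c h1 h2, one_mul]
    have h2 := D.inverts hK (hBP hb₁) hb₁A (hsq b₁ hb₁ h1)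
    refine D.mem_of_comm (by omega) hK (mul_mem (hBP hb) (hBP hb₁)) fun t ht => ?_
    calc b * b₁ * t * (b * b₁)⁻¹ = b * (b₁ * t * b₁⁻¹) * b⁻¹ := by group
      _ = t := by rw [h2 t ht, hinv _ (inv_mem ht), inv_inv]
  -- two elements of order four
  obtain ⟨t₁, ht₁, e₁⟩ := D.rich ⟨0, by omega⟩
  obtain ⟨t₂, ht₂, e₂⟩ := D.rich ⟨1, by omega⟩
  have key : ∀ t ∈ A, g * t * g⁻¹ ∈ A → t * t = 1 := by
    intro t ht h1
    have h2 : g * t * g⁻¹ ∈ B := by rw [hB]; exact ⟨t, ht, rfl⟩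
    have h3 := hAB _ h1 h2
    calc t * t = g⁻¹ * (g * t * g⁻¹ * (g * t * g⁻¹)) * g := by group
      _ = 1 := by rw [h3]; group
  have hne : ∀ t ∈ A, ∀ x, χ t x ^ 2 ≠ 1 → t * t ≠ 1 := by
    intro t ht x h1 h2
    apply h1
    rw [pow_two, ← D.mul t ht t ht, h2, D.one]
  have h01 : (⟨0, by omega⟩ : Fin l) ≠ ⟨1, by omega⟩ := by
    intro h
    exact absurd (congrArg Fin.val h) (by norm_num)
  have hz2 : ζ ^ 2 ≠ 1 := by
    intro h
    have h1 := (D.zeta_zpow ((2 : ℕ) : ℤ)).1 (by rw [zpow_natCast]; exact h)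
    norm_num at h1
  have h1 : t₁ * t₁ ≠ 1 := hne t₁ ht₁ (Pi.single ⟨0, by omega⟩ 1) (by
    rw [e₁, Pi.single_eq_same, zpow_one]; exact hz2)
  have h2 : t₂ * t₂ ≠ 1 := hne t₂ ht₂ (Pi.single ⟨1, by omega⟩ 1) (by
    rw [e₂, Pi.single_eq_same, zpow_one]; exact hz2)
  have h3 : (t₁⁻¹ * t₂) * (t₁⁻¹ * t₂) ≠ 1 := hne _ (mul_mem (inv_mem ht₁) ht₂) (Pi.single ⟨1, by omega⟩ 1) (by
    rw [D.mul _ (inv_mem ht₁) _ ht₂, D.inv ht₁, e₁, e₂, Pi.single_eq_same, Pi.single_eq_of_ne h01, zpow_one, zpow_zero,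
      inv_one, one_mul]
    exact hz2)
  have hB1 : g * t₁ * g⁻¹ ∈ B := by rw [hB]; exact ⟨t₁, ht₁, rfl⟩
  have hB2 : g * t₂ * g⁻¹ ∈ B := by rw [hB]; exact ⟨t₂, ht₂, rfl⟩
  have h4 := hout _ hB1 fun h => h1 (key t₁ ht₁ h)
  have h5 := hout _ hB2 fun h => h2 (key t₂ ht₂ h)
  apply h3
  refine key _ (mul_mem (inv_mem ht₁) ht₂) ?_
  have h6 := mul_mem (inv_mem h4) h5
  have e : (b * (g * t₁ * g⁻¹))⁻¹ * (b * (g * t₂ * g⁻¹)) = g * (t₁⁻¹ * t₂) * g⁻¹ := by group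
  rwa [e] at h6

/-- **The elements of odd order normalising `P` centralise `P`.** -/
theorem main [Finite G] (hl : 2 ≤ l) (hK : ∀ w : W, (∀ x, ∃ y, act w x - x = (2 : ℤ) • y) →
    w = 1 ∨ ∀ x, act w x = -x)
    (hJ : ∃ p ∈ P, ∃ x₁, ∀ x, ∃ (m : ℤ) (y z : Fin l → ℤ), x = m • x₁ + (act (ρ p) y - y) + (2 : ℤ) • z)
    {g : G} (ho : Odd (orderOf g)) (hg : ∀ x ∈ P, g * x * g⁻¹ ∈ P) : ∀ s ∈ P, g * s * g⁻¹ = s := by
  have hA := D.normalizes hl hK hg
  -- the elements of order two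
  obtain ⟨V, hV⟩ : ∃ V : Subgroup G, ∀ v, v ∈ V ↔ v ∈ A ∧ v * v = 1 := by
    refine ⟨{ carrier := {v | v ∈ A ∧ v * v = 1}
              mul_mem' := ?_, one_mem' := ⟨one_mem A, one_mul 1⟩, inv_mem' := ?_ }, fun v => Iff.rfl⟩
    · rintro a b ⟨ha, ha'⟩ ⟨hb, hb'⟩
      refine ⟨mul_mem ha hb, ?_⟩
      calc a * b * (a * b) = a * (b * a) * b := by group
        _ = a * (a * b) * b := by rw [D.comm b hb a ha]
        _ = a * a * (b * b) := by group
        _ = 1 := by rw [ha', hb', one_mul]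
    · rintro a ⟨ha, ha'⟩
      exact ⟨inv_mem ha, by rw [← mul_inv_rev, ha', inv_one]⟩
  obtain ⟨p, hp, x₁, hx₁⟩ := hJ
  have hVfix : ∀ v ∈ V, g * v * g⁻¹ = v := by
    refine centralizes_of_chain D.two (fun v hv => D.le ((hV v).1 hv).1) hp
      (fun a ha b hb => D.comm a ((hV a).1 ha).1 b ((hV b).1 hb).1) ?_ ho hg (Nat.card V) V le_rfl le_rfl ?_ ?_
    · have hval : ∀ v ∈ V, p * v = v * p → ∀ x, ∃ m : ℤ, (∀ v' ∈ V, p * v' = v' * p → χ v' x = χ v' x₁ ^ m) := by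
        intro v _ _ x
        obtain ⟨m, y, z, e⟩ := hx₁ x
        refine ⟨m, fun v' hv' hpv' => ?_⟩
        have hvA := ((hV v').1 hv').1
        have h1 := D.chi_act p hp v' hvA y
        have h2 : p * v' * p⁻¹ = v' := by rw [hpv']; group
        rw [h2] at h1
        have h3 : χ v' ((2 : ℤ) • z) = 1 := by
          rw [D.zsmul hvA, zpow_two, ← D.mul _ hvA _ hvA, ((hV v').1 hv').2, D.one]
        conv_lhs => rw [e]
        rw [D.add _ hvA, D.add _ hvA, D.zsmul hvA, D.sub hvA, h1, div_self (D.ne_zero hvA y), mul_one, h3, mul_one]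
      have hm1 : ∀ v ∈ V, p * v = v * p → v ≠ 1 → χ v x₁ = -1 := by
        intro v hv hpv hv1
        have hvA := ((hV v).1 hv).1
        have h1 : χ v x₁ ^ 2 = 1 := by rw [pow_two, ← D.mul _ hvA _ hvA, ((hV v).1 hv).2, D.one]
        rcases (show χ v x₁ = 1 ∨ χ v x₁ = -1 by
            have h3 : (χ v x₁ - 1) * (χ v x₁ + 1) = 0 := by linear_combination h1
            rcases mul_eq_zero.1 h3 with h4 | h4
            · exact Or.inl (sub_eq_zero.1 h4)
            · exact Or.inr (eq_neg_of_add_eq_zero_left h4)) with h2 | h2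
        · exfalso
          apply hv1
          refine D.inj v hvA fun x => ?_
          obtain ⟨m, hm⟩ := hval v hv hpv x
          rw [hm v hv hpv, h2, one_zpow]
        · exact h2
      intro v hv v' hv' hpv hpv' hv1 hv1'
      refine D.ext ((hV v).1 hv).1 ((hV v').1 hv').1 fun x => ?_
      obtain ⟨m, hm⟩ := hval v hv hpv x
      rw [hm v hv hpv, hm v' hv' hpv', hm1 v hv hpv hv1, hm1 v' hv' hpv' hv1']
    · intro x hx v hv
      rw [hV] at hv ⊢
      refine ⟨D.conj x hx v hv.1, ?_⟩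
      calc x * v * x⁻¹ * (x * v * x⁻¹) = x * (v * v) * x⁻¹ := by group
        _ = 1 := by rw [hv.2]; group
    · intro v hv
      rw [hV] at hv ⊢
      refine ⟨hA v hv.1, ?_⟩
      calc g * v * g⁻¹ * (g * v * g⁻¹) = g * (v * v) * g⁻¹ := by group
        _ = 1 := by rw [hv.2]; group
  -- `g` centralises `A`
  have hAfix : ∀ n : ℕ, ∀ a ∈ A, a ^ 2 ^ n = 1 → g * a * g⁻¹ = a := by
    intro n
    induction n with
    | zero =>
      intro a _ h
      rw [pow_zero, pow_one] at h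
      rw [h]; group
    | succ n ih =>
      intro a ha h
      have h1 : g * (a * a) * g⁻¹ = a * a := by
        refine ih (a * a) (mul_mem ha ha) ?_
        rw [← pow_two, ← pow_mul, ← pow_succ']
        exact h
      have hc : g * a * g⁻¹ * a⁻¹ ∈ A := mul_mem (hA a ha) (inv_mem ha)
      have h2 : g * a * g⁻¹ * a⁻¹ * (g * a * g⁻¹ * a⁻¹) = 1 := by
        calc g * a * g⁻¹ * a⁻¹ * (g * a * g⁻¹ * a⁻¹) = g * a * g⁻¹ * (a⁻¹ * (g * a * g⁻¹)) * a⁻¹ := by group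
          _ = g * a * g⁻¹ * ((g * a * g⁻¹) * a⁻¹) * a⁻¹ := by rw [D.comm _ (inv_mem ha) _ (hA a ha)]
          _ = g * (a * a) * g⁻¹ * (a * a)⁻¹ := by group
          _ = 1 := by rw [h1, mul_inv_cancel]
      have h3 : g * a * g⁻¹ * a⁻¹ = 1 := by
        refine eq_one_of_conj (g := g) (u := a) ho (hVfix _ ((hV _).2 ⟨hc, h2⟩)) (by group) (n := 1) ?_
        rw [pow_one, pow_two]
        exact h2
      exact mul_inv_eq_one.1 h3
  have hAfix' : ∀ a ∈ A, g * a * g⁻¹ = a := by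
    intro a ha
    obtain ⟨n, hn⟩ := D.two ⟨a, D.le ha⟩
    exact hAfix n a ha (congrArg Subtype.val hn)
  intro s hs
  have h1 : s⁻¹ * (g * s * g⁻¹) ∈ A := by
    refine D.mem_of_comm (by omega) hK (mul_mem (inv_mem hs) (hg s hs)) fun t ht => ?_
    have h2 : g⁻¹ * t * g = t := by
      calc g⁻¹ * t * g = g⁻¹ * (g * t * g⁻¹) * g := by rw [hAfix' t ht]
        _ = t := by group
    calc s⁻¹ * (g * s * g⁻¹) * t * (s⁻¹ * (g * s * g⁻¹))⁻¹ = s⁻¹ * (g * (s * (g⁻¹ * t * g) * s⁻¹) * g⁻¹) * s := by group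
      _ = s⁻¹ * (g * (s * t * s⁻¹) * g⁻¹) * s := by rw [h2]
      _ = s⁻¹ * (s * t * s⁻¹) * s := by rw [hAfix' _ (D.conj s hs t ht)]
      _ = t := by group
  have h2 : s * (s⁻¹ * (g * s * g⁻¹)) * s⁻¹ ∈ A := D.conj s hs _ h1
  have e : s * (s⁻¹ * (g * s * g⁻¹)) * s⁻¹ = g * s * g⁻¹ * s⁻¹ := by group
  rw [e] at h2
  obtain ⟨n, hn⟩ := D.two ⟨_, D.le h2⟩
  have h3 : g * s * g⁻¹ * s⁻¹ = 1 :=
    eq_one_of_conj (g := g) (u := s) ho (hAfix' _ h2) (by group) (n := n) (congrArg Subtype.val hn)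
  exact mul_inv_eq_one.1 h3

end Dat

end Cfsg.Agent.H796.TorRow
end

-- part: H796/TorAbs
section
/-!
# Odd order automorphisms of Sylow 2-subgroups in normalisers of tori (helper796)

`N ≤ G` of odd index, `r : N → W` surjective with abelian kernel described by characters `χ a : ℤ^l → k`.
If no element of `W` other than `1`, `-1` is trivial modulo 2 and some element of 2-power order of `W` is a single
Jordan block modulo 2, then `OddRow G`.
-/

set_option autoImplicit false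

namespace Cfsg.Agent.H796.TorAbs

open Subgroup Cfsg.Agent.H796.TorRow

variable {G : Type*} [Group G]

/-- the data -/
structure Tor {N : Subgroup G} {W : Type*} [Group W] {l : ℕ} (r : ↥N →* W)
    (act : W →* Module.End ℤ (Fin l → ℤ)) {k : Type*} [Field k] (χ : G → (Fin l → ℤ) → k) (ζ : k) : Prop where
  surj : Function.Surjective r
  comm : ∀ a b : ↥N, r a = 1 → r b = 1 → a * b = b * a
  mul : ∀ a b : ↥N, r a = 1 → r b = 1 → ∀ x, χ ((a : G) * b) x = χ a x * χ b x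
  add : ∀ a : ↥N, r a = 1 → ∀ x y, χ a (x + y) = χ a x * χ a y
  zero : ∀ a : ↥N, r a = 1 → χ a 0 = 1
  inj : ∀ a : ↥N, r a = 1 → (∀ x, χ a x = 1) → a = 1
  chi_act : ∀ p a : ↥N, r a = 1 → ∀ x, χ ((p : G) * a * (p : G)⁻¹) (act (r p) x) = χ a x
  prim : IsPrimitiveRoot ζ 4
  rich : ∀ i : Fin l, ∃ t : ↥N, r t = 1 ∧ ∀ x, χ t x = ζ ^ (x i)

namespace Tor

variable {N : Subgroup G} {W : Type*} [Group W] {l : ℕ} {r : ↥N →* W}
    {act : W →* Module.End ℤ (Fin l → ℤ)} {k : Type*} [Field k] {χ : G → (Fin l → ℤ) → k} {ζ : k}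
    (H : Tor r act χ ζ)

include H

/-- an element of 2-power order over an element of 2-power order. -/
theorem exists_lift [Finite G] {w : W} {n : ℕ} (hw : w ^ 2 ^ n = 1) : ∃ p : ↥N, r p = w ∧ ∃ j, p ^ 2 ^ j = 1 := by
  obtain ⟨x, hx⟩ := H.surj w
  obtain ⟨a, b, hb, hab⟩ := Nat.exists_eq_two_pow_mul_odd (orderOf_pos x).ne'
  have hco : Nat.Coprime (2 ^ n) b := Nat.Coprime.pow_left n (Nat.coprime_two_left.2 hb)
  obtain ⟨c, hc1, hc2⟩ := Nat.chineseRemainder hco 1 0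
  refine ⟨x ^ c, ?_, a, ?_⟩
  · rw [map_pow, hx]
    have h1 : c ≡ 1 [MOD orderOf w] := hc1.of_dvd (orderOf_dvd_of_pow_eq_one hw)
    rw [pow_eq_pow_iff_modEq.2 h1, pow_one]
  · obtain ⟨d, hd⟩ := (Nat.modEq_zero_iff_dvd.1 hc2)
    rw [← pow_mul, hd]
    have e : b * d * 2 ^ a = orderOf x * d := by rw [hab]; ring
    rw [e, pow_mul, pow_orderOf_eq_one, one_pow]

/-- the elements of order dividing 4 of the kernel are in all Sylow 2-subgroups. -/
theorem mem_sylow {t : ↥N} (ht : r t = 1) (h4 : t ^ 4 = 1) [Finite G] (Q : Sylow 2 ↥N) : t ∈ Q := by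
  have : Fact (Nat.Prime 2) := ⟨Nat.prime_two⟩
  obtain ⟨E, hE⟩ : ∃ E : Subgroup ↥N, ∀ a, a ∈ E ↔ r a = 1 ∧ a ^ 4 = 1 := by
    refine ⟨{ carrier := {a | r a = 1 ∧ a ^ 4 = 1}, mul_mem' := ?_, one_mem' := ?_, inv_mem' := ?_ }, fun a => Iff.rfl⟩
    · rintro a b ⟨ha, ha'⟩ ⟨hb, hb'⟩
      refine ⟨by rw [map_mul, ha, hb, one_mul], ?_⟩
      have h1 : Commute a b := H.comm a b ha hb
      rw [h1.mul_pow, ha', hb', one_mul]
    · exact ⟨map_one r, one_pow 4⟩
    · rintro a ⟨ha, ha'⟩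
      exact ⟨by rw [map_inv, ha, inv_one], by rw [inv_pow, ha', inv_one]⟩
  have hn : E.Normal := ⟨fun a ha g => by
    rw [hE] at ha ⊢
    exact ⟨by rw [map_mul, map_mul, ha.1, mul_one, map_inv, mul_inv_cancel], by rw [conj_pow, ha.2]; group⟩⟩
  have hp : IsPGroup 2 E := fun a => ⟨2, Subtype.ext ((hE _).1 a.2).2⟩
  exact hp.le_sylow_of_normal Q ((hE t).2 ⟨ht, h4⟩)

/-- **The row.** -/
theorem oddRow [Finite G] (hl : 2 ≤ l) (hidx : ¬ 2 ∣ N.index)
    (hK : ∀ w, (∀ x, ∃ y, act w x - x = (2 : ℤ) • y) → w = 1 ∨ ∀ x, act w x = -x) {w : W} {n : ℕ}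
    (hw : w ^ 2 ^ n = 1)
    (hJ : ∃ x₁, ∀ x, ∃ (m : ℤ) (y z : Fin l → ℤ), x = m • x₁ + (act w y - y) + (2 : ℤ) • z) :
    Cfsg.Agent.H747.OddRow G := by
  classical
  have : Fact (Nat.Prime 2) := ⟨Nat.prime_two⟩
  obtain ⟨p, hp, j, hj⟩ := H.exists_lift hw
  have hpp : IsPGroup 2 (zpowers p) := by
    rintro ⟨_, i, rfl⟩
    refine ⟨j, Subtype.ext ?_⟩
    show (p ^ i) ^ 2 ^ j = 1
    rw [← zpow_natCast, ← zpow_mul, mul_comm, zpow_mul, zpow_natCast, hj, one_zpow]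
  obtain ⟨Q, hQ⟩ := hpp.exists_le_sylow
  have hpQ : p ∈ Q := hQ (mem_zpowers p)
  have hP2 : IsPGroup 2 ((Q : Subgroup ↥N).map N.subtype) := Q.2.map _
  have hPi : ¬ 2 ∣ ((Q : Subgroup ↥N).map N.subtype).index := by
    rw [index_map_subtype, Nat.prime_two.dvd_mul]
    rintro (h | h)
    · exact Q.not_dvd_index h
    · exact hidx h
  obtain ⟨P, hP⟩ : ∃ P : Subgroup G, P = (Q : Subgroup ↥N).map N.subtype := ⟨_, rfl⟩
  obtain ⟨A, hA⟩ : ∃ A : Subgroup G, A = ((Q : Subgroup ↥N) ⊓ r.ker).map N.subtype := ⟨_, rfl⟩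
  have hPm : ∀ x, x ∈ P ↔ ∃ a : ↥N, a ∈ Q ∧ (a : G) = x := fun x => by rw [hP]; exact Iff.rfl
  have hAm : ∀ x, x ∈ A ↔ ∃ a : ↥N, (a ∈ Q ∧ r a = 1) ∧ (a : G) = x := fun x => by rw [hA]; exact Iff.rfl
  obtain ⟨ρ, hρ⟩ : ∃ ρ : G → W, ∀ a : ↥N, ρ a = r a := by
    refine ⟨fun g => if h : g ∈ N then r ⟨g, h⟩ else 1, fun a => ?_⟩
    simp
  have D : Dat P A act ρ χ ζ :=
    { le := by
        intro x hx
        obtain ⟨a, ⟨ha, -⟩, rfl⟩ := (hAm x).1 hx
        exact (hPm _).2 ⟨a, ha, rfl⟩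
      two := by rw [hP]; exact hP2
      conj := by
        intro x hx a ha
        obtain ⟨x, hxQ, rfl⟩ := (hPm x).1 hx
        obtain ⟨a, ⟨haQ, ha1⟩, rfl⟩ := (hAm a).1 ha
        refine (hAm _).2 ⟨x * a * x⁻¹, ⟨mul_mem (mul_mem hxQ haQ) (inv_mem hxQ), ?_⟩, rfl⟩
        rw [map_mul, map_mul, ha1, mul_one, map_inv, mul_inv_cancel]
      comm := by
        intro a ha b hb
        obtain ⟨a, ⟨ha, ha1⟩, rfl⟩ := (hAm a).1 ha
        obtain ⟨b, ⟨hb, hb1⟩, rfl⟩ := (hAm b).1 hb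
        exact congrArg Subtype.val (H.comm a b ha1 hb1)
      rho_mul := by
        intro x hx y hy
        obtain ⟨x, hx, rfl⟩ := (hPm x).1 hx
        obtain ⟨y, hy, rfl⟩ := (hPm y).1 hy
        rw [← Subgroup.coe_mul, hρ, hρ, hρ, map_mul]
      ker := by
        intro x hx h1
        obtain ⟨x, hxQ, rfl⟩ := (hPm x).1 hx
        rw [hρ] at h1
        exact (hAm _).2 ⟨x, ⟨hxQ, h1⟩, rfl⟩
      ker' := by
        intro x hx
        obtain ⟨x, ⟨hx, hx1⟩, rfl⟩ := (hAm x).1 hx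
        rw [hρ, hx1]
      mul := by
        intro a ha b hb x
        obtain ⟨a, ⟨ha, ha1⟩, rfl⟩ := (hAm a).1 ha
        obtain ⟨b, ⟨hb, hb1⟩, rfl⟩ := (hAm b).1 hb
        exact H.mul a b ha1 hb1 x
      add := by
        intro a ha x y
        obtain ⟨a, ⟨ha, ha1⟩, rfl⟩ := (hAm a).1 ha
        exact H.add a ha1 x y
      zero := by
        intro a ha
        obtain ⟨a, ⟨ha, ha1⟩, rfl⟩ := (hAm a).1 ha
        exact H.zero a ha1
      inj := by
        intro a ha h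
        obtain ⟨a, ⟨ha, ha1⟩, rfl⟩ := (hAm a).1 ha
        rw [H.inj a ha1 h]
        rfl
      chi_act := by
        intro x hx a ha y
        obtain ⟨x, hx, rfl⟩ := (hPm x).1 hx
        obtain ⟨a, ⟨ha, ha1⟩, rfl⟩ := (hAm a).1 ha
        rw [hρ]
        exact H.chi_act x a ha1 y
      prim := H.prim
      rich := by
        intro i
        obtain ⟨t, ht, h1⟩ := H.rich i
        have hpow : ∀ n : ℕ, r (t ^ n) = 1 ∧ ∀ x, χ ((t ^ n : ↥N) : G) x = (ζ ^ (x i)) ^ n := by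
          intro n
          induction n with
          | zero =>
            refine ⟨by rw [pow_zero, map_one], fun x => ?_⟩
            have h2 := H.mul 1 t (map_one r) ht x
            rw [Subgroup.coe_one, one_mul] at h2
            have h3 : χ t x ≠ 0 := by
              rw [h1]
              exact zpow_ne_zero _ (H.prim.ne_zero (by norm_num))
            rw [pow_zero, pow_zero, Subgroup.coe_one]
            exact (mul_eq_right₀ h3).1 h2.symm
          | succ n ih =>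
            refine ⟨by rw [pow_succ, map_mul, ih.1, ht, one_mul], fun x => ?_⟩
            rw [pow_succ, Subgroup.coe_mul, H.mul _ _ ih.1 ht, ih.2, h1, pow_succ]
        have h4 : t ^ 4 = 1 := by
          refine H.inj _ (hpow 4).1 fun x => ?_
          rw [(hpow 4).2, ← zpow_natCast, ← zpow_mul, mul_comm, zpow_mul, zpow_natCast, H.prim.pow_eq_one, one_zpow]
        exact ⟨t, (hAm _).2 ⟨t, ⟨H.mem_sylow ht h4 Q, ht⟩, rfl⟩, h1⟩ }
  have hmain := fun {g : G} => D.main hl hK (g := g) ⟨p, (hPm _).2 ⟨p, hpQ, rfl⟩, by rw [hρ, hp]; exact hJ⟩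
  refine Cfsg.Agent.H747.OddRow.of_centralizes (hP2.toSylow hPi) fun g hg ho s hs => ?_
  have hs' : s ∈ P := by rw [hP]; exact hs
  rw [IsPGroup.toSylow_coe, ← hP] at hg
  have h1 := hmain ho (fun x hx => (mem_normalizer_iff.1 hg x).1 hx) s hs'
  calc g * s = g * s * g⁻¹ * g := by group
    _ = s * g := by rw [h1]

end Tor

end Cfsg.Agent.H796.TorAbs
end

-- part: H796/TorInst
section
/-!
# Normalisers of split and totally inverted tori of the untwisted groups (helper796)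

`D` of type `hp : IsType D l M` with unimodular Cartan matrix, `F` a finite field with `q` elements, `w₀` acting as
`s = ±1` on the root lattice, `m = q - s` divisible by 4. There is `N ≤ D.group F` of order `m ^ l * |W|` with the data
`Tor` for the reflection representation (`exists_tor`).
-/

set_option autoImplicit false
set_option linter.unusedSectionVars false

namespace Cfsg.Agent.H796.TorInst

open CoxeterSystem Cfsg Cfsg.Lie Cfsg.Lie.ChevalleyDatum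
open Cfsg.Agent.ChevalleyStructure Cfsg.Agent.ChevalleyStructure.Elts Cfsg.Agent.ChevalleyStructure.CoxeterGeom
  Cfsg.Agent.ChevalleyStructure.CoxeterGeomTypes Cfsg.Agent.ChevalleyStructure.NPerm
open Cfsg.Agent.Tits.Roots Cfsg.Agent.Tits.Core Cfsg.Agent.Nodes Cfsg.Agent.Nodes.Reps Cfsg.Agent.Nodes.BNOf
  Cfsg.Agent.Nodes.RGDChev Cfsg.Agent.Nodes.Bruhat Cfsg.Agent.Nodes.SubComb Cfsg.Agent.Nodes.Coroot
open Cfsg.Agent.KFacts.RgdField Cfsg.Agent.KFacts.RgdChevCoord Cfsg.Agent.BpExc.TorCent Cfsg.Agent.BpExc.TorChev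
open Cfsg.Agent.GpExc.Field Cfsg.Agent.BpExc.Tow Cfsg.Agent.BpExc.TowChev Cfsg.Agent.BpExc.Fr
  Cfsg.Agent.BpExc.LangFr Cfsg.Agent.LangThm Cfsg.Agent.BpExc Cfsg.Agent.H129.TorusChar Cfsg.Agent.H129.TorusCent
  Cfsg.Agent.H129.TorusTw Cfsg.Agent.H129.TorusMain Cfsg.Agent.H129.TorusUntw Cfsg.Agent.H129.TorAct
open Cfsg.Agent.H796.TorAbs

universe u

variable {D : ChevalleyDatum} {l : ℕ} {M : CoxeterMatrix (Fin l)} (hp : IsType D l M) {k : Type u} [Field k]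
  {W : Type*} [Group W] (cs : CoxeterSystem M W)

/-! ### separation -/

/-- the torus separates the characters. -/
theorem eq_zero_of_cX [IsAlgClosed k] (p : ℕ) [Fact p.Prime] [CharP k p] {B' : Fin l → Fin l → ℤ}
    (hB : InvC D l 1 B') {x : Fin l → ℤ} (h : ∀ t ∈ TT D k, cX hp t x = 1) : x = 0 := by
  by_contra hne
  obtain ⟨i, hi⟩ : ∃ i, x i ≠ 0 := by
    by_contra hcon
    push Not at hcon
    exact hne (funext hcon)
  obtain ⟨n, hn⟩ : ∃ n : ℕ, n = p * (x i).natAbs + 1 := ⟨_, rfl⟩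
  have hp1 := (Fact.out : p.Prime).one_lt
  have hnk : (n : k) ≠ 0 := by
    rw [Ne, CharP.cast_eq_zero_iff k p, hn]
    intro h1
    have h2 : p ∣ 1 := (Nat.dvd_add_right (Dvd.intro _ rfl)).1 h1
    exact hp1.ne' (Nat.dvd_one.1 h2)
  have : NeZero (n : k) := ⟨hnk⟩
  obtain ⟨c, hc⟩ := HasEnoughRootsOfUnity.exists_primitiveRoot k n
  have hc0 : c ≠ 0 := hc.ne_zero (by omega)
  have hφ : IsMC (fun y : Fin l → ℤ => c ^ y i) :=
    ⟨by simp, fun y z => by show c ^ (y i + z i) = _; rw [zpow_add₀ hc0]⟩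
  obtain ⟨t, ht, h1⟩ := exists_cX hp hB one_ne_zero hφ fun j => ⟨_, pow_one _⟩
  have h2 := h t ht
  rw [h1, hc.zpow_eq_one_iff_dvd] at h2
  have h3 : n ≤ (x i).natAbs := Nat.le_of_dvd (Int.natAbs_pos.2 hi) (Int.natCast_dvd.1 h2)
  have h4 : (x i).natAbs ≤ p * (x i).natAbs := Nat.le_mul_of_pos_left _ (by omega)
  omega

/-- an element of the normaliser of the torus represents one Weyl group element. -/
theorem rp_inj [IsAlgClosed k] (hk : LocFin k) {hN : NSys M (TT D k) (nc hp k)} (p : ℕ) [Fact p.Prime] [CharP k p]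
    {B' : Fin l → Fin l → ℤ} (hB : InvC D l 1 B') {v w : W} {y : ↥(D.group k)} (h1 : Rp cs hN v y)
    (h2 : Rp cs hN w y) : v = w := by
  have h3 : Rp cs hN (v⁻¹ * w) 1 := by
    have := h1.inv.mul h2
    rwa [inv_mul_cancel] at this
  have h4 : v⁻¹ * w = 1 := by
    refine ChevalleyStructure.CoxeterGeom.eq_one_of_fix cs hp.isCartan _ fun i => ?_
    rw [← sub_eq_zero]
    refine eq_zero_of_cX (k := k) hp p hB fun t ht => ?_
    have h5 := cX_rp hp cs hk p h3 ht (sr i)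
    rw [one_mul, inv_one, mul_one] at h5
    have h6 := (isMC_cX hp ht).sub (rep cs hp.isCartan (v⁻¹ * w) (sr i)) (sr i)
    rw [h5, div_self ((isMC_cX hp ht).ne_zero _)] at h6
    exact h6
  exact inv_mul_eq_one.1 h4

/-- representatives fixed by the Frobenius. -/
theorem exists_std [IsAlgClosed k] {p e : ℕ} [Fact p.Prime] [CharP k p] {hN : NSys M (TT D k) (nc hp k)} (v : W) :
    ∃ m, Rp cs hN v m ∧ phi D k p e m = m := by
  obtain ⟨m, hm, hr⟩ := exists_rp_closure (cs := cs) (hN := hN) v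
  refine ⟨m, hr, ?_⟩
  have h1 : Subgroup.closure (Set.range (nc hp k)) ≤
      (phi D k p e).toMonoidHom.eqLocus (MonoidHom.id ↥(D.group k)) := by
    rw [Subgroup.closure_le]
    rintro _ ⟨i, rfl⟩
    show phi D k p e (nc hp k i) = nc hp k i
    rw [phi_eq hp, emb_nc]
  exact h1 hm

/-! ### the twisted torus of `±1` -/

section Tw

variable {p e : ℕ} [Fact p.Prime] [CharP k p] {w0 : W} {s : ℤ} (hs : s = 1 ∨ s = -1)
  (hw0 : ∀ x, rep cs hp.isCartan w0 x = s • x) {m : ℕ} (hm : (m : ℤ) = (p ^ e : ℕ) - s)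

theorem sq_eq (hs : s = 1 ∨ s = -1) : s * s = 1 := by
  rcases hs with rfl | rfl <;> norm_num

include cs hs hw0 in
/-- the characters of `n σ(t) n⁻¹`. -/
theorem cX_tw [IsAlgClosed k] (hk : LocFin k) {hN : NSys M (TT D k) (nc hp k)} {n : ↥(D.group k)}
    (hn : Rp cs hN w0 n) {t : ↥(D.group k)} (ht : t ∈ TT D k) (x : Fin l → ℤ) :
    cX hp (n * phi D k p e t * n⁻¹) x = cX hp t x ^ (s * (p ^ e : ℕ)) := by
  have h := cX_tau hp cs hk isFrob_phi (fr_phi (p := p) (e := e) hp cs) hn ht (s • x)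
  rw [theta_apply, AddEquiv.refl_apply, hw0, smul_smul, sq_eq hs, one_smul, (isMC_cX hp ht).zsmul] at h
  rw [h, ← zpow_natCast, ← zpow_mul]

include cs hs hw0 hm in
theorem tw_iff [IsAlgClosed k] (hk : LocFin k) {hN : NSys M (TT D k) (nc hp k)} {n : ↥(D.group k)}
    (hn : Rp cs hN w0 n) {t : ↥(D.group k)} (ht : t ∈ TT D k) :
    n * phi D k p e t * n⁻¹ = t ↔ ∀ i, cX hp t (sr i) ^ m = 1 := by
  have hmem := tau_mem hp cs (fr_phi (p := p) (e := e) hp cs) hn ht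
  have key : ∀ i, cX hp (n * phi D k p e t * n⁻¹) (sr i) = cX hp t (sr i) ↔ cX hp t (sr i) ^ m = 1 := by
    intro i
    have h0 := (isMC_cX hp ht).ne_zero (sr i)
    rw [cX_tw hp cs hs hw0 hk hn ht, ← zpow_natCast, hm]
    have e1 : cX hp t (sr i) ^ (s * (p ^ e : ℕ) : ℤ) = cX hp t (sr i) *
        (cX hp t (sr i) ^ (((p ^ e : ℕ) : ℤ) - s)) ^ s := by
      rw [← zpow_mul]
      nth_rewrite 2 [← zpow_one (cX hp t (sr i))]
      rw [← zpow_add₀ h0]
      congr 1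
      have := sq_eq hs
      linear_combination this
    rw [e1, mul_eq_left₀ h0]
    rcases hs with rfl | rfl
    · rw [zpow_one]
    · rw [zpow_neg_one, inv_eq_one]
  constructor
  · intro h i
    rw [← key, h]
  · intro h
    exact cX_inj hp hmem ht fun i => (key i).2 (h i)

include cs hs hw0 hm in
/-- Lang's theorem. -/
theorem tw_lang [IsAlgClosed k] (hk : LocFin k) {hN : NSys M (TT D k) (nc hp k)} {n : ↥(D.group k)}
    (hn : Rp cs hN w0 n) (hm0 : m ≠ 0) {B' : Fin l → Fin l → ℤ} (hB : InvC D l 1 B') {t0 : ↥(D.group k)}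
    (ht0 : t0 ∈ TT D k) : ∃ t ∈ TT D k, t = t0 * (n * phi D k p e t * n⁻¹) := by
  have hroot : ∀ i, ∃ b : k, b ^ m = cX hp t0 (sr i) ^ (-s) := fun i =>
    IsAlgClosed.exists_pow_nat_eq _ (Nat.pos_of_ne_zero hm0)
  choose b hb using hroot
  have hb0 : ∀ i, b i ≠ 0 := by
    intro i h0
    have h1 := hb i
    rw [h0, zero_pow hm0] at h1
    exact zpow_ne_zero _ ((isMC_cX hp ht0).ne_zero _) h1.symm
  have hφ : IsMC (fun x : Fin l → ℤ => ∏ i, b i ^ x i) := IsMC.of_prod _ hb0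
  obtain ⟨t, ht, hc⟩ := exists_cX hp hB one_ne_zero hφ fun j => ⟨_, pow_one _⟩
  have hval : ∀ i, cX hp t (sr i) = b i := by
    intro i
    rw [hc]
    show ∏ j, (b j) ^ (sr i : Fin l → ℤ) j = _
    rw [Finset.prod_eq_single i]
    · rw [sr_self, zpow_one]
    · intro j _ hj
      rw [sr_ne hj, zpow_zero]
    · intro hi
      exact absurd (Finset.mem_univ i) hi
  have hmem := tau_mem hp cs (fr_phi (p := p) (e := e) hp cs) hn ht
  refine ⟨t, ht, cX_inj hp ht (mul_mem ht0 hmem) fun i => ?_⟩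
  have h0 := (isMC_cX hp ht).ne_zero (sr i)
  have h1 : cX hp t0 (sr i) = (cX hp t (sr i) ^ m) ^ (-s) := by
    rw [hval, hb, ← zpow_mul]
    have e1 : -s * -s = 1 := by rw [neg_mul_neg, sq_eq hs]
    rw [e1, zpow_one]
  rw [cX_mul hp ht0 hmem, cX_tw hp cs hs hw0 hk hn ht, h1, ← zpow_natCast, ← zpow_mul, ← zpow_add₀ h0, hm]
  have e2 : (((p ^ e : ℕ) : ℤ) - s) * -s + s * (p ^ e : ℕ) = 1 := by
    have := sq_eq hs
    linear_combination this
  rw [e2, zpow_one]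

end Tw

/-! ### the finite group -/

section Fin

/-- the characters of order dividing `m` -/
theorem card_tor [IsAlgClosed k] {B' : Fin l → Fin l → ℤ} (hB : InvC D l 1 B') {m : ℕ} (hmk : (m : k) ≠ 0) :
    Nat.card {t : ↥(D.group k) // t ∈ TT D k ∧ ∀ i, cX hp t (sr i) ^ m = 1} = m ^ l := by
  have : NeZero (m : k) := ⟨hmk⟩
  have hm0 : m ≠ 0 := by rintro rfl; exact hmk Nat.cast_zero
  have : NeZero m := ⟨hm0⟩
  have h1 : Nat.card (Fin l → rootsOfUnity m k) = m ^ l := by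
    rw [Nat.card_fun, HasEnoughRootsOfUnity.natCard_rootsOfUnity, Nat.card_eq_fintype_card, Fintype.card_fin]
  rw [← h1]
  refine Nat.card_eq_of_bijective (fun t i => (⟨Units.mk0 (cX hp t.1 (sr i)) ((isMC_cX hp t.2.1).ne_zero _),
    (mem_rootsOfUnity _ _).2 (Units.ext (t.2.2 i))⟩ : rootsOfUnity m k)) ⟨?_, ?_⟩
  · intro t t' h
    refine Subtype.ext (cX_inj hp t.2.1 t'.2.1 fun i => ?_)
    have h2 := congrFun h i
    exact congrArg (fun z : rootsOfUnity m k => ((z : kˣ) : k)) h2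
  · intro c
    have hφ : IsMC (fun x : Fin l → ℤ => ∏ i, (((c i : kˣ)) : k) ^ x i) := IsMC.of_prod _ fun i => Units.ne_zero _
    obtain ⟨t, ht, hc⟩ := exists_cX hp hB one_ne_zero hφ fun j => ⟨_, pow_one _⟩
    have hval : ∀ i, cX hp t (sr i) = ((c i : kˣ) : k) := by
      intro i
      rw [hc]
      show ∏ j, (((c j : kˣ)) : k) ^ (sr i : Fin l → ℤ) j = _
      rw [Finset.prod_eq_single i]
      · rw [sr_self, zpow_one]
      · intro j _ hj
        rw [sr_ne hj, zpow_zero]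
      · intro hi
        exact absurd (Finset.mem_univ i) hi
    refine ⟨⟨t, ht, fun i => ?_⟩, ?_⟩
    · rw [hval, ← Units.val_pow_eq_pow_val, (mem_rootsOfUnity _ _).1 (c i).2, Units.val_one]
    · funext i
      exact Subtype.ext (Units.ext (hval i))

variable {F : Type u} [Field F] [Fintype F]

include cs in
/-- **The normaliser of the torus `±1`.** -/
theorem exists_tor [Finite W] {q : ℕ} (hq : Fintype.card F = q) {B' : Fin l → Fin l → ℤ} (hB : InvC D l 1 B')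
    {w0 : W} {s : ℤ} (hs : s = 1 ∨ s = -1) (hw0 : ∀ x, rep cs hp.isCartan w0 x = s • x) {m : ℕ}
    (hm : (m : ℤ) = q - s) (h4 : 4 ∣ m) (hm0 : m ≠ 0) :
    ∃ (N : Subgroup ↥(D.group F)) (r : ↥N →* W) (χ : ↥(D.group F) → (Fin l → ℤ) → AlgebraicClosure F)
      (ζ : AlgebraicClosure F), Tor r (rep cs hp.isCartan) χ ζ ∧ Nat.card N = m ^ l * Nat.card W := by
  obtain ⟨p, e, hpF, hpc, hpk, he, rfl, hk⟩ := _root_.Cfsg.Agent.H129.TorusUntw.exists_closure hq
  have hN : NSys M (TT D (AlgebraicClosure F)) (nc hp (AlgebraicClosure F)) := nsys_of_locFin hp cs hk p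
  obtain ⟨n, hn⟩ := exists_rp cs hN w0
  obtain ⟨z, hz⟩ := lang_all hp cs he isFrob_phi (fr_phi (p := p) (e := e) hp cs) 1 n
  rw [map_one, one_mul] at hz
  set σ := phi D (AlgebraicClosure F) p e with hσ
  have hσz : σ z = z * n := by rw [hz]; group
  -- the twisted embedding
  obtain ⟨e1, he1⟩ : ∃ e1 : ↥(D.group F) →* ↥(D.group (AlgebraicClosure F)),
      ∀ x, e1 x = z⁻¹ * emb hp.inList (algebraMap F (AlgebraicClosure F)) x * z :=
    ⟨(MulAut.conj z⁻¹).toMonoidHom.comp (emb hp.inList (algebraMap F (AlgebraicClosure F))), fun x => by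
      show z⁻¹ * _ * z⁻¹⁻¹ = _
      rw [inv_inv]⟩
  have hinj : Function.Injective e1 := by
    intro x y h
    rw [he1, he1] at h
    exact emb_injective hp.inList _ (mul_left_cancel (mul_right_cancel h))
  have hfix : ∀ x, n * σ (e1 x) * n⁻¹ = e1 x := by
    intro x
    have h1 := phi_emb (e := e) hp (algebraMap F (AlgebraicClosure F)) hq x
    rw [he1, map_mul, map_mul, map_inv, ← hσ] at *
    rw [h1, hσz]
    group
  have hrange : ∀ y, n * σ y * n⁻¹ = y → ∃ x, e1 x = y := by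
    intro y hy
    have h1 : σ (z * y * z⁻¹) = z * y * z⁻¹ := by
      rw [map_mul, map_mul, map_inv, hσz]
      calc z * n * σ y * (z * n)⁻¹ = z * (n * σ y * n⁻¹) * z⁻¹ := by group
        _ = z * y * z⁻¹ := by rw [hy]
    obtain ⟨x, hx⟩ := fix_range hp cs _ hq hB one_ne_zero (fun a => ⟨a, pow_one a⟩) h1
    refine ⟨x, ?_⟩
    rw [he1, hx]
    group
  -- `N`
  obtain ⟨N, hNdef⟩ : ∃ N : Subgroup ↥(D.group F), ∀ x, x ∈ N ↔ ∃ w, Rp cs hN w (e1 x) :=
    ⟨(NN cs hN).comap e1, fun x => Iff.rfl⟩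
  have hex : ∀ x : ↥N, ∃ w, Rp cs hN w (e1 x) := fun x => (hNdef x).1 x.2
  choose f hf using hex
  let r : ↥N →* W :=
    { toFun := f
      map_one' := rp_inj hp cs hk p hB (hf 1) (by rw [Subgroup.coe_one, map_one]; exact rp_one)
      map_mul' := fun a b => rp_inj hp cs hk p hB (hf (a * b)) (by
        rw [Subgroup.coe_mul, map_mul]; exact (hf a).mul (hf b)) }
  have hr : ∀ x : ↥N, Rp cs hN (r x) (e1 x) := hf
  have hker : ∀ x : ↥N, r x = 1 ↔ e1 x ∈ TT D (AlgebraicClosure F) := by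
    intro x
    constructor
    · intro h
      have h1 := hr x
      rw [h] at h1
      exact h1.mem_of_one
    · intro h
      exact rp_inj hp cs hk p hB (hr x) (rp_of_mem h)
  have hmk : (m : AlgebraicClosure F) ≠ 0 := by
    rw [Ne, CharP.cast_eq_zero_iff (AlgebraicClosure F) p]
    intro h1
    have h2 : (p : ℤ) ∣ (m : ℤ) := Int.natCast_dvd_natCast.2 h1
    have h3 : (p : ℤ) ∣ ((p ^ e : ℕ) : ℤ) := Int.natCast_dvd_natCast.2 (dvd_pow_self p he.ne')
    have h4' : (p : ℤ) ∣ s := by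
      have := dvd_sub h3 h2
      rwa [hm, sub_sub_cancel] at this
    have h5 : (p : ℤ) ∣ 1 := by
      rw [← sq_eq hs]
      exact h4'.mul_left s
    have h6 := Int.natCast_dvd_natCast.1 (by simpa using h5 : (p : ℤ) ∣ ((1 : ℕ) : ℤ))
    exact hpF.out.one_lt.ne' (Nat.dvd_one.1 h6)
  have htw : ∀ t ∈ TT D (AlgebraicClosure F), (n * σ t * n⁻¹ = t ↔ ∀ i, cX hp t (sr i) ^ m = 1) :=
    fun t ht => tw_iff hp cs hs hw0 hm hk hn ht
  -- surjectivity
  have hsurj : Function.Surjective r := by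
    intro v
    obtain ⟨m0, hm0r, hm0f⟩ := exists_std (p := p) (e := e) (hN := hN) hp cs v
    have hcomm : w0 * v * w0⁻¹ = v := by
      apply rep_injective cs hp.isCartan
      apply LinearMap.ext
      intro x
      rw [mul_assoc, rep_mul_apply, rep_mul_apply, hw0, ← map_zsmul, ← hw0, rep_apply_inv]
    have h1 : Rp cs hN v (n * σ m0 * n⁻¹) := by
      have h2 := (hn.mul hm0r).mul hn.inv
      rw [hcomm] at h2
      rw [hσ, hm0f]
      exact h2
    have h3 : m0⁻¹ * (n * σ m0 * n⁻¹) ∈ TT D (AlgebraicClosure F) := hm0r.unique h1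
    obtain ⟨t, ht, h5⟩ := tw_lang hp cs hs hw0 hm hk hn hm0 hB h3
    have h6 : n * σ (m0 * t) * n⁻¹ = m0 * t := by
      rw [map_mul]
      calc n * (σ m0 * σ t) * n⁻¹ = m0 * ((m0⁻¹ * (n * σ m0 * n⁻¹)) * (n * σ t * n⁻¹)) := by group
        _ = m0 * t := by rw [← h5]
    obtain ⟨x, hx⟩ := hrange _ h6
    have h7 : Rp cs hN v (e1 x) := by
      rw [hx]
      exact hm0r.mul_mem_right ht
    exact ⟨⟨x, (hNdef x).2 ⟨v, h7⟩⟩, rp_inj hp cs hk p hB (hr _) h7⟩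
  -- the root of unity
  have h4k : ((4 : ℕ) : AlgebraicClosure F) ≠ 0 := by
    obtain ⟨c, hc⟩ := h4
    intro h0
    apply hmk
    rw [hc, Nat.cast_mul, h0, zero_mul]
  have : NeZero ((4 : ℕ) : AlgebraicClosure F) := ⟨h4k⟩
  obtain ⟨ζ, hζ⟩ := HasEnoughRootsOfUnity.exists_primitiveRoot (AlgebraicClosure F) 4
  have hζ0 : ζ ≠ 0 := hζ.ne_zero (by norm_num)
  refine ⟨N, r, fun x => cX hp (e1 x), ζ, ?_, ?_⟩
  · exact
      { surj := hsurj
        comm := by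
          intro a b ha hb
          apply Subtype.ext
          apply hinj
          rw [Subgroup.coe_mul, Subgroup.coe_mul, map_mul, map_mul]
          exact TT_comm hp _ ((hker a).1 ha) _ ((hker b).1 hb)
        mul := by
          intro a b ha hb x
          rw [map_mul]
          exact cX_mul hp ((hker a).1 ha) ((hker b).1 hb) x
        add := fun a ha x y => (isMC_cX hp ((hker a).1 ha)).add x y
        zero := fun a ha => (isMC_cX hp ((hker a).1 ha)).zero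
        inj := by
          intro a ha h
          apply Subtype.ext
          apply hinj
          rw [Subgroup.coe_one, map_one]
          refine cX_inj hp ((hker a).1 ha) (one_mem _) fun i => ?_
          rw [cX_one]
          exact h _
        chi_act := by
          intro x a ha y
          show cX hp (e1 ((x : ↥(D.group F)) * a * (x : ↥(D.group F))⁻¹)) _ = _
          rw [map_mul, map_mul, map_inv]
          exact cX_rp hp cs hk p (hr x) ((hker a).1 ha) y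
        prim := hζ
        rich := by
          intro i
          have hφ : IsMC (fun x : Fin l → ℤ => ζ ^ x i) :=
            ⟨by simp, fun y z => by show ζ ^ (y i + z i) = _; rw [zpow_add₀ hζ0]⟩
          obtain ⟨t, ht, hc⟩ := exists_cX hp hB one_ne_zero hφ fun j => ⟨_, pow_one _⟩
          have h1 : n * σ t * n⁻¹ = t := by
            rw [htw t ht]
            intro j
            obtain ⟨c, hc4⟩ := h4
            have hz4 : ∀ a : ℤ, (ζ ^ a) ^ 4 = 1 := fun a => by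
              rw [← zpow_natCast, ← zpow_mul, mul_comm, zpow_mul, zpow_natCast, hζ.pow_eq_one, one_zpow]
            rw [hc, hc4, pow_mul, hz4, one_pow]
          obtain ⟨x, hx⟩ := hrange t h1
          have h2 : Rp cs hN 1 (e1 x) := by rw [hx]; exact rp_of_mem ht
          refine ⟨⟨x, (hNdef x).2 ⟨1, h2⟩⟩, rp_inj hp cs hk p hB (hr _) h2, fun y => ?_⟩
          show cX hp (e1 x) y = _
          rw [hx]
          exact hc y }
  · have h1 : Nat.card r.ker = m ^ l := by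
      rw [← card_tor (k := AlgebraicClosure F) hp hB hmk]
      refine Nat.card_eq_of_bijective (fun x => ⟨e1 (x : ↥N), (hker _).1 (MonoidHom.mem_ker.1 x.2),
        (htw _ ((hker _).1 (MonoidHom.mem_ker.1 x.2))).1 (hfix _)⟩) ⟨?_, ?_⟩
      · intro x y h
        exact Subtype.ext (Subtype.ext (hinj (congrArg Subtype.val h)))
      · rintro ⟨t, ht, h2⟩
        obtain ⟨x, hx⟩ := hrange t ((htw t ht).2 h2)
        have h3 : Rp cs hN 1 (e1 x) := by rw [hx]; exact rp_of_mem ht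
        exact ⟨⟨⟨x, (hNdef x).2 ⟨1, h3⟩⟩, MonoidHom.mem_ker.2 (rp_inj hp cs hk p hB (hr _) h3)⟩, Subtype.ext hx⟩
    have h2 := r.ker.card_mul_index
    rw [Subgroup.index_ker, MonoidHom.range_eq_top.2 hsurj, Nat.card_congr Subgroup.topEquiv.toEquiv, h1] at h2
    exact h2.symm

end Fin

end Cfsg.Agent.H796.TorInst
end

-- part: H796/TorData
section
/-!
# Checks of the data for the rows with a torus `±1` (helper796)

* `rep_mul_mat` : matrices of products;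
* `Good`, `KOK`, `hK_of` : elements of the Weyl group trivial modulo 2;
* `JOK`, `hJ_of` : an element with a single Jordan block modulo 2;
* `oddRow_of` : the row.
-/

set_option autoImplicit false
set_option linter.unusedSectionVars false

namespace Cfsg.Agent.H796.TorData

open CoxeterSystem Cfsg Cfsg.Lie Cfsg.Lie.ChevalleyDatum
open Cfsg.Agent.ChevalleyStructure Cfsg.Agent.ChevalleyStructure.Elts Cfsg.Agent.ChevalleyStructure.CoxeterGeom
  Cfsg.Agent.ChevalleyStructure.CoxeterGeomTypes Cfsg.Agent.ChevalleyStructure.NPerm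
  Cfsg.Agent.ChevalleyStructure.RootVec
open Cfsg.Agent.Tits.Roots Cfsg.Agent.Tits.Core Cfsg.Agent.Nodes Cfsg.Agent.Nodes.Reps Cfsg.Agent.Nodes.BNOf
  Cfsg.Agent.Nodes.RGDChev
open Cfsg.Agent.H129.TorusChar Cfsg.Agent.H129.WData
open Cfsg.Agent.H796.TorAbs Cfsg.Agent.H796.TorInst

universe u

/-! ### checks -/

/-- a root congruent modulo 2 only to itself and its negative -/
def Good (D : ChevalleyDatum) (l : ℕ) (v : Fin l → ℤ) : Prop :=
  (∃ i, v i ≠ 0) ∧ (∃ r : Fin D.nroots, ∀ i : Fin l, rt D r i = v i) ∧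
    ∀ r : Fin D.nroots, (∀ i : Fin l, (2 : ℤ) ∣ rt D r i - v i) →
      (∀ i : Fin l, rt D r i = v i) ∨ (∀ i : Fin l, rt D r i = - v i)

instance decGood (D : ChevalleyDatum) (l : ℕ) (v : Fin l → ℤ) : Decidable (Good D l v) := by
  unfold Good; infer_instance

/-- the check for the elements trivial modulo 2 -/
def KOK (D : ChevalleyDatum) (l : ℕ) (b C : Mat l) (par : Fin l → Fin l) : Prop :=
  (∀ j, Good D l (b j)) ∧
  (∀ j : Fin l, (j : ℕ) = 0 ∨ ((par j : ℕ) < j ∧ Good D l (fun i => b j i + b (par j) i))) ∧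
  ∀ i m : Fin l, (if i = m then 1 else 0) = ∑ j, C i j * b j m

instance decKOK (D : ChevalleyDatum) (l : ℕ) (b C : Mat l) (par : Fin l → Fin l) : Decidable (KOK D l b C par) := by
  unfold KOK; infer_instance

/-- the check for the single Jordan block -/
def JOK (l : ℕ) (X : Mat l) (x₁ μ : Fin l → ℤ) (Y Z : Mat l) : Prop :=
  ∀ j m : Fin l, (if j = m then 1 else 0) = μ j * x₁ m + ((∑ n, Y j n * X n m) - Y j m) + 2 * Z j m

instance decJOK (l : ℕ) (X : Mat l) (x₁ μ : Fin l → ℤ) (Y Z : Mat l) : Decidable (JOK l X x₁ μ Y Z) := by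
  unfold JOK; infer_instance

section

variable {D : ChevalleyDatum} {l : ℕ} {M : CoxeterMatrix (Fin l)} (hp : IsType D l M)
  {W : Type*} [Group W] (cs : CoxeterSystem M W)

theorem rep_apply_mat {w : W} {X : Mat l} (hX : ∀ j, rep cs hp.isCartan w (sr j) = X j) (x : Fin l → ℤ)
    (m : Fin l) : rep cs hp.isCartan w x m = ∑ j, x j * X j m := by
  conv_lhs => rw [IsMC.eq_sum_sr x]
  rw [map_sum, Finset.sum_apply]
  refine Finset.sum_congr rfl fun j _ => ?_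
  rw [map_zsmul, Pi.smul_apply, smul_eq_mul, hX j]

theorem rep_mul_mat {v w : W} {X Y Z : Mat l} (hX : ∀ j, rep cs hp.isCartan v (sr j) = X j)
    (hY : ∀ j, rep cs hp.isCartan w (sr j) = Y j) (hZ : ∀ j m, Z j m = ∑ n, Y j n * X n m) (j : Fin l) :
    rep cs hp.isCartan (v * w) (sr j) = Z j := by
  rw [rep_mul_apply, hY]
  funext m
  rw [rep_apply_mat hp cs hX, hZ]

theorem eq_one_of_mat {w : W} {X : Mat l} (hX : ∀ j, rep cs hp.isCartan w (sr j) = X j)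
    (h : ∀ j m, X j m = if j = m then 1 else 0) : w = 1 := by
  refine ChevalleyStructure.CoxeterGeom.eq_one_of_fix cs hp.isCartan w fun j => ?_
  have h1 := hX j
  refine h1.trans ?_
  funext m
  rw [h]
  by_cases hm : j = m
  · subst hm; rw [if_pos rfl]; exact (sr_self j).symm
  · rw [if_neg hm]; exact (sr_ne (Ne.symm hm)).symm

theorem neg_of_mat {w : W} {X : Mat l} (hX : ∀ j, rep cs hp.isCartan w (sr j) = X j)
    (h : ∀ j m, X j m = if j = m then -1 else 0) (x : Fin l → ℤ) : rep cs hp.isCartan w x = -x := by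
  funext m
  rw [rep_apply_mat hp cs hX, Finset.sum_eq_single m]
  · rw [h, if_pos rfl, Pi.neg_apply]; ring
  · intro j _ hj
    rw [h, if_neg hj, mul_zero]
  · intro hm
    exact absurd (Finset.mem_univ m) hm

theorem Good.eq {v : Fin l → ℤ} (hv : Good D l v) {w : W}
    (hw : ∀ x, ∃ y, rep cs hp.isCartan w x - x = (2 : ℤ) • y) :
    rep cs hp.isCartan w v = v ∨ rep cs hp.isCartan w v = -v := by
  obtain ⟨-, ⟨r, hr⟩, h2⟩ := hv
  have h3 : IsRoot cs hp.isCartan v := (isRoot_iff hp cs v).2 ⟨r, r.2, funext hr⟩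
  obtain ⟨s, hs, h4⟩ := (isRoot_iff hp cs _).1 (h3.act w)
  obtain ⟨y, hy⟩ := hw v
  rw [← h4] at hy ⊢
  rcases h2 ⟨s, hs⟩ (fun i => ⟨y i, by
    have := congrFun hy i
    rw [Pi.sub_apply, Pi.smul_apply, smul_eq_mul] at this
    exact this⟩) with h5 | h5
  · exact Or.inl (funext h5)
  · exact Or.inr (funext h5)

theorem hK_of {b C : Mat l} {par : Fin l → Fin l} (h : KOK D l b C par) (hl : 0 < l) (w : W)
    (hw : ∀ x, ∃ y, rep cs hp.isCartan w x - x = (2 : ℤ) • y) :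
    w = 1 ∨ ∀ x, rep cs hp.isCartan w x = -x := by
  obtain ⟨h1, h2, h3⟩ := h
  -- the common sign
  obtain ⟨ε, hε, h0⟩ : ∃ ε : ℤ, (ε = 1 ∨ ε = -1) ∧ rep cs hp.isCartan w (b ⟨0, hl⟩) = ε • b ⟨0, hl⟩ := by
    rcases Good.eq hp cs (h1 ⟨0, hl⟩) hw with h4 | h4
    · exact ⟨1, Or.inl rfl, by rw [h4, one_smul]⟩
    · exact ⟨-1, Or.inr rfl, by rw [h4, neg_one_smul]⟩
  have key : ∀ (n : ℕ) (hn : n < l), rep cs hp.isCartan w (b ⟨n, hn⟩) = ε • b ⟨n, hn⟩ := by
    intro n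
    induction n using Nat.strong_induction_on with
    | _ n ih =>
      intro hn
      rcases h2 ⟨n, hn⟩ with h4 | ⟨h4, h5⟩
      · have : n = 0 := h4
        subst this
        exact h0
      have h6 := ih (par ⟨n, hn⟩) h4 (par ⟨n, hn⟩).2
      obtain ⟨u, hu⟩ : ∃ u, u = b ⟨n, hn⟩ := ⟨_, rfl⟩
      obtain ⟨v, hv⟩ : ∃ v, v = b (par ⟨n, hn⟩) := ⟨_, rfl⟩
      have h7 : rep cs hp.isCartan w v = ε • v := by rw [hv]; exact h6
      have h8 : rep cs hp.isCartan w u = u ∨ rep cs hp.isCartan w u = -u := by rw [hu]; exact Good.eq hp cs (h1 _) hw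
      have h9 : rep cs hp.isCartan w (u + v) = u + v ∨ rep cs hp.isCartan w (u + v) = -(u + v) := by
        have e : u + v = fun i => b ⟨n, hn⟩ i + b (par ⟨n, hn⟩) i := by rw [hu, hv]; rfl
        rw [e]
        exact Good.eq hp cs h5 hw
      have hu0 : u ≠ 0 := by
        intro h
        obtain ⟨i, hi⟩ := (h1 ⟨n, hn⟩).1
        rw [← hu, h] at hi
        exact hi rfl
      have hv0 : v ≠ 0 := by
        intro h
        obtain ⟨i, hi⟩ := (h1 (par ⟨n, hn⟩)).1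
        rw [← hv, h] at hi
        exact hi rfl
      have hz : ∀ z : Fin l → ℤ, z = -z → z = 0 := by
        intro z hz
        funext i
        have := congrFun hz i
        rw [Pi.neg_apply] at this
        show z i = 0
        omega
      rw [← hu]
      rw [map_add, h7] at h9
      rcases hε with rfl | rfl
      · rw [one_smul] at h9 ⊢
        rcases h8 with h8 | h8
        · exact h8
        · exfalso
          rw [h8] at h9
          rcases h9 with h9 | h9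
          · exact hu0 (hz u (add_right_cancel h9).symm)
          · refine hv0 (hz v ?_)
            rw [_root_.neg_add] at h9
            exact add_left_cancel h9
      · rw [neg_one_smul] at h9 ⊢
        rcases h8 with h8 | h8
        · exfalso
          rw [h8] at h9
          rcases h9 with h9 | h9
          · exact hv0 (hz v (add_left_cancel h9).symm)
          · refine hu0 (hz u ?_)
            rw [_root_.neg_add] at h9
            exact add_right_cancel h9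
        · exact h8
  have hsr : ∀ i, rep cs hp.isCartan w (sr i) = ε • sr i := by
    intro i
    have e : (sr i : Fin l → ℤ) = ∑ j, C i j • b j := by
      funext m
      rw [Finset.sum_apply]
      simp only [Pi.smul_apply, smul_eq_mul]
      rw [← h3]
      by_cases hm : i = m
      · subst hm; rw [if_pos rfl]; exact sr_self i
      · rw [if_neg hm]; exact sr_ne (Ne.symm hm)
    rw [e, map_sum, Finset.smul_sum]
    refine Finset.sum_congr rfl fun j _ => ?_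
    rw [map_zsmul, key j j.2, smul_comm]
  rcases hε with rfl | rfl
  · left
    refine ChevalleyStructure.CoxeterGeom.eq_one_of_fix cs hp.isCartan w fun i => ?_
    have := hsr i
    rwa [one_smul] at this
  · right
    intro x
    have h4 : ∀ x : Fin l → ℤ, rep cs hp.isCartan w x = (-1 : ℤ) • x := by
      intro x
      conv_lhs => rw [IsMC.eq_sum_sr x]
      conv_rhs => rw [IsMC.eq_sum_sr x]
      rw [map_sum, Finset.smul_sum]
      refine Finset.sum_congr rfl fun j _ => ?_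
      rw [map_zsmul, hsr, smul_comm]
    rw [h4, neg_one_smul]

theorem hJ_of {w : W} {X : Mat l} (hX : ∀ j, rep cs hp.isCartan w (sr j) = X j) {x₁ μ : Fin l → ℤ} {Y Z : Mat l}
    (h : JOK l X x₁ μ Y Z) : ∃ x₁, ∀ x, ∃ (m : ℤ) (y z : Fin l → ℤ),
      x = m • x₁ + (rep cs hp.isCartan w y - y) + (2 : ℤ) • z := by
  refine ⟨x₁, fun x => ⟨∑ j, x j * μ j, ∑ j, x j • Y j, ∑ j, x j • Z j, ?_⟩⟩
  have h1 : ∀ j, (sr j : Fin l → ℤ) = μ j • x₁ + (rep cs hp.isCartan w (Y j) - Y j) + (2 : ℤ) • Z j := by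
    intro j
    funext m
    rw [Pi.add_apply, Pi.add_apply, Pi.sub_apply, Pi.smul_apply, Pi.smul_apply, rep_apply_mat hp cs hX]
    simp only [smul_eq_mul]
    rw [← h j m]
    by_cases hm : j = m
    · subst hm; rw [if_pos rfl]; exact sr_self j
    · rw [if_neg hm]; exact sr_ne (Ne.symm hm)
  calc x = ∑ j, x j • (sr j : Fin l → ℤ) := IsMC.eq_sum_sr x
    _ = ∑ j, x j • (μ j • x₁ + (rep cs hp.isCartan w (Y j) - Y j) + (2 : ℤ) • Z j) :=
        Finset.sum_congr rfl fun j _ => by rw [← h1]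
    _ = _ := by
        simp only [smul_add, smul_sub, Finset.sum_add_distrib, Finset.sum_sub_distrib, map_sum, Finset.sum_smul,
          Finset.smul_sum, map_zsmul, smul_smul]
        congr 1
        exact Finset.sum_congr rfl fun j _ => by rw [mul_comm]

end

/-! ### valuations -/

theorem val {q m : ℕ} (hm : 4 ∣ m) (hm0 : m ≠ 0) (hq : q = m + 1 ∨ q + 1 = m) {n : ℕ} (hn0 : n ≠ 0)
    (hn : Even n) : padicValNat 2 (q ^ n - 1) = padicValNat 2 m + padicValNat 2 n := by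
  obtain ⟨c, rfl⟩ := hm
  have hc : c ≠ 0 := by rintro rfl; exact hm0 rfl
  have h1 : ∀ a : ℕ, padicValNat 2 (4 * a + 2) = 1 := by
    intro a
    have h2 : ¬ 2 ∣ 2 * a + 1 := by omega
    have e : 4 * a + 2 = 2 * (2 * a + 1) := by ring
    rw [e, padicValNat.mul (by norm_num) (by omega), padicValNat.self (by norm_num),
      padicValNat.eq_zero_of_not_dvd h2]
  have h2 := padicValNat.pow_two_sub_pow (x := q) (y := 1) (by omega) (by omega) (by omega) hn0 hn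
  rw [one_pow] at h2
  rcases hq with rfl | hq
  · have e1 : 4 * c + 1 + 1 = 4 * c + 2 := by ring
    have e2 : 4 * c + 1 - 1 = 4 * c := by omega
    rw [e1, e2, h1] at h2
    omega
  · have e1 : q - 1 = 4 * (c - 1) + 2 := by omega
    rw [e1, h1, hq] at h2
    omega

theorem val_prod {q m : ℕ} (hm : 4 ∣ m) (hm0 : m ≠ 0) (hq : q = m + 1 ∨ q + 1 = m) :
    ∀ ds : List ℕ, (∀ d ∈ ds, d ≠ 0 ∧ Even d) → ds.prod ≠ 0 ∧ (ds.map fun d => q ^ d - 1).prod ≠ 0 ∧
      padicValNat 2 (ds.map fun d => q ^ d - 1).prod = ds.length * padicValNat 2 m + padicValNat 2 ds.prod := by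
  intro ds
  induction ds with
  | nil => intro _; simp
  | cons d ds ih =>
    intro h
    obtain ⟨h1, h2, h3⟩ := ih fun x hx => h x (List.mem_cons_of_mem _ hx)
    obtain ⟨hd0, hd⟩ := h d List.mem_cons_self
    have hpow : q ^ d - 1 ≠ 0 := by
      have : 1 < q ^ d := Nat.one_lt_pow hd0 (by omega)
      omega
    rw [List.map_cons, List.prod_cons, List.prod_cons, List.length_cons]
    refine ⟨mul_ne_zero hd0 h1, mul_ne_zero hpow h2, ?_⟩
    rw [padicValNat.mul hpow h2, padicValNat.mul hd0 h1, h3, val hm hm0 hq hd0 hd]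
    ring

/-- the index is odd. -/
theorem odd_of_card {q m l c N : ℕ} (hm : 4 ∣ m) (hm0 : m ≠ 0) (hq : q = m + 1 ∨ q + 1 = m) (ds : List ℕ)
    (hds : ∀ d ∈ ds, d ≠ 0 ∧ Even d) (hlen : ds.length = l)
    (hc : m ^ l * ds.prod * c = q ^ N * (ds.map fun d => q ^ d - 1).prod) : ¬ 2 ∣ c := by
  intro h2c
  obtain ⟨h1, h2, h3⟩ := val_prod hm hm0 hq ds hds
  have hqn : q ^ N ≠ 0 := pow_ne_zero _ (by omega)
  have hc0 : c ≠ 0 := by
    rintro rfl
    rw [mul_zero] at hc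
    exact mul_ne_zero hqn h2 hc.symm
  have hv := congrArg (padicValNat 2) hc
  have hq0 : padicValNat 2 (q ^ N) = 0 := padicValNat.eq_zero_of_not_dvd fun h => by
    have := Nat.prime_two.dvd_of_dvd_pow h
    (clear * - hm hq h1 h2 hqn hc0 h this; omega)
  have hmp : m ^ l ≠ 0 := pow_ne_zero _ hm0
  rw [padicValNat.mul (mul_ne_zero hmp h1) hc0, padicValNat.mul hmp h1, padicValNat.pow, padicValNat.mul hqn h2, hq0,
    h3, hlen] at hv
  have h4 : 1 ≤ padicValNat 2 c := one_le_padicValNat_of_dvd hc0 h2c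
  omega

/-- **The row.** -/
theorem oddRow_of {D : ChevalleyDatum} {l : ℕ} {M : CoxeterMatrix (Fin l)} (hp : IsType D l M)
    {W : Type*} [Group W] (cs : CoxeterSystem M W) [Finite W] {F : Type u} [Field F] [Fintype F] {q : ℕ}
    (hq : Fintype.card F = q) (hodd : Odd q) {B' : Fin l → Fin l → ℤ} (hB : InvC D l 1 B') (hl : 2 ≤ l)
    (hminus : ∃ w0 : W, ∀ x, rep cs hp.isCartan w0 x = -x)
    (hK : ∀ w : W, (∀ x, ∃ y, rep cs hp.isCartan w x - x = (2 : ℤ) • y) →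
      w = 1 ∨ ∀ x, rep cs hp.isCartan w x = -x) {w : W} {n : ℕ} (hw : w ^ 2 ^ n = 1)
    (hJ : ∃ x₁, ∀ x, ∃ (m : ℤ) (y z : Fin l → ℤ),
      x = m • x₁ + (rep cs hp.isCartan w y - y) + (2 : ℤ) • z)
    (hcard : ∀ m : ℕ, 4 ∣ m → m ≠ 0 → (q = m + 1 ∨ q + 1 = m) → ∀ c : ℕ,
      m ^ l * Nat.card W * c = Nat.card ↥(D.group F) → ¬ 2 ∣ c) : Cfsg.Agent.H747.OddRow ↥(D.group F) := by
  have : Finite ↥(D.group F) := inferInstance
  have hq1 : 1 < q := by rw [← hq]; exact Fintype.one_lt_card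
  obtain ⟨m, w0, s, hs, hw0, hms, h4, hm0, hqm⟩ : ∃ (m : ℕ) (w0 : W) (s : ℤ), (s = 1 ∨ s = -1) ∧
      (∀ x, rep cs hp.isCartan w0 x = s • x) ∧ ((m : ℤ) = q - s) ∧ 4 ∣ m ∧ m ≠ 0 ∧ (q = m + 1 ∨ q + 1 = m) := by
    obtain ⟨c, hc⟩ := hodd
    rcases Nat.even_or_odd' c with ⟨d, hd | hd⟩
    · refine ⟨4 * d, 1, 1, Or.inl rfl, fun x => by rw [map_one, Module.End.one_apply, one_smul], ?_,
        ⟨d, rfl⟩, by omega, by omega⟩
      push_cast
      omega
    · obtain ⟨w0, hw0⟩ := hminus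
      refine ⟨4 * (d + 1), w0, -1, Or.inr rfl, fun x => by rw [hw0, neg_one_smul], ?_, ⟨d + 1, rfl⟩, by omega,
        by omega⟩
      push_cast
      omega
  obtain ⟨N, r, χ, ζ, H, hN⟩ := exists_tor hp cs hq hB hs hw0 hms h4 hm0
  refine H.oddRow hl (hcard m h4 hm0 hqm _ ?_) hK hw hJ
  rw [← hN, N.card_mul_index]

end Cfsg.Agent.H796.TorData
end

-- part: H796/RowF4
section
/-!
# S5161, the row F4(q), q odd (helper796)
-/

set_option autoImplicit false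
set_option linter.unusedSectionVars false

namespace Cfsg.Agent.H796.RowF4

open CoxeterSystem Cfsg Cfsg.Lie Cfsg.Lie.ChevalleyDatum
open Cfsg.Agent.ChevalleyStructure Cfsg.Agent.ChevalleyStructure.Elts Cfsg.Agent.ChevalleyStructure.CoxeterGeom
  Cfsg.Agent.ChevalleyStructure.CoxeterGeomTypes
open Cfsg.Agent.Tits.Roots Cfsg.Agent.Tits.Core Cfsg.Agent.Nodes Cfsg.Agent.Nodes.BNOf Cfsg.Agent.Nodes.RGDChev
open Cfsg.Agent.H129.TorusChar Cfsg.Agent.H129.WData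
open Cfsg.Agent.H796.TorData

universe u

/-- the Cartan matrix -/
def A : Mat 4 := ![![2, -1, 0, 0], ![-1, 2, -2, 0], ![0, -1, 2, -1], ![0, 0, -1, 2]]
/-- the chain of the element with a single Jordan block -/
def Lw : List (Fin 4 × Mat 4) := [(3, ![![0, 1, 0, 0], ![-1, -2, -1, -1], ![2, 2, 1, 1], ![0, 2, 2, 1]]),
  (2, ![![0, 1, 0, 0], ![-1, -2, -1, 0], ![2, 2, 1, 0], ![0, 2, 2, 1]]),
  (1, ![![0, 1, 1, 0], ![-1, -2, -1, 0], ![2, 2, 1, 0], ![0, 2, 1, 1]]),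
  (2, ![![0, 1, 1, 0], ![-1, -1, -1, 0], ![2, 2, 1, 0], ![0, 0, 1, 1]]),
  (0, ![![0, 1, 0, 0], ![-1, -1, 0, 0], ![2, 2, 1, 0], ![0, 0, 0, 1]]),
  (1, ![![1, 1, 0, 0], ![0, -1, 0, 0], ![0, 2, 1, 0], ![0, 0, 0, 1]])]
def X2 : Mat 4 := ![![-1, -2, -1, -1], ![0, -1, -1, 0], ![0, 2, 1, 0], ![2, 2, 2, 1]]
def X4 : Mat 4 := ![![-1, 0, 0, 0], ![0, -1, 0, 0], ![0, 0, -1, 0], ![0, 0, 0, -1]]
def X8 : Mat 4 := ![![1, 0, 0, 0], ![0, 1, 0, 0], ![0, 0, 1, 0], ![0, 0, 0, 1]]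
def x1 : Fin 4 → ℤ := ![1, 0, 0, 0]
def mu : Fin 4 → ℤ := ![1, 1, 0, 0]
def Y : Mat 4 := ![![0, 0, 0, 0], ![1, 0, 0, 0], ![1, 1, 1, 0], ![0, 0, 1, 0]]
def Z : Mat 4 := ![![0, 0, 0, 0], ![0, 0, 0, 0], ![0, 0, 1, 0], ![-1, -1, 0, 0]]
/-- the chain of the Coxeter element -/
def Lc : List (Fin 4 × Mat 4) := [(0, ![![0, 1, 0, 0], ![1, 1, 1, 0], ![0, 0, 0, 1], ![-2, -2, -1, -1]]),
  (1, ![![1, 1, 0, 0], ![0, 1, 1, 0], ![0, 0, 0, 1], ![0, -2, -1, -1]]),
  (2, ![![1, 0, 0, 0], ![0, 1, 1, 0], ![0, 0, 0, 1], ![0, 0, -1, -1]]),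
  (3, ![![1, 0, 0, 0], ![0, 1, 0, 0], ![0, 0, 1, 1], ![0, 0, 0, -1]])]
def C2 : Mat 4 := ![![1, 1, 1, 0], ![1, 2, 1, 1], ![-2, -2, -1, -1], ![0, -2, -1, 0]]
def C4 : Mat 4 := ![![0, 1, 1, 0], ![1, 1, 1, 1], ![-2, -2, -2, -1], ![0, -2, -1, -1]]
def C6 : Mat 4 := ![![-1, 0, 0, 0], ![0, -1, 0, 0], ![0, 0, -1, 0], ![0, 0, 0, -1]]
def Kb : Mat 4 := ![![1, 0, 0, 0], ![0, 1, 0, 0], ![0, 1, 1, 0], ![0, 1, 1, 1]]
def KC : Mat 4 := ![![1, 0, 0, 0], ![0, 1, 0, 0], ![0, -1, 1, 0], ![0, 0, -1, 1]]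
def Kpar : Fin 4 → Fin 4 := ![0, 0, 0, 0]

theorem isType : IsType chevF4 4 CoxeterMatrix.F₄ := by simp [IsType, typeList]
theorem hA : ∀ i j, A i j = cartanOf chevF4 4 i j := by decide +kernel
theorem Lw_ok : ChainOK A Lw :=
  H129.ChainF.ok H129.ChainF.i4 H129.ChainF.m4 (H129.ChainF.c4 <| H129.ChainF.c4 <| H129.ChainF.c4 <| H129.ChainF.c4 <| H129.ChainF.c4 <| H129.ChainF.c4 <| H129.ChainF.nil) (by decide +kernel)
theorem Lc_ok : ChainOK A Lc :=
  H129.ChainF.ok H129.ChainF.i4 H129.ChainF.m4 (H129.ChainF.c4 <| H129.ChainF.c4 <| H129.ChainF.c4 <| H129.ChainF.c4 <| H129.ChainF.nil) (by decide +kernel)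
theorem hX2 : ∀ j m, X2 j m = ∑ n, hd Lw j n * hd Lw n m := by decide +kernel
theorem hX4 : ∀ j m, X4 j m = ∑ n, X2 j n * X2 n m := by decide +kernel
theorem hX8 : ∀ j m, X8 j m = ∑ n, X4 j n * X4 n m := by decide +kernel
theorem hX8' : ∀ j m, X8 j m = if j = m then 1 else 0 := by decide +kernel
theorem hC2 : ∀ j m, C2 j m = ∑ n, hd Lc j n * hd Lc n m := by decide +kernel
theorem hC4 : ∀ j m, C4 j m = ∑ n, C2 j n * C2 n m := by decide +kernel
theorem hC6 : ∀ j m, C6 j m = ∑ n, C2 j n * C4 n m := by decide +kernel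
theorem hC6' : ∀ j m, C6 j m = if j = m then -1 else 0 := by decide +kernel
theorem hJ : JOK 4 (hd Lw) x1 mu Y Z := by decide +kernel
theorem hKOK : KOK chevF4 4 Kb KC Kpar := by decide +kernel

/-- **The row of `F₄(q)`, `q` odd.** -/
theorem row_F4 {F : Type u} [Field F] [Fintype F] (hodd : Odd (Fintype.card F)) :
    Cfsg.Agent.H747.RowTwo ↥(chevF4.group F) := by
  left
  obtain ⟨q, hq⟩ : ∃ q, Fintype.card F = q := ⟨_, rfl⟩
  rw [hq] at hodd
  have hW : Nat.card CoxeterMatrix.F₄.Group = 1152 :=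
    Cfsg.Agent.S1092.result (⟨4, CoxeterMatrix.F₄⟩, 1152) (by simp)
  have : Finite CoxeterMatrix.F₄.Group := Nat.finite_of_card_ne_zero (by rw [hW]; norm_num)
  obtain ⟨cs, -⟩ : ∃ cs : CoxeterSystem CoxeterMatrix.F₄ CoxeterMatrix.F₄.Group, True :=
    ⟨CoxeterMatrix.F₄.toCoxeterSystem, trivial⟩
  have h1 := chain_rep isType cs hA Lw_ok
  have h2 := rep_mul_mat isType cs h1 h1 hX2
  have h4 := rep_mul_mat isType cs h2 h2 hX4
  have h8 := rep_mul_mat isType cs h4 h4 hX8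
  have c1 := chain_rep isType cs hA Lc_ok
  have c2 := rep_mul_mat isType cs c1 c1 hC2
  have c4 := rep_mul_mat isType cs c2 c2 hC4
  have c6 := rep_mul_mat isType cs c4 c2 hC6
  have hw8 := eq_one_of_mat isType cs h8 hX8'
  refine oddRow_of isType cs hq hodd invC_F4 (by norm_num) ⟨_, neg_of_mat isType cs c6 hC6'⟩
    (hK_of isType cs hKOK (by norm_num)) (w := cs.wordProd (Lw.map Prod.fst)) (n := 3) ?_
    (hJ_of isType cs h1 hJ) ?_
  · have e : ∀ w : CoxeterMatrix.F₄.Group, w * w * (w * w) * (w * w * (w * w)) = w ^ 2 ^ 3 := fun w => by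
      show _ = w ^ 8
      simp only [pow_succ, pow_zero, one_mul, mul_assoc]
    rw [← e]
    exact hw8
  · intro m hm hm0 hqm c hc h2c
    refine odd_of_card (l := 4) hm hm0 hqm [2, 6, 8, 12] (by decide) rfl (c := c) (N := 24) ?_ h2c
    rw [S1062.result hq, hW] at hc
    simp only [List.prod_cons, List.prod_nil, List.map_cons, List.map_nil]
    calc m ^ 4 * (2 * (6 * (8 * (12 * 1)))) * c = m ^ 4 * 1152 * c := by ring
      _ = q ^ 24 * (q ^ 2 - 1) * (q ^ 6 - 1) * (q ^ 8 - 1) * (q ^ 12 - 1) := hc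
      _ = _ := by ring

end Cfsg.Agent.H796.RowF4
end

-- part: H796/RowE8
section
/-!
# S5161, the row E8(q), q odd (helper796)
-/

set_option autoImplicit false
set_option linter.unusedSectionVars false

namespace Cfsg.Agent.H796.RowE8

open CoxeterSystem Cfsg Cfsg.Lie Cfsg.Lie.ChevalleyDatum
open Cfsg.Agent.ChevalleyStructure Cfsg.Agent.ChevalleyStructure.Elts Cfsg.Agent.ChevalleyStructure.CoxeterGeom
  Cfsg.Agent.ChevalleyStructure.CoxeterGeomTypes
open Cfsg.Agent.Tits.Roots Cfsg.Agent.Tits.Core Cfsg.Agent.Nodes Cfsg.Agent.Nodes.BNOf Cfsg.Agent.Nodes.RGDChev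
open Cfsg.Agent.H129.TorusChar Cfsg.Agent.H129.WData
open Cfsg.Agent.H796.TorData

universe u

/-- the Cartan matrix -/
def A : Mat 8 := ![![2, 0, -1, 0, 0, 0, 0, 0], ![0, 2, 0, -1, 0, 0, 0, 0], ![-1, 0, 2, -1, 0, 0, 0, 0], ![0, -1, -1, 2, -1, 0, 0, 0], ![0, 0, 0, -1, 2, -1, 0, 0], ![0, 0, 0, 0, -1, 2, -1, 0], ![0, 0, 0, 0, 0, -1, 2, -1], ![0, 0, 0, 0, 0, 0, -1, 2]]
/-- the chain of the element with a single Jordan block -/
def Lw : List (Fin 8 × Mat 8) := [(5, ![![0, 0, 1, 1, 0, 0, 0, 0], ![0, 1, 0, 1, 0, 0, 0, 0], ![-1, 0, -1, -1, 0, 0, 0, 0], ![1, 0, 1, 1, 1, 1, 0, 0], ![0, 0, 0, -1, -1, -1, 0, 0], ![0, 0, 0, 1, 1, 1, 1, 0], ![0, 0, 0, 0, 0, 0, 0, 1], ![0, 0, 0, 0, 0, -1, -1, -1]]),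
  (3, ![![0, 0, 1, 1, 0, 0, 0, 0], ![0, 1, 0, 1, 0, 0, 0, 0], ![-1, 0, -1, -1, 0, 0, 0, 0], ![1, 0, 1, 1, 1, 0, 0, 0], ![0, 0, 0, -1, -1, 0, 0, 0], ![0, 0, 0, 1, 1, 1, 1, 0], ![0, 0, 0, 0, 0, 0, 0, 1], ![0, 0, 0, 0, 0, 0, -1, -1]]),
  (0, ![![0, 0, 1, 0, 0, 0, 0, 0], ![0, 1, 0, 0, 0, 0, 0, 0], ![-1, 0, -1, 0, 0, 0, 0, 0], ![1, 0, 1, 1, 1, 0, 0, 0], ![0, 0, 0, 0, -1, 0, 0, 0], ![0, 0, 0, 0, 1, 1, 1, 0], ![0, 0, 0, 0, 0, 0, 0, 1], ![0, 0, 0, 0, 0, 0, -1, -1]]),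
  (2, ![![1, 0, 1, 0, 0, 0, 0, 0], ![0, 1, 0, 0, 0, 0, 0, 0], ![0, 0, -1, 0, 0, 0, 0, 0], ![0, 0, 1, 1, 1, 0, 0, 0], ![0, 0, 0, 0, -1, 0, 0, 0], ![0, 0, 0, 0, 1, 1, 1, 0], ![0, 0, 0, 0, 0, 0, 0, 1], ![0, 0, 0, 0, 0, 0, -1, -1]]),
  (6, ![![1, 0, 0, 0, 0, 0, 0, 0], ![0, 1, 0, 0, 0, 0, 0, 0], ![0, 0, 1, 0, 0, 0, 0, 0], ![0, 0, 0, 1, 1, 0, 0, 0], ![0, 0, 0, 0, -1, 0, 0, 0], ![0, 0, 0, 0, 1, 1, 1, 0], ![0, 0, 0, 0, 0, 0, 0, 1], ![0, 0, 0, 0, 0, 0, -1, -1]]),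
  (7, ![![1, 0, 0, 0, 0, 0, 0, 0], ![0, 1, 0, 0, 0, 0, 0, 0], ![0, 0, 1, 0, 0, 0, 0, 0], ![0, 0, 0, 1, 1, 0, 0, 0], ![0, 0, 0, 0, -1, 0, 0, 0], ![0, 0, 0, 0, 1, 1, 0, 0], ![0, 0, 0, 0, 0, 0, 1, 1], ![0, 0, 0, 0, 0, 0, 0, -1]]),
  (4, ![![1, 0, 0, 0, 0, 0, 0, 0], ![0, 1, 0, 0, 0, 0, 0, 0], ![0, 0, 1, 0, 0, 0, 0, 0], ![0, 0, 0, 1, 1, 0, 0, 0], ![0, 0, 0, 0, -1, 0, 0, 0], ![0, 0, 0, 0, 1, 1, 0, 0], ![0, 0, 0, 0, 0, 0, 1, 0], ![0, 0, 0, 0, 0, 0, 0, 1]])]
def X2 : Mat 8 := ![![0, 0, 0, 0, 1, 1, 0, 0], ![1, 1, 1, 2, 1, 1, 0, 0], ![0, 0, -1, -1, -1, -1, 0, 0], ![0, 0, 1, 1, 1, 1, 1, 0], ![-1, 0, -1, -1, -1, -1, -1, 0], ![1, 0, 1, 1, 1, 1, 1, 1], ![0, 0, 0, 0, 0, -1, -1, -1], ![0, 0, 0, -1, -1, 0, 0, 0]]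
def X4 : Mat 8 := ![![0, 0, 0, 0, 0, 0, 0, 1], ![1, 1, 2, 3, 3, 3, 2, 1], ![0, 0, 0, 0, 0, 0, -1, -1], ![0, 0, 0, 0, 0, -1, 0, 0], ![0, 0, 0, 0, -1, 0, 0, 0], ![0, 0, 0, -1, 0, 0, 0, 0], ![-1, 0, -1, 0, 0, 0, 0, 0], ![1, 0, 0, 0, 0, 0, 0, 0]]
def X8 : Mat 8 := ![![1, 0, 0, 0, 0, 0, 0, 0], ![0, 1, 0, 0, 0, 0, 0, 0], ![0, 0, 1, 0, 0, 0, 0, 0], ![0, 0, 0, 1, 0, 0, 0, 0], ![0, 0, 0, 0, 1, 0, 0, 0], ![0, 0, 0, 0, 0, 1, 0, 0], ![0, 0, 0, 0, 0, 0, 1, 0], ![0, 0, 0, 0, 0, 0, 0, 1]]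
def x1 : Fin 8 → ℤ := ![0, 1, 0, 0, 0, 0, 0, 0]
def mu : Fin 8 → ℤ := ![0, 1, 0, 0, 0, 0, 0, 0]
def Y : Mat 8 := ![![0, 1, 1, 0, 0, 0, 0, 0], ![0, 0, 0, 0, 0, 0, 0, 0], ![1, 0, 1, 0, 0, 0, 0, 0], ![0, 1, 0, 0, 0, 0, 0, 0], ![1, 0, 0, 1, 1, 0, 0, 0], ![0, 1, 0, 0, 1, 0, 0, 0], ![1, 1, 0, 1, 1, 1, 0, 0], ![1, 1, 0, 1, 1, 1, 1, 0]]
def Z : Mat 8 := ![![1, 0, 1, 0, 0, 0, 0, 0], ![0, 0, 0, 0, 0, 0, 0, 0], ![1, 0, 1, 0, 0, 0, 0, 0], ![0, 0, 0, 0, 0, 0, 0, 0], ![0, 0, -1, 0, 1, 0, 0, 0], ![0, 0, 0, 0, 1, 1, 0, 0], ![0, 0, -1, -1, 0, 0, 0, 0], ![0, 0, -1, -1, 0, 0, 0, 0]]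
/-- the chain of the Coxeter element -/
def Lc : List (Fin 8 × Mat 8) := [(0, ![![0, 0, 1, 0, 0, 0, 0, 0], ![1, 0, 1, 1, 0, 0, 0, 0], ![0, 1, 0, 1, 0, 0, 0, 0], ![0, 0, 0, 0, 1, 0, 0, 0], ![0, 0, 0, 0, 0, 1, 0, 0], ![0, 0, 0, 0, 0, 0, 1, 0], ![0, 0, 0, 0, 0, 0, 0, 1], ![-1, -1, -1, -1, -1, -1, -1, -1]]),
  (1, ![![1, 0, 1, 0, 0, 0, 0, 0], ![0, 0, 1, 1, 0, 0, 0, 0], ![0, 1, 0, 1, 0, 0, 0, 0], ![0, 0, 0, 0, 1, 0, 0, 0], ![0, 0, 0, 0, 0, 1, 0, 0], ![0, 0, 0, 0, 0, 0, 1, 0], ![0, 0, 0, 0, 0, 0, 0, 1], ![0, -1, -1, -1, -1, -1, -1, -1]]),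
  (2, ![![1, 0, 1, 0, 0, 0, 0, 0], ![0, 1, 1, 1, 0, 0, 0, 0], ![0, 0, 0, 1, 0, 0, 0, 0], ![0, 0, 0, 0, 1, 0, 0, 0], ![0, 0, 0, 0, 0, 1, 0, 0], ![0, 0, 0, 0, 0, 0, 1, 0], ![0, 0, 0, 0, 0, 0, 0, 1], ![0, 0, -1, -1, -1, -1, -1, -1]]),
  (3, ![![1, 0, 0, 0, 0, 0, 0, 0], ![0, 1, 0, 1, 0, 0, 0, 0], ![0, 0, 1, 1, 0, 0, 0, 0], ![0, 0, 0, 0, 1, 0, 0, 0], ![0, 0, 0, 0, 0, 1, 0, 0], ![0, 0, 0, 0, 0, 0, 1, 0], ![0, 0, 0, 0, 0, 0, 0, 1], ![0, 0, 0, -1, -1, -1, -1, -1]]),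
  (4, ![![1, 0, 0, 0, 0, 0, 0, 0], ![0, 1, 0, 0, 0, 0, 0, 0], ![0, 0, 1, 0, 0, 0, 0, 0], ![0, 0, 0, 1, 1, 0, 0, 0], ![0, 0, 0, 0, 0, 1, 0, 0], ![0, 0, 0, 0, 0, 0, 1, 0], ![0, 0, 0, 0, 0, 0, 0, 1], ![0, 0, 0, 0, -1, -1, -1, -1]]),
  (5, ![![1, 0, 0, 0, 0, 0, 0, 0], ![0, 1, 0, 0, 0, 0, 0, 0], ![0, 0, 1, 0, 0, 0, 0, 0], ![0, 0, 0, 1, 0, 0, 0, 0], ![0, 0, 0, 0, 1, 1, 0, 0], ![0, 0, 0, 0, 0, 0, 1, 0], ![0, 0, 0, 0, 0, 0, 0, 1], ![0, 0, 0, 0, 0, -1, -1, -1]]),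
  (6, ![![1, 0, 0, 0, 0, 0, 0, 0], ![0, 1, 0, 0, 0, 0, 0, 0], ![0, 0, 1, 0, 0, 0, 0, 0], ![0, 0, 0, 1, 0, 0, 0, 0], ![0, 0, 0, 0, 1, 0, 0, 0], ![0, 0, 0, 0, 0, 1, 1, 0], ![0, 0, 0, 0, 0, 0, 0, 1], ![0, 0, 0, 0, 0, 0, -1, -1]]),
  (7, ![![1, 0, 0, 0, 0, 0, 0, 0], ![0, 1, 0, 0, 0, 0, 0, 0], ![0, 0, 1, 0, 0, 0, 0, 0], ![0, 0, 0, 1, 0, 0, 0, 0], ![0, 0, 0, 0, 1, 0, 0, 0], ![0, 0, 0, 0, 0, 1, 0, 0], ![0, 0, 0, 0, 0, 0, 1, 1], ![0, 0, 0, 0, 0, 0, 0, -1]])]
def C2 : Mat 8 := ![![0, 1, 0, 1, 0, 0, 0, 0], ![0, 1, 1, 1, 1, 0, 0, 0], ![1, 0, 1, 1, 1, 0, 0, 0], ![0, 0, 0, 0, 0, 1, 0, 0], ![0, 0, 0, 0, 0, 0, 1, 0], ![0, 0, 0, 0, 0, 0, 0, 1], ![-1, -1, -1, -1, -1, -1, -1, -1], ![0, 0, -1, -1, 0, 0, 0, 0]]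
def C3 : Mat 8 := ![![1, 0, 1, 1, 1, 0, 0, 0], ![1, 1, 1, 2, 1, 1, 0, 0], ![0, 1, 1, 1, 1, 1, 0, 0], ![0, 0, 0, 0, 0, 0, 1, 0], ![0, 0, 0, 0, 0, 0, 0, 1], ![-1, -1, -1, -1, -1, -1, -1, -1], ![0, 0, -1, -1, 0, 0, 0, 0], ![0, -1, 0, -1, -1, 0, 0, 0]]
def C4 : Mat 8 := ![![0, 1, 1, 1, 1, 1, 0, 0], ![1, 1, 2, 2, 2, 1, 1, 0], ![1, 1, 1, 2, 1, 1, 1, 0], ![0, 0, 0, 0, 0, 0, 0, 1], ![-1, -1, -1, -1, -1, -1, -1, -1], ![0, 0, -1, -1, 0, 0, 0, 0], ![0, -1, 0, -1, -1, 0, 0, 0], ![-1, 0, -1, -1, -1, -1, 0, 0]]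
def C7 : Mat 8 := ![![0, 1, 1, 2, 1, 1, 0, 0], ![1, 2, 2, 3, 3, 2, 1, 1], ![1, 1, 1, 2, 2, 1, 1, 0], ![0, -1, 0, -1, -1, 0, 0, 0], ![-1, 0, -1, -1, -1, -1, 0, 0], ![0, -1, -1, -1, -1, -1, -1, 0], ![-1, -1, -1, -2, -1, -1, -1, -1], ![0, 0, -1, -1, -1, 0, 0, 0]]
def C8 : Mat 8 := ![![1, 1, 1, 2, 2, 1, 1, 0], ![1, 1, 2, 3, 2, 2, 1, 0], ![1, 1, 2, 2, 2, 2, 1, 1], ![-1, 0, -1, -1, -1, -1, 0, 0], ![0, -1, -1, -1, -1, -1, -1, 0], ![-1, -1, -1, -2, -1, -1, -1, -1], ![0, 0, -1, -1, -1, 0, 0, 0], ![0, -1, 0, -1, -1, -1, 0, 0]]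
def C15 : Mat 8 := ![![-1, 0, 0, 0, 0, 0, 0, 0], ![0, -1, 0, 0, 0, 0, 0, 0], ![0, 0, -1, 0, 0, 0, 0, 0], ![0, 0, 0, -1, 0, 0, 0, 0], ![0, 0, 0, 0, -1, 0, 0, 0], ![0, 0, 0, 0, 0, -1, 0, 0], ![0, 0, 0, 0, 0, 0, -1, 0], ![0, 0, 0, 0, 0, 0, 0, -1]]
def Kb : Mat 8 := ![![1, 0, 0, 0, 0, 0, 0, 0], ![0, 0, 1, 0, 0, 0, 0, 0], ![0, 0, 0, 1, 0, 0, 0, 0], ![0, 1, 0, 0, 0, 0, 0, 0], ![0, 0, 0, 0, 1, 0, 0, 0], ![0, 0, 0, 0, 0, 1, 0, 0], ![0, 0, 0, 0, 0, 0, 1, 0], ![0, 0, 0, 0, 0, 0, 0, 1]]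
def KC : Mat 8 := ![![1, 0, 0, 0, 0, 0, 0, 0], ![0, 0, 0, 1, 0, 0, 0, 0], ![0, 1, 0, 0, 0, 0, 0, 0], ![0, 0, 1, 0, 0, 0, 0, 0], ![0, 0, 0, 0, 1, 0, 0, 0], ![0, 0, 0, 0, 0, 1, 0, 0], ![0, 0, 0, 0, 0, 0, 1, 0], ![0, 0, 0, 0, 0, 0, 0, 1]]
def Kpar : Fin 8 → Fin 8 := ![0, 0, 1, 2, 2, 4, 5, 6]

theorem isType : IsType chevE8 8 CoxeterMatrix.E₈ := by simp [IsType, typeList]
private noncomputable def _root_.Cfsg.Agent.LsF.f0a17e9_7 : {f // @Cfsg.Agent.H796.RowE8.A = f} := ⟨_, by first | (delta Cfsg.Agent.H796.RowE8.A; rewrite [Cfsg.Agent.LsF.ineg_pat, Cfsg.Agent.LsF.vecCons_eq]; exact rfl) | exact rfl⟩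
private noncomputable def _root_.Cfsg.Agent.LsF.f0a17e9_8 : {f // @Cfsg.Lie.ChevalleyDatum.cartan = f} := ⟨_, by first | (delta Cfsg.Lie.ChevalleyDatum.cartan; rewrite [Cfsg.Agent.LsF.agetD_eq]; exact rfl) | exact rfl⟩
private noncomputable def _root_.Cfsg.Agent.LsF.f0a17e9_9 : {f // @Cfsg.Lie.ChevalleyDatum.simple = f} := ⟨_, by first | (delta Cfsg.Lie.ChevalleyDatum.simple; rewrite [Cfsg.Agent.LsF.agetD_eq]; exact rfl) | exact rfl⟩
private noncomputable def _root_.Cfsg.Agent.LsF.f0a17e9_10 : {f // @Cfsg.Agent.ChevalleyStructure.CoxeterGeomTypes.cartanOf = f} := ⟨_, by first | (delta Cfsg.Agent.ChevalleyStructure.CoxeterGeomTypes.cartanOf; rewrite [Cfsg.Agent.LsF.f0a17e9_8.2, Cfsg.Agent.LsF.f0a17e9_9.2]; exact rfl) | exact rfl⟩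
theorem hA : ∀ i j, A i j = cartanOf chevE8 8 i j := by (refine of_decide_eq_true ?_; (try (rewrite [Cfsg.Agent.LsF.f0a17e9_7.2, Cfsg.Agent.LsF.f0a17e9_10.2, Cfsg.Agent.LsF.instIDecEq_eq, Cfsg.Agent.LsF.dForallFin_eq, Cfsg.Agent.LsF.decide_eq])); decide +kernel)
theorem Lw_ok : ChainOK A Lw :=
  H129.ChainF.ok H129.ChainF.i8 H129.ChainF.m8 (H129.ChainF.c8 <| H129.ChainF.c8 <| H129.ChainF.c8 <| H129.ChainF.c8 <| H129.ChainF.c8 <| H129.ChainF.c8 <| H129.ChainF.c8 <| H129.ChainF.nil) (by decide +kernel)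
theorem Lc_ok : ChainOK A Lc :=
  H129.ChainF.ok H129.ChainF.i8 H129.ChainF.m8 (H129.ChainF.c8 <| H129.ChainF.c8 <| H129.ChainF.c8 <| H129.ChainF.c8 <| H129.ChainF.c8 <| H129.ChainF.c8 <| H129.ChainF.c8 <| H129.ChainF.c8 <| H129.ChainF.nil) (by decide +kernel)
theorem hX2 : ∀ j m, X2 j m = ∑ n, hd Lw j n * hd Lw n m := by decide +kernel
theorem hX4 : ∀ j m, X4 j m = ∑ n, X2 j n * X2 n m := by decide +kernel
theorem hX8 : ∀ j m, X8 j m = ∑ n, X4 j n * X4 n m := by decide +kernel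
theorem hX8' : ∀ j m, X8 j m = if j = m then 1 else 0 := by decide +kernel
theorem hC2 : ∀ j m, C2 j m = ∑ n, hd Lc j n * hd Lc n m := by decide +kernel
theorem hC4 : ∀ j m, C4 j m = ∑ n, C2 j n * C2 n m := by decide +kernel
theorem hC3 : ∀ j m, C3 j m = ∑ n, hd Lc j n * C2 n m := by decide +kernel
theorem hC7 : ∀ j m, C7 j m = ∑ n, C3 j n * C4 n m := by decide +kernel
theorem hC8 : ∀ j m, C8 j m = ∑ n, C4 j n * C4 n m := by decide +kernel
theorem hC15 : ∀ j m, C15 j m = ∑ n, C7 j n * C8 n m := by decide +kernel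
theorem hC15' : ∀ j m, C15 j m = if j = m then -1 else 0 := by decide +kernel
private noncomputable def _root_.Cfsg.Agent.LsF.f0a17e9_11 : {f // @Cfsg.Agent.H796.RowE8.mu = f} := ⟨_, by first | (delta Cfsg.Agent.H796.RowE8.mu; rewrite [Cfsg.Agent.LsF.vecCons_eq]; exact rfl) | exact rfl⟩
private noncomputable def _root_.Cfsg.Agent.LsF.f0a17e9_12 : {f // @Cfsg.Agent.H796.RowE8.x1 = f} := ⟨_, by first | (delta Cfsg.Agent.H796.RowE8.x1; rewrite [Cfsg.Agent.LsF.vecCons_eq]; exact rfl) | exact rfl⟩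
private noncomputable def _root_.Cfsg.Agent.LsF.f0a17e9_13 : {f // @Cfsg.Agent.H796.RowE8.Y = f} := ⟨_, by first | (delta Cfsg.Agent.H796.RowE8.Y; rewrite [Cfsg.Agent.LsF.vecCons_eq]; exact rfl) | exact rfl⟩
private noncomputable def _root_.Cfsg.Agent.LsF.f0a17e9_14 : {f // @Cfsg.Agent.H129.WData.hd = f} := ⟨_, by first | (delta Cfsg.Agent.H129.WData.hd; rewrite [Cfsg.Agent.LsF.dFinEq_eq, Cfsg.Agent.LsF.ite_eq]; (try delta Cfsg.Agent.H129.WData.hd.match_1); (try delta List.casesOn Prod.casesOn); exact rfl) | exact rfl⟩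
private noncomputable def _root_.Cfsg.Agent.LsF.f0a17e9_15 : {f // @Cfsg.Agent.H796.RowE8.Lw = f} := ⟨_, by first | (delta Cfsg.Agent.H796.RowE8.Lw; rewrite [Cfsg.Agent.LsF.ineg_pat, Cfsg.Agent.LsF.vecCons_eq]; exact rfl) | exact rfl⟩
private noncomputable def _root_.Cfsg.Agent.LsF.f0a17e9_16 : {f // @Cfsg.Agent.H796.RowE8.Z = f} := ⟨_, by first | (delta Cfsg.Agent.H796.RowE8.Z; rewrite [Cfsg.Agent.LsF.ineg_pat, Cfsg.Agent.LsF.vecCons_eq]; exact rfl) | exact rfl⟩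
theorem hJ : JOK 8 (hd Lw) x1 mu Y Z := by (refine of_decide_eq_true ?_; (try (delta Cfsg.Agent.H796.TorData.JOK Cfsg.Agent.H796.TorData.decJOK; rewrite [Cfsg.Agent.LsF.sumF_pat, Cfsg.Agent.LsF.f0a17e9_11.2, Cfsg.Agent.LsF.f0a17e9_12.2, Cfsg.Agent.LsF.f0a17e9_13.2, Cfsg.Agent.LsF.f0a17e9_14.2, Cfsg.Agent.LsF.f0a17e9_15.2, Cfsg.Agent.LsF.f0a17e9_16.2, Cfsg.Agent.LsF.iadd_pat, Cfsg.Agent.LsF.imul_pat, Cfsg.Agent.LsF.isub_pat, Cfsg.Agent.LsF.iACM_eq, Cfsg.Agent.LsF.instIDecEq_eq, Cfsg.Agent.LsF.dFinEq_eq, Cfsg.Agent.LsF.dForallFin_eq, Cfsg.Agent.LsF.ite_eq, Cfsg.Agent.LsF.decide_eq])); decide +kernel)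
private noncomputable def _root_.Cfsg.Agent.LsF.f0a17e9_17 : {f // @Cfsg.Agent.H796.RowE8.Kb = f} := ⟨_, by first | (delta Cfsg.Agent.H796.RowE8.Kb; rewrite [Cfsg.Agent.LsF.vecCons_eq]; exact rfl) | exact rfl⟩
private noncomputable def _root_.Cfsg.Agent.LsF.f0a17e9_1 : {f // @Cfsg.Agent.ChevalleyStructure.RootVecTab.dig = f} := ⟨_, by first | (delta Cfsg.Agent.ChevalleyStructure.RootVecTab.dig; rewrite [Cfsg.Agent.LsF.nmul_pat]; exact rfl) | exact rfl⟩
private noncomputable def _root_.Cfsg.Agent.LsF.f0a17e9_2 : {f // @Cfsg.Agent.ChevalleyStructure.RootVecTab.packTab = f} := ⟨_, by first | (delta Cfsg.Agent.ChevalleyStructure.RootVecTab.packTab; rewrite [Cfsg.Agent.LsF.instDecEq_eq, Cfsg.Agent.LsF.ite_eq]; exact rfl) | exact rfl⟩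
private noncomputable def _root_.Cfsg.Agent.LsF.f0a17e9_3 : {f // @Cfsg.Agent.ChevalleyStructure.RootVecTab.code = f} := ⟨_, by first | (delta Cfsg.Agent.ChevalleyStructure.RootVecTab.code; rewrite [Cfsg.Agent.LsF.f0a17e9_2.2, Cfsg.Agent.LsF.nmul_pat, Cfsg.Agent.LsF.npow_pat]; exact rfl) | exact rfl⟩
private noncomputable def _root_.Cfsg.Agent.LsF.f0a17e9_4 : {f // @Cfsg.Agent.ChevalleyStructure.RootVec.rt = f} := ⟨_, by first | (delta Cfsg.Agent.ChevalleyStructure.RootVec.rt; rewrite [Cfsg.Agent.LsF.f0a17e9_1.2, Cfsg.Agent.LsF.f0a17e9_3.2, Cfsg.Agent.LsF.nsub_pat, Cfsg.Agent.LsF.isub_pat, Cfsg.Agent.LsF.icast_pat, Cfsg.Agent.LsF.decLt_eq, Cfsg.Agent.LsF.dAnd_eq, Cfsg.Agent.LsF.ite_eq]; exact rfl) | exact rfl⟩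
private noncomputable def _root_.Cfsg.Agent.LsF.f0a17e9_18 : {f // @Cfsg.Agent.H796.RowE8.Kpar = f} := ⟨_, by first | (delta Cfsg.Agent.H796.RowE8.Kpar; rewrite [Cfsg.Agent.LsF.vecCons_eq]; exact rfl) | exact rfl⟩
private noncomputable def _root_.Cfsg.Agent.LsF.f0a17e9_19 : {f // @Cfsg.Agent.H796.RowE8.KC = f} := ⟨_, by first | (delta Cfsg.Agent.H796.RowE8.KC; rewrite [Cfsg.Agent.LsF.vecCons_eq]; exact rfl) | exact rfl⟩
theorem hKOK : KOK chevE8 8 Kb KC Kpar := by (refine of_decide_eq_true ?_; (try (delta Cfsg.Agent.H796.TorData.Good Cfsg.Agent.H796.TorData.KOK Cfsg.Agent.H796.TorData.decGood Cfsg.Agent.H796.TorData.decKOK; rewrite [Cfsg.Agent.LsF.sumF_pat, Cfsg.Agent.LsF.f0a17e9_17.2, Cfsg.Agent.LsF.f0a17e9_4.2, Cfsg.Agent.LsF.f0a17e9_18.2, Cfsg.Agent.LsF.f0a17e9_19.2, Cfsg.Agent.LsF.iadd_pat, Cfsg.Agent.LsF.imul_pat, Cfsg.Agent.LsF.isub_pat, Cfsg.Agent.LsF.ineg_pat, Cfsg.Agent.LsF.iACM_eq, Cfsg.Agent.LsF.instDecEq_eq,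 Cfsg.Agent.LsF.decLt_eq, Cfsg.Agent.LsF.instIDecEq_eq, Cfsg.Agent.LsF.dAnd_eq, Cfsg.Agent.LsF.dOr_eq, Cfsg.Agent.LsF.dNot_eq, Cfsg.Agent.LsF.dFinEq_eq, Cfsg.Agent.LsF.dForallFin_eq, Cfsg.Agent.LsF.dExistsFin_eq, Cfsg.Agent.LsF.dAllP_eq, Cfsg.Agent.LsF.idDvd_eq, Cfsg.Agent.LsF.ite_eq, Cfsg.Agent.LsF.decide_eq])); decide +kernel)

/-- **The row of `E₈(q)`, `q` odd.** -/
theorem row_E8 {F : Type u} [Field F] [Fintype F] (hodd : Odd (Fintype.card F)) :
    Cfsg.Agent.H747.RowTwo ↥(chevE8.group F) := by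
  left
  obtain ⟨q, hq⟩ : ∃ q, Fintype.card F = q := ⟨_, rfl⟩
  rw [hq] at hodd
  have hW : Nat.card CoxeterMatrix.E₈.Group = 696729600 :=
    Cfsg.Agent.S1093.result (⟨8, CoxeterMatrix.E₈⟩, 696729600) (by simp)
  have : Finite CoxeterMatrix.E₈.Group := Nat.finite_of_card_ne_zero (by rw [hW]; norm_num)
  obtain ⟨cs, -⟩ : ∃ cs : CoxeterSystem CoxeterMatrix.E₈ CoxeterMatrix.E₈.Group, True :=
    ⟨CoxeterMatrix.E₈.toCoxeterSystem, trivial⟩
  have h1 := chain_rep isType cs hA Lw_ok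
  have h2 := rep_mul_mat isType cs h1 h1 hX2
  have h4 := rep_mul_mat isType cs h2 h2 hX4
  have h8 := rep_mul_mat isType cs h4 h4 hX8
  have c1 := chain_rep isType cs hA Lc_ok
  have c2 := rep_mul_mat isType cs c1 c1 hC2
  have c4 := rep_mul_mat isType cs c2 c2 hC4
  have c3 := rep_mul_mat isType cs c2 c1 hC3
  have c7 := rep_mul_mat isType cs c4 c3 hC7
  have c8 := rep_mul_mat isType cs c4 c4 hC8
  have c15 := rep_mul_mat isType cs c8 c7 hC15
  have hw8 := eq_one_of_mat isType cs h8 hX8'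
  refine oddRow_of isType cs hq hodd invC_E8 (by norm_num) ⟨_, neg_of_mat isType cs c15 hC15'⟩
    (hK_of isType cs hKOK (by norm_num)) (w := cs.wordProd (Lw.map Prod.fst)) (n := 3) ?_
    (hJ_of isType cs h1 hJ) ?_
  · have e : ∀ w : CoxeterMatrix.E₈.Group, w * w * (w * w) * (w * w * (w * w)) = w ^ 2 ^ 3 := fun w => by
      show _ = w ^ 8
      simp only [pow_succ, pow_zero, one_mul, mul_assoc]
    rw [← e]
    exact hw8
  · intro m hm hm0 hqm c hc h2c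
    refine odd_of_card (l := 8) hm hm0 hqm [2, 8, 12, 14, 18, 20, 24, 30] (by decide) rfl (c := c) (N := 120) ?_ h2c
    rw [S1065.result hq, hW] at hc
    simp only [List.prod_cons, List.prod_nil, List.map_cons, List.map_nil]
    calc m ^ 8 * (2 * (8 * (12 * (14 * (18 * (20 * (24 * (30 * 1)))))))) * c = m ^ 8 * 696729600 * c := by ring
      _ = q ^ 120 * (q ^ 2 - 1) * (q ^ 8 - 1) * (q ^ 12 - 1) * (q ^ 14 - 1) * (q ^ 18 - 1) * (q ^ 20 - 1) *
        (q ^ 24 - 1) * (q ^ 30 - 1) := hc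
      _ = _ := by ring

end Cfsg.Agent.H796.RowE8
end

-- part: H745/TorSL
section
/-!
# Torus elements act on `SL₂(q)` like diagonal matrices (helper745, for S5161)

* `torus` : `t` normalises the images of the upper and lower unitriangular matrices and commutes with the image of the
  diagonal matrices; then `t` acts like `diag(c, 1)`;
* `not_isSquare_of_pow` : `c ^ 2 ^ a = -1` where `2 ^ (a + 1)` does not divide ... : `c` is not a square.
-/

set_option autoImplicit false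
set_option linter.style.haveILetI false

namespace Cfsg.Agent.H745.TorSL

open Cfsg.Agent.Lib.SL2Mat Cfsg.Agent.H745.RowAbs

local notation "SL2" => Matrix.SpecialLinearGroup (Fin 2)

variable {F : Type*} [Field F] {K : Type*} [Group K]

/-- conjugation by `diag(c, 1)` -/
def dc (c : F) (hc : c ≠ 0) : SL2 F →* SL2 F where
  toFun x := mk (ent x 0 0) (c * ent x 0 1) (c⁻¹ * ent x 1 0) (ent x 1 1) (by
    have := det_eq x
    field_simp
    linear_combination this)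
  map_one' := by
    refine ext_ent ?_ ?_ ?_ ?_ <;> simp
  map_mul' x y := by
    refine ext_ent ?_ ?_ ?_ ?_ <;> simp only [ent_mul, mk_00, mk_01, mk_10, mk_11] <;> field_simp

theorem dc_up (c : F) (hc : c ≠ 0) (a : F) : dc c hc (up a) = up (c * a) := by
  refine ext_ent ?_ ?_ ?_ ?_ <;> simp [dc]

theorem dc_lo (c : F) (hc : c ≠ 0) (a : F) : dc c hc (lo a) = lo (c⁻¹ * a) := by
  refine ext_ent ?_ ?_ ?_ ?_ <;> simp [dc]

theorem acts_dc {φ : SL2 F →* K} (hφ : Function.Injective φ) {t : K} {c : F} (hc : c ≠ 0)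
    (h : ∀ x, t * φ x * t⁻¹ = φ (dc c hc x)) : Acts φ t !![c, 0; 0, 1] := by
  refine ⟨by simpa using hc, fun x y hxy => ?_⟩
  have h1 : y = dc c hc x := by
    apply hφ
    rw [← h, hxy]
    group
  subst h1
  have e0 : ∀ (u : SL2 F) i j, u.1 i j = ent u i j := fun _ _ _ => rfl
  ext i j
  (revert i j; simp only [Fin.zero_eta, Fin.mk_one, Matrix.mul_apply, Fin.sum_univ_two, e0, Matrix.of_apply, Matrix.cons_val', Matrix.cons_val_zero, Matrix.cons_val_one, Matrix.cons_val_fin_one, dc, MonoidHom.coe_mk, OneHom.coe_mk, mk_00, mk_01, mk_10, mk_11, _root_.Fin.forall_fin_succ, Fin.isValue, _root_.MulZeroClass.mul_zero, _root_.add_zero, _root_.Matrix.cons_val_succ, _root_.mul_one, _root_.zero_add, _root_.Fin.succ_zero_eq_one, _root_.IsEmpty.forall_iff, _root_.and_true, _root_.MulZeroClass.zero_mul, _root_.one_mul]) <;> (repeat' with_reducible apply And.intro) <;>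
    field_simp <;> ring

theorem neg_one_eq_dg : (-1 : SL2 F) = dg (-1) (neg_ne_zero.2 one_ne_zero) := by
  refine ext_ent ?_ ?_ ?_ ?_
  · show (-(1 : Matrix (Fin 2) (Fin 2) F)) 0 0 = _
    simp
  · show (-(1 : Matrix (Fin 2) (Fin 2) F)) 0 1 = _
    simp
  · show (-(1 : Matrix (Fin 2) (Fin 2) F)) 1 0 = _
    simp
  · show (-(1 : Matrix (Fin 2) (Fin 2) F)) 1 1 = _
    simp

theorem dg_pow (b : F) (hb : b ≠ 0) (k : ℕ) : (dg b hb) ^ k = dg (b ^ k) (pow_ne_zero k hb) := by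
  induction k with
  | zero =>
    rw [pow_zero]
    refine ext_ent ?_ ?_ ?_ ?_ <;> simp
  | succ k ih =>
    rw [pow_succ, ih]
    refine ext_ent ?_ ?_ ?_ ?_ <;> simp only [ent_mul, pow_succ, _root_.Fin.isValue, _root_.Cfsg.Agent.Lib.SL2Mat.dg_00, _root_.Cfsg.Agent.Lib.SL2Mat.dg_01, _root_.Cfsg.Agent.Lib.SL2Mat.dg_10, _root_.MulZeroClass.mul_zero, _root_.add_zero, _root_.Cfsg.Agent.Lib.SL2Mat.dg_11, _root_.MulZeroClass.zero_mul, _root_.zero_add, _root_.mul_inv_rev]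
    ring

/-- a `2`-power root of `-1` of maximal order -/
theorem exists_max_root [Finite F] (h2 : (2 : F) ≠ 0) :
    ∃ (a : ℕ) (ζ : F), ζ ^ 2 ^ a = -1 ∧ ∀ μ : F, μ ^ 2 ^ (a + 1) ≠ -1 := by
  classical
  have := Fintype.ofFinite F
  let P : ℕ → Prop := fun a => ∃ ζ : F, ζ ^ 2 ^ a = -1
  have hb : ∀ a, P a → a ≤ Fintype.card Fˣ := by
    rintro a ⟨ζ, hζ⟩
    have h0 : ζ ≠ 0 := by
      rintro rfl
      rw [zero_pow (by positivity)] at hζ
      exact neg_ne_zero.2 one_ne_zero hζ.symm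
    set u : Fˣ := Units.mk0 ζ h0 with hu
    have h1 : ¬ u ^ 2 ^ a = 1 := by
      intro h
      have h3 : ζ ^ 2 ^ a = 1 := by
        have := congrArg Units.val h
        rwa [Units.val_pow_eq_pow_val, Units.val_one, hu, Units.val_mk0] at this
      rw [hζ] at h3
      apply h2
      linear_combination -h3
    have h3 : u ^ 2 ^ (a + 1) = 1 := by
      apply Units.ext
      rw [Units.val_pow_eq_pow_val, Units.val_one, hu, Units.val_mk0, pow_succ, pow_mul, hζ]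
      norm_num
    have h4 := orderOf_eq_prime_pow h1 h3
    have h5 : orderOf u ≤ Fintype.card Fˣ := orderOf_le_card_univ
    rw [h4] at h5
    have h6 : a < 2 ^ a := Nat.lt_two_pow_self
    have h7 : 2 ^ a ≤ 2 ^ (a + 1) := Nat.pow_le_pow_right (by norm_num) (by omega)
    omega
  have h0 : P 0 := ⟨-1, by norm_num⟩
  refine ⟨Nat.findGreatest P (Fintype.card Fˣ), ?_⟩
  obtain ⟨ζ, hζ⟩ := Nat.findGreatest_spec (P := P) (Nat.zero_le _) h0
  refine ⟨ζ, hζ, fun μ hμ => ?_⟩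
  have h3 : P (Nat.findGreatest P (Fintype.card Fˣ) + 1) := ⟨μ, hμ⟩
  have h4 := Nat.le_findGreatest (hb _ h3) h3
  omega

theorem not_isSquare_of {a : ℕ} (h : ∀ μ : F, μ ^ 2 ^ (a + 1) ≠ -1) {c : F} (hc : c ^ 2 ^ a = -1) : ¬ IsSquare c := by
  rintro ⟨μ, rfl⟩
  apply h μ
  rw [pow_succ, mul_comm, pow_mul, pow_two]
  exact hc

theorem ent_sq {x : SL2 F} (h2 : (2 : F) ≠ 0) (h : x * x = -1) (h10 : ent x 1 0 ≠ 0) (he : ent x 0 0 = ent x 1 1) :
    ent x 0 0 = 0 := by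
  have e1 := congrArg (fun u => ent u 1 0) h
  simp only [ent_mul] at e1
  have e2 : ent (-1 : SL2 F) 1 0 = 0 := by
    show (-(1 : Matrix (Fin 2) (Fin 2) F)) 1 0 = 0
    simp
  rw [e2, ← he] at e1
  have e3 : 2 * ent x 1 0 * ent x 0 0 = 0 := by linear_combination e1
  rcases mul_eq_zero.1 e3 with h3 | h3
  · exact absurd h3 (mul_ne_zero h2 h10)
  · exact h3

/-- **The torus acts diagonally.** -/
theorem torus {φ : SL2 F →* K} (hφ : Function.Injective φ) (h2 : (2 : F) ≠ 0) {t : K}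
    (hu : ∀ a, ∃ b, t * φ (up a) * t⁻¹ = φ (up b)) (hl : ∀ a, ∃ b, t * φ (lo a) * t⁻¹ = φ (lo b))
    (hd : ∀ (b : F) (hb : b ≠ 0), t * φ (dg b hb) = φ (dg b hb) * t) :
    ∃ (c : F) (hc : c ≠ 0), ∀ x, t * φ x * t⁻¹ = φ (dc c hc x) := by
  choose f hf using hu
  choose g hg using hl
  have hconj : ∀ x y : SL2 F, t * φ (x * y) * t⁻¹ = (t * φ x * t⁻¹) * (t * φ y * t⁻¹) := by
    intro x y
    rw [map_mul]; group
  have f_add : ∀ a b, f (a + b) = f a + f b := by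
    intro a b
    apply up_inj
    apply hφ
    rw [← hf, ← up_mul, hconj, hf, hf, ← map_mul, up_mul]
  have g_add : ∀ a b, g (a + b) = g a + g b := by
    intro a b
    apply lo_inj
    apply hφ
    rw [← hg, ← lo_mul, hconj, hg, hg, ← map_mul, lo_mul]
  have hdg : ∀ (b : F) (hb : b ≠ 0), t * φ (dg b hb) * t⁻¹ = φ (dg b hb) := by
    intro b hb
    rw [hd]; group
  have f_sq : ∀ b a : F, f (b ^ 2 * a) = b ^ 2 * f a := by
    intro b a
    by_cases hb : b = 0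
    · subst hb
      have h0 : f 0 = 0 := by
        have := f_add 0 0
        rw [add_zero] at this
        linear_combination -this
      rw [zero_pow two_ne_zero, zero_mul, zero_mul, h0]
    · have h1 : t * φ (dg b hb * up a) * t⁻¹ = t * φ (up (b ^ 2 * a) * dg b hb) * t⁻¹ := by rw [dg_up]
      rw [hconj, hconj, hdg, hf, hf, ← map_mul, ← map_mul, dg_up] at h1
      have h3 := mul_right_cancel (hφ h1)
      exact (up_inj h3).symm
  have dg_lo : ∀ (b c : F) (hb : b ≠ 0), dg b hb * lo (b ^ 2 * c) = lo c * dg b hb := by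
    intro b c hb
    refine ext_ent ?_ ?_ ?_ ?_ <;> simp only [ent_mul, _root_.Fin.isValue, _root_.Cfsg.Agent.Lib.SL2Mat.dg_00, _root_.Cfsg.Agent.Lib.SL2Mat.lo_00, _root_.mul_one, _root_.Cfsg.Agent.Lib.SL2Mat.dg_01, _root_.Cfsg.Agent.Lib.SL2Mat.lo_10, _root_.MulZeroClass.zero_mul, _root_.add_zero, _root_.one_mul, _root_.Cfsg.Agent.Lib.SL2Mat.lo_01, _root_.Cfsg.Agent.Lib.SL2Mat.dg_10, _root_.MulZeroClass.mul_zero, _root_.Cfsg.Agent.Lib.SL2Mat.lo_11, _root_.Cfsg.Agent.Lib.SL2Mat.dg_11, _root_.zero_add]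
    field_simp
  have g_sq : ∀ b a : F, g (b ^ 2 * a) = b ^ 2 * g a := by
    intro b a
    by_cases hb : b = 0
    · subst hb
      have h0 : g 0 = 0 := by
        have := g_add 0 0
        rw [add_zero] at this
        linear_combination -this
      rw [zero_pow two_ne_zero, zero_mul, zero_mul, h0]
    · have h1 : t * φ (dg b hb * lo (b ^ 2 * a)) * t⁻¹ = t * φ (lo a * dg b hb) * t⁻¹ := by rw [dg_lo]
      rw [hconj, hconj, hdg, hg, hg, ← map_mul, ← map_mul] at h1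
      have h3 := hφ h1
      rw [← dg_lo] at h3
      exact lo_inj (mul_left_cancel h3)
  have sub_of : ∀ k : F → F, (∀ a b, k (a + b) = k a + k b) → (∀ b a, k (b ^ 2 * a) = b ^ 2 * k a) →
      ∀ a, k a = k 1 * a := by
    intro k hk1 hk2 a
    have h1 := hk2 ((a + 1) / 2) 1
    have h3 := hk2 ((a - 1) / 2) 1
    have h4 := hk1 a (((a - 1) / 2) ^ 2 * 1)
    have h5 : a + ((a - 1) / 2) ^ 2 * 1 = ((a + 1) / 2) ^ 2 * 1 := by
      field_simp
      ring
    rw [h5, h1, h3] at h4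
    have h6 : ((a + 1) / 2) ^ 2 = a + ((a - 1) / 2) ^ 2 := by
      field_simp
      ring
    rw [h6] at h4
    linear_combination -h4
  have hf' := sub_of f f_add f_sq
  have hg' := sub_of g g_add g_sq
  have hf1 : f 1 ≠ 0 := by
    intro h0
    have h1 := hf 1
    rw [h0, up_zero, map_one, mul_inv_eq_one] at h1
    have h3 : φ (up 1) = 1 := mul_eq_left.1 h1
    rw [← map_one φ] at h3
    have h4 := hφ h3
    rw [← up_zero] at h4
    exact one_ne_zero (up_inj h4)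
  have hg1 : g 1 ≠ 0 := by
    intro h0
    have h1 := hg 1
    rw [h0, lo_zero, map_one, mul_inv_eq_one] at h1
    have h3 : φ (lo 1) = 1 := mul_eq_left.1 h1
    rw [← map_one φ] at h3
    have h4 := hφ h3
    rw [← lo_zero] at h4
    exact one_ne_zero (lo_inj h4)
  have hcc : f 1 * g 1 = 1 := by
    have hneg := neg_one_eq_dg (F := F)
    have hw : (up 1 * lo (-1) * up 1 : SL2 F) * (up 1 * lo (-1) * up 1) = -1 := by
      rw [hneg]
      refine ext_ent ?_ ?_ ?_ ?_ <;> simp [ent_mul]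
    have h1 : t * φ ((up 1 * lo (-1) * up 1 : SL2 F) * (up 1 * lo (-1) * up 1)) * t⁻¹ = φ (-1) := by
      rw [hw, hneg, hdg]
    have h3 : t * φ (up 1 * lo (-1) * up 1) * t⁻¹ = φ (up (f 1) * lo (-(g 1)) * up (f 1)) := by
      rw [hconj, hconj, hf, hg, hg' (-1), ← map_mul, ← map_mul]
      congr 4
      ring
    rw [hconj, h3, ← map_mul] at h1
    have h4 := hφ h1
    have h5 := ent_sq h2 h4 (by simp [ent_mul, hg1]) (by simp only [ent_mul, _root_.Fin.isValue, _root_.Cfsg.Agent.Lib.SL2Mat.up_00, _root_.Cfsg.Agent.Lib.SL2Mat.lo_00, _root_.mul_one, _root_.Cfsg.Agent.Lib.SL2Mat.up_01, _root_.Cfsg.Agent.Lib.SL2Mat.lo_10, _root_.mul_neg, _root_.Cfsg.Agent.Lib.SL2Mat.lo_01, _root_.MulZeroClass.mul_zero, _root_.Cfsg.Agent.Lib.SL2Mat.lo_11, _root_.zero_add, _root_.Cfsg.Agent.Lib.SL2Mat.up_10, _root_.add_zero, _root_.Cfsg.Agent.Lib.SL2Mat.up_11, _root_.one_mul, _root_.neg_mul]; ring)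
    simp only [ent_mul, up_00, up_01, up_10, up_11, lo_00, lo_01, lo_10, lo_11] at h5
    linear_combination -h5
  refine ⟨f 1, hf1, fun x => ?_⟩
  have key : ((MulAut.conj t).toMonoidHom.comp φ) = φ.comp (dc (f 1) hf1) := by
    apply hom_ext
    · intro b
      show t * φ (up b) * t⁻¹ = φ (dc (f 1) hf1 (up b))
      rw [hf, dc_up, ← hf']
    · intro b
      show t * φ (lo b) * t⁻¹ = φ (dc (f 1) hf1 (lo b))
      rw [hg, dc_lo, hg' b]
      congr 2
      have : (f 1)⁻¹ = g 1 := by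
        rw [inv_eq_iff_eq_inv]
        exact eq_inv_of_mul_eq_one_left hcc
      rw [this]
  exact DFunLike.congr_fun key x

end Cfsg.Agent.H745.TorSL
end

-- part: H745/RowCls
section
/-!
# Frames of `SL₂(q)` from classical root groups (helper745, for S5161)

`oddRow_of_cls` : `OddRow` from the data `Cls`, a frame of classical roots orthogonal to no root and permutations of it.
-/

set_option autoImplicit false
set_option linter.unusedSectionVars false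
set_option linter.style.haveILetI false

namespace Cfsg.Agent.H745.RowCls

open CoxeterSystem Cfsg.Agent.ChevalleyStructure.CoxeterGeom Cfsg.Agent.Tits.Roots Cfsg.Agent.Tits.Core
  Cfsg.Agent.Tits.RootComb Cfsg.Agent.Nodes.Comb Cfsg.Agent.Nodes.Reps Cfsg.Agent.Nodes.BNOf
  Cfsg.Agent.Nodes.RGDLib Cfsg.Agent.Nodes.Chart Cfsg.Agent.Nodes.StabComb Cfsg.Agent.Nodes.Bruhat
  Cfsg.Agent.Nodes.ClsNorm Cfsg.Agent.Nodes.SubComb Cfsg.Agent.Nodes.Coroot Cfsg.Agent.Nodes.KindBase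
  Cfsg.Agent.Nodes.Perp

local notation "SL2" => Matrix.SpecialLinearGroup (Fin 2)

universe u v

variable {I W : Type u} {Y : Type v} [Fintype I] [DecidableEq I] [Group W] [Fintype W] [Group Y]
  {M : CoxeterMatrix I} {cs : CoxeterSystem M W} {A : I → I → ℤ} {h : IsCartan M A} {p : ℕ} {T : Subgroup Y}
  {n : I → Y} {X : (I → ℤ) → Subgroup Y} {R : Set (I → ℤ)} {Z : (I → ℤ) → Subgroup Y} {z : (I → ℤ) → Y}
  (C : Cls cs h p T n X R Z z)

include C

theorem eq_one_of_sq (hp2 : Odd p) {x : I → ℤ} (hx : IsRoot cs h x) {a : Y} (ha : a ∈ X x) (h2 : a * a = 1) : a = 1 := by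
  obtain ⟨k, hk⟩ := C.rgd.pgrp' hx ⟨a, ha⟩
  have h6 : a ^ p ^ k = 1 := congrArg Subtype.val hk
  have h7 : orderOf a ∣ 2 := orderOf_dvd_of_pow_eq_one (by rw [pow_two, h2])
  have h8 : orderOf a ∣ p ^ k := orderOf_dvd_of_pow_eq_one h6
  have h9 : orderOf a ∣ 1 := by
    have hc : Nat.Coprime 2 (p ^ k) := Nat.Coprime.pow_right _ (Nat.coprime_two_left.2 hp2)
    rw [← hc]
    exact Nat.dvd_gcd h7 h8
  rwa [Nat.dvd_one, orderOf_eq_one_iff] at h9

/-- an element of `X x` inverted and centralised by `z r` is trivial -/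
theorem eq_one_of_inv (hp2 : Odd p) {r : I → ℤ} (hr : r ∈ R) {x : I → ℤ} (hx : IsRoot cs h x) {a : Y} (ha : a ∈ X x)
    (h1 : z r * a * z r = a⁻¹) (h2 : z r * a = a * z r) : a = 1 := by
  apply eq_one_of_sq C hp2 hx ha
  rw [h2, mul_assoc, C.z_sq r hr, mul_one] at h1
  nth_rewrite 1 [h1]
  exact inv_mul_cancel a

theorem z_comm_of_orth {r : I → ℤ} (hr : r ∈ R) {x : I → ℤ} (hx : IsRoot cs h x) (h0 : form cs h x r = 0) {a : Y}
    (ha : a ∈ X x) {b : Y} (hb : b ∈ KK Z r) : a * b = b * a := by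
  have h4 : ∀ v ∈ Z r, a * v = v * a := fun v hv => C.cent r hr x hx h0.ge a ha v hv
  have h5 : ∀ v ∈ Z (-r), a * v = v * a := fun v hv =>
    C.cent (-r) (Cfsg.Agent.Nodes.ClsNorm.neg_mem C hr) x hx (by rw [form_neg_right, h0, neg_zero]) a ha v hv
  have h6 : KK Z r ≤ Subgroup.centralizer ({a} : Set Y) := by
    refine sup_le ?_ ?_
    · intro v hv
      rw [Subgroup.mem_centralizer_iff]; rintro _ rfl; exact h4 v hv
    · intro v hv
      rw [Subgroup.mem_centralizer_iff]; rintro _ rfl; exact h5 v hv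
  exact Subgroup.mem_centralizer_iff.1 (h6 hb) a rfl

/-- the centralizer of `z r` in a root group not equal to `± r` -/
theorem eq_one_or_comm (hp2 : Odd p) {r : I → ℤ} (hr : r ∈ R) {x : I → ℤ} (hx : IsRoot cs h x) (h1 : x ≠ r)
    (h2 : x ≠ -r) {a : Y} (ha : a ∈ X x) (hz : z r * a = a * z r) : a = 1 ∨ form cs h x r = 0 := by
  by_cases h3 : form cs h x r = 0
  · exact Or.inr h3
  · exact Or.inl (eq_one_of_inv C hp2 hr hx ha (C.z_inv r hr x hx h1 h2 h3 a ha) hz)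

variable {m : ℕ} {fr : Fin m → I → ℤ}

/-- **`z r` determines `± r`.** -/
theorem z_sep (hp2 : Odd p) (Fs : FrameSys cs h R fr)
    (hsep : ∀ k l, k ≠ l → ∃ y, IsRoot cs h y ∧ y ≠ fr k ∧ y ≠ -fr k ∧ form cs h y (fr k) ≠ 0 ∧ form cs h y (fr l) = 0)
    {r s : I → ℤ} (hr : r ∈ R) (hs : s ∈ R) (hz : z r = z s) : s = r ∨ s = -r := by
  by_contra hcon
  push Not at hcon
  obtain ⟨h1, h2⟩ := hcon
  have h0 : form cs h s r = 0 := by
    by_contra h0
    apply C.ne_bot s hs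
    rw [Subgroup.eq_bot_iff_forall]
    intro b hb
    refine eq_one_of_inv C hp2 hr (C.root s hs) (C.le s hs hb) (C.z_inv r hr s (C.root s hs) h1 h2 h0 b (C.le s hs hb)) ?_
    rw [hz]
    exact C.z_cent s hs b hb
  have hc : cpr cs h s r = 0 := by rw [cpr_zero_iff cs h s (C.root r hr)]; exact h0
  have hc' : cpr cs h r s = 0 := (cpr_zero_comm cs h (C.root r hr) (C.root s hs)).2 hc
  obtain ⟨w, f, hf⟩ := Fs.exists_move ![r, s] (by intro i; fin_cases i <;> assumption) (by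
    intro i j hij
    fin_cases i <;> fin_cases j
    · exact absurd rfl hij
    · exact hc'
    · exact hc
    · exact absurd rfl hij)
  have f0 : rep cs h w r = fr (f 0) := hf 0
  have f1 : rep cs h w s = fr (f 1) := hf 1
  have hne : f 0 ≠ f 1 := by
    intro he
    apply h1
    apply rep_injective_apply cs h w
    rw [f0, f1, he]
  obtain ⟨k, hk⟩ := exists_rp cs C.rgd.nsys w
  have e0 := conj_z C hk hr
  have e1 := conj_z C hk hs
  rw [hz, e1, f0, f1] at e0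
  obtain ⟨y, hy, hy1, hy2, hy3, hy4⟩ := hsep (f 0) (f 1) hne
  apply Cfsg.Agent.Nodes.StdConn.X_ne_bot C hy
  rw [Subgroup.eq_bot_iff_forall]
  intro a ha
  have hz0 := C.z_inv (fr (f 0)) (Fs.mem _) y hy hy1 hy2 hy3 a ha
  refine eq_one_of_inv C hp2 (Fs.mem (f 0)) hy ha hz0 ?_
  rw [← e0]
  exact (z_comm_of_orth C (Fs.mem (f 1)) hy hy4 ha (C.z_mem _ (Fs.mem (f 1)))).symm

/-- **The centralizer of `z r` normalises `KK r`.** -/
theorem norm (hp2 : Odd p) (hG : GG cs h T X = ⊤) (hsep : ∀ r ∈ R, ∀ s ∈ R, z r = z s → s = r ∨ s = -r)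
    {r : I → ℤ} (hr : r ∈ R) {g : Y} (hg : g * z r = z r * g) : g ∈ Subgroup.normalizer (KK Z r : Set Y) := by
  have hS : ({z r} : Set Y) ⊆ T := by rintro _ rfl; exact C.z_torus r hr
  have hX : ∀ x, IsRoot cs h x → X x ⊓ Subgroup.centralizer ({z r} : Set Y) ≤ Subgroup.normalizer (KK Z r : Set Y) := by
    intro x hx a ha
    have hza : z r * a = a * z r := Subgroup.mem_centralizer_iff.1 ha.2 _ rfl
    by_cases h1 : x = r
    · subst h1
      have h3 : a ∈ OddHalf.LongSL.ZX X (z x) x := OddHalf.LongSL.mem_ZX.2 ⟨ha.1, hza⟩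
      rw [OddHalf.LongSL.ZX_eq C hp2 hr] at h3
      exact Subgroup.le_normalizer (le_sup_left (a := Z x) h3)
    by_cases h2 : x = -r
    · subst h2
      have h3 : a ∈ OddHalf.LongSL.ZX X (z (-r)) (-r) := OddHalf.LongSL.mem_ZX.2 ⟨ha.1, by rw [C.z_neg r hr]; exact hza⟩
      rw [OddHalf.LongSL.ZX_eq C hp2 (Cfsg.Agent.Nodes.ClsNorm.neg_mem C hr)] at h3
      exact Subgroup.le_normalizer (le_sup_right (a := Z r) h3)
    rcases eq_one_or_comm C hp2 hr hx h1 h2 ha.1 hza with h3 | h3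
    · rw [h3]; exact one_mem _
    · refine centralizer_le_normalizer' _ (Subgroup.mem_centralizer_iff.2 fun b hb => ?_)
      exact (z_comm_of_orth C hr hx h3 ha.1 hb).symm
  obtain ⟨u, hu, w, k, hk, hkc, v, hv, rfl⟩ := Cfsg.Agent.Nodes.NormalForm.mem_centralizer C.rgd hS (by rw [hG]; trivial)
    (g := g) (by rw [Subgroup.mem_centralizer_iff]; rintro _ rfl; exact hg.symm)
  have hsup : RGD.Sup (fun x => X x ⊓ Subgroup.centralizer ({z r} : Set Y)) (RGD.Pos cs h) ≤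
      Subgroup.normalizer (KK Z r : Set Y) := RGD.Sup_le fun x hx => hX x hx.1
  refine mul_mem (mul_mem (hsup hu) ?_) (hsup hv)
  have hkz : z r * k = k * z r := Subgroup.mem_centralizer_iff.1 hkc _ rfl
  have e1 := conj_z C hk hr
  have e2 : k * z r * k⁻¹ = z r := by rw [← hkz]; group
  rw [e2] at e1
  have e3 : cj k (KK Z r) = KK Z (rep cs h w r) := by
    unfold KK
    rw [cj_sup, conj_Z C hk hr, conj_Z C hk (Cfsg.Agent.Nodes.ClsNorm.neg_mem C hr), map_neg]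
  rw [mem_normalizer_iff_cj, e3]
  rcases hsep r hr _ (C.act r hr w) e1 with e4 | e4
  · rw [e4]
  · rw [e4, KK_neg]

/-- an element normalising all `Z (± fr k)` lies in the torus -/
theorem mem_T_of_norm (hG : GG cs h T X = ⊤) (Fs : FrameSys cs h R fr)
    (hno : ∀ x, IsRoot cs h x → ∃ k, form cs h x (fr k) ≠ 0) {g : Y}
    (h1 : ∀ k, cj g (Z (fr k)) = Z (fr k)) (h2 : ∀ k, cj g (Z (-fr k)) = Z (-fr k)) : g ∈ T := by
  have ho : ∀ i j, i ≠ j → form cs h (fr i) (fr j) = 0 := fun i j hij => by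
    rw [← cpr_zero_iff cs h _ (C.root _ (Fs.mem j))]
    exact Fs.orth i j hij
  obtain ⟨w, k, hk, hw, d, hd, rfl⟩ := Cfsg.Agent.Nodes.RelFrame.stab m C fr fr Fs.mem Fs.mem ho ho (by rw [hG]; trivial) h1 h2
  have h1 : w = 1 := Cfsg.Agent.Nodes.FrameCent.eq_one_of_fix hno hw
  subst h1
  have h2 : Cfsg.Agent.Nodes.Perp.Perp cs h (Set.range fr) = ∅ := by
    rw [Set.eq_empty_iff_forall_notMem]
    intro x hx
    obtain ⟨i, hi⟩ := hno x hx.1
    exact hi (hx.2 _ ⟨i, rfl⟩)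
  have h3 : d = 1 := by
    unfold DD at hd
    rw [h2] at hd
    have : RGD.Sup X (∅ : Set (I → ℤ)) = ⊥ := by
      unfold RGD.Sup
      exact iSup_of_empty _
    rw [this] at hd
    exact Subgroup.mem_bot.1 hd
  rw [h3, mul_one]
  exact hk.mem_of_one

/-- **The centralizer of all `z (fr k)`.** -/
theorem mem_sup (hp : p.Prime) (hp2 : Odd p) (hG : GG cs h T X = ⊤) (Fs : FrameSys cs h R fr)
    (hsep : ∀ r ∈ R, ∀ s ∈ R, z r = z s → s = r ∨ s = -r)
    (hno : ∀ x, IsRoot cs h x → ∃ k, form cs h x (fr k) ≠ 0) {g : Y} (hg : ∀ k, g * z (fr k) = z (fr k) * g) :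
    g ∈ T ⊔ ⨆ k, KK Z (fr k) := by
  classical
  set D := T ⊔ ⨆ k, KK Z (fr k) with hD
  have hTD : T ≤ D := le_sup_left
  have hKD : ∀ k, KK Z (fr k) ≤ D := fun k => le_trans (le_iSup (fun k => KK Z (fr k)) k) le_sup_right
  have hS : Set.range (fun k => z (fr k)) ⊆ (T : Set Y) := by
    rintro _ ⟨k, rfl⟩
    exact C.z_torus _ (Fs.mem k)
  have hX : ∀ x, IsRoot cs h x → X x ⊓ Subgroup.centralizer (Set.range (fun k => z (fr k))) ≤ D := by
    intro x hx a ha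
    have hza : ∀ k, z (fr k) * a = a * z (fr k) := fun k => Subgroup.mem_centralizer_iff.1 ha.2 _ ⟨k, rfl⟩
    by_cases h1 : ∃ k, x = fr k ∨ x = -fr k
    · obtain ⟨k, hk | hk⟩ := h1
      · have h3 : a ∈ OddHalf.LongSL.ZX X (z (fr k)) (fr k) := OddHalf.LongSL.mem_ZX.2 ⟨hk ▸ ha.1, hza k⟩
        rw [OddHalf.LongSL.ZX_eq C hp2 (Fs.mem k)] at h3
        exact hKD k (le_sup_left (a := Z (fr k)) h3)
      · have h3 : a ∈ OddHalf.LongSL.ZX X (z (-fr k)) (-fr k) :=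
          OddHalf.LongSL.mem_ZX.2 ⟨hk ▸ ha.1, by rw [C.z_neg _ (Fs.mem k)]; exact hza k⟩
        rw [OddHalf.LongSL.ZX_eq C hp2 (Cfsg.Agent.Nodes.ClsNorm.neg_mem C (Fs.mem k))] at h3
        exact hKD k (le_sup_right (a := Z (fr k)) h3)
    · push Not at h1
      obtain ⟨k, hk⟩ := hno x hx
      rcases eq_one_or_comm C hp2 (Fs.mem k) hx (h1 k).1 (h1 k).2 ha.1 (hza k) with h3 | h3
      · rw [h3]; exact one_mem _
      · exact absurd h3 hk
  obtain ⟨u, hu, w, k, hk, hkc, v, hv, rfl⟩ := Cfsg.Agent.Nodes.NormalForm.mem_centralizer C.rgd hS (by rw [hG]; trivial)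
    (g := g) (by rw [Subgroup.mem_centralizer_iff]; rintro _ ⟨k, rfl⟩; exact (hg k).symm)
  have hsup : RGD.Sup (fun x => X x ⊓ Subgroup.centralizer (Set.range (fun k => z (fr k)))) (RGD.Pos cs h) ≤ D :=
    RGD.Sup_le fun x hx => hX x hx.1
  refine mul_mem (mul_mem (hsup hu) ?_) (hsup hv)
  have hsgn : ∀ j, rep cs h w (fr j) = fr j ∨ rep cs h w (fr j) = -fr j := by
    intro j
    have hkz : z (fr j) * k = k * z (fr j) := Subgroup.mem_centralizer_iff.1 hkc _ ⟨j, rfl⟩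
    have e1 := conj_z C hk (Fs.mem j)
    have e2 : k * z (fr j) * k⁻¹ = z (fr j) := by rw [← hkz]; group
    rw [e2] at e1
    exact hsep _ (Fs.mem j) _ (C.act _ (Fs.mem j) w) e1
  -- induction on the number of signs
  have key : ∀ N : ℕ, ∀ (w : W) (k : Y), Rp cs C.rgd.nsys w k →
      (∀ j, rep cs h w (fr j) = fr j ∨ rep cs h w (fr j) = -fr j) →
      (Finset.univ.filter (fun j => rep cs h w (fr j) = -fr j)).card = N → k ∈ D := by
    intro N
    induction N with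
    | zero =>
      intro w k hk hw h0
      rw [Finset.card_eq_zero, Finset.filter_eq_empty_iff] at h0
      have h1 : w = 1 := Cfsg.Agent.Nodes.FrameCent.eq_one_of_fix hno (fun j => (hw j).resolve_right (h0 (Finset.mem_univ j)))
      subst h1
      exact hTD hk.mem_of_one
    | succ N ih =>
      intro w k hk hw hN
      obtain ⟨j, hj⟩ : (Finset.univ.filter (fun j => rep cs h w (fr j) = -fr j)).Nonempty := by
        rw [← Finset.card_pos]; omega
      rw [Finset.mem_filter] at hj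
      obtain ⟨b, hb, hb1⟩ : ∃ b ∈ Z (-fr j), b ≠ 1 := by
        by_contra h0
        push Not at h0
        exact C.ne_bot _ (Cfsg.Agent.Nodes.ClsNorm.neg_mem C (Fs.mem j)) ((Subgroup.eq_bot_iff_forall _).2 h0)
      obtain ⟨a, ha, c, hc, s, hs, hsr⟩ := exists_refl_KK C hp (by rintro rfl; exact absurd hp2 (by decide)) (Fs.mem j) hb hb1
      have hmem : a * b * c ∈ KK Z (fr j) := mul_mem (mul_mem (le_sup_left (a := Z (fr j)) ha)
        (le_sup_right (a := Z (fr j)) hb)) (le_sup_left (a := Z (fr j)) hc)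
      have hrj := C.root _ (Fs.mem j)
      have hsj : rep cs h s (fr j) = -fr j := by
        rw [hsr, cpr_self cs h hrj, two_smul]; abel
      have hso : ∀ i, i ≠ j → rep cs h s (fr i) = fr i := by
        intro i hi
        rw [hsr, Fs.orth i j hi, zero_smul, sub_zero]
      have h1 : a * b * c * k ∈ D := by
        refine ih (s * w) _ (hs.mul hk) (fun i => ?_) ?_
        · rw [rep_mul_apply]
          by_cases hij : i = j
          · subst hij
            left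
            rw [hj.2, map_neg, hsj, neg_neg]
          · rcases hw i with h2 | h2
            · left; rw [h2, hso i hij]
            · right; rw [h2, map_neg, hso i hij]
        · have h3 : Finset.univ.filter (fun i => rep cs h (s * w) (fr i) = -fr i) =
              (Finset.univ.filter (fun i => rep cs h w (fr i) = -fr i)).erase j := by
            ext i
            rw [Finset.mem_erase, Finset.mem_filter, Finset.mem_filter, rep_mul_apply]
            by_cases hij : i = j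
            · subst hij
              rw [hj.2, map_neg, hsj, neg_neg]
              constructor
              · rintro ⟨-, h4⟩
                exact absurd h4 (Fs.ne_neg i i)
              · rintro ⟨h4, -⟩
                exact absurd rfl h4
            · rcases hw i with h2 | h2
              · rw [h2, hso i hij]
                exact ⟨fun h4 => ⟨hij, h4⟩, fun h4 => h4.2⟩
              · rw [h2, map_neg, hso i hij]
                exact ⟨fun h4 => ⟨hij, h4⟩, fun h4 => h4.2⟩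
          rw [h3, Finset.card_erase_of_mem (Finset.mem_filter.2 hj), hN]
          omega
      have h2 : k = (a * b * c)⁻¹ * (a * b * c * k) := by group
      rw [h2]
      exact mul_mem (inv_mem (hKD j hmem)) h1
  exact key _ w k hk hsgn rfl


/-! ### homomorphisms from `SL₂` -/

section SL

open Cfsg.Agent.Lib.SL2Mat Cfsg.Agent.H745.RowAbs Cfsg.Agent.H745.TorSL

variable {F : Type*} [Field F]

/-- `φ` maps the unitriangular matrices onto `Z r`, `Z (-r)` -/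
structure SLAt (Z : (I → ℤ) → Subgroup Y) (φ : SL2 F →* Y) (r : I → ℤ) : Prop where
  inj : Function.Injective φ
  up_mem : ∀ a, φ (up a) ∈ Z r
  up_surj : ∀ u ∈ Z r, ∃ a, φ (up a) = u
  lo_mem : ∀ a, φ (lo a) ∈ Z (-r)
  lo_surj : ∀ u ∈ Z (-r), ∃ a, φ (lo a) = u

omit C in
theorem SLAt.range_eq {φ : SL2 F →* Y} {r : I → ℤ} (H : SLAt Z φ r) : φ.range = KK Z r := by
  apply le_antisymm
  · rintro _ ⟨x, rfl⟩
    obtain ⟨a, b, c, d, rfl⟩ := exists_up_lo x
    rw [map_mul, map_mul, map_mul]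
    unfold KK
    exact mul_mem (mul_mem (mul_mem (le_sup_left (a := Z r) (H.up_mem a)) (le_sup_right (a := Z r) (H.lo_mem b)))
      (le_sup_left (a := Z r) (H.up_mem c))) (le_sup_right (a := Z r) (H.lo_mem d))
  · refine sup_le ?_ ?_
    · intro u hu
      obtain ⟨a, rfl⟩ := H.up_surj u hu
      exact ⟨_, rfl⟩
    · intro u hu
      obtain ⟨a, rfl⟩ := H.lo_surj u hu
      exact ⟨_, rfl⟩

theorem SLAt.conj {φ : SL2 F →* Y} {r : I → ℤ} (hr : r ∈ R) (H : SLAt Z φ r) {w : W} {k : Y}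
    (hk : Rp cs C.rgd.nsys w k) : SLAt Z ((MulAut.conj k).toMonoidHom.comp φ) (rep cs h w r) where
  inj := (MulAut.conj k).injective.comp H.inj
  up_mem a := by
    rw [← conj_Z C hk hr]
    exact conj_mem_cj.2 (H.up_mem a)
  up_surj u hu := by
    rw [← conj_Z C hk hr, mem_cj] at hu
    obtain ⟨a, ha⟩ := H.up_surj _ hu
    refine ⟨a, ?_⟩
    show k * φ (up a) * k⁻¹ = u
    rw [ha]; group
  lo_mem a := by
    rw [← map_neg, ← conj_Z C hk (Cfsg.Agent.Nodes.ClsNorm.neg_mem C hr)]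
    exact conj_mem_cj.2 (H.lo_mem a)
  lo_surj u hu := by
    rw [← map_neg, ← conj_Z C hk (Cfsg.Agent.Nodes.ClsNorm.neg_mem C hr), mem_cj] at hu
    obtain ⟨a, ha⟩ := H.lo_surj _ hu
    refine ⟨a, ?_⟩
    show k * φ (lo a) * k⁻¹ = u
    rw [ha]; group

theorem z_ne_one (hp2 : Odd p) {r : I → ℤ} (hr : r ∈ R)
    (hnb : ∃ y, IsRoot cs h y ∧ y ≠ r ∧ y ≠ -r ∧ form cs h y r ≠ 0) : z r ≠ 1 := by
  intro h1
  obtain ⟨y, hy, hy1, hy2, hy3⟩ := hnb
  apply Cfsg.Agent.Nodes.StdConn.X_ne_bot C hy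
  rw [Subgroup.eq_bot_iff_forall]
  intro a ha
  exact eq_one_of_inv C hp2 hr hy ha (C.z_inv r hr y hy hy1 hy2 hy3 a ha) (by rw [h1, one_mul, mul_one])

theorem SLAt.neg_one {φ : SL2 F →* Y} {r : I → ℤ} (hr : r ∈ R) (H : SLAt Z φ r) (h2 : (2 : F) ≠ 0) (hz : z r ≠ 1) :
    φ (-1) = z r := by
  have h1 := C.z_mem r hr
  have h3 : z r ∈ φ.range := by rw [H.range_eq]; exact h1
  obtain ⟨x, hx⟩ := h3
  have h4 : x * x = 1 := by
    apply H.inj
    rw [map_mul, hx, map_one]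
    exact C.z_sq r hr
  have h5 : x ≠ 1 := by
    rintro rfl
    rw [map_one] at hx
    exact hz hx.symm
  rw [← hx, Cit.LongConj.eq_neg_one h2 h4 h5]

theorem dg_mem_T (hG : GG cs h T X = ⊤) (Fs : FrameSys cs h R fr)
    (hno : ∀ x, IsRoot cs h x → ∃ k, form cs h x (fr k) ≠ 0) {φ : SL2 F →* Y} {j : Fin m} (H : SLAt Z φ (fr j)) (b : F)
    (hb : b ≠ 0) : φ (dg b hb) ∈ T := by
  have hinv : ∀ (b : F) (hb : b ≠ 0), (dg b hb)⁻¹ = dg b⁻¹ (inv_ne_zero hb) := by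
    intro b hb
    refine inv_eq_of_mul_eq_one_right (ext_ent ?_ ?_ ?_ ?_) <;> simp [ent_mul, hb]
  have hu : ∀ (b : F) (hb : b ≠ 0), cj (φ (dg b hb)) (Z (fr j)) ≤ Z (fr j) := by
    rintro b hb _ ⟨u, hu, rfl⟩
    obtain ⟨a, rfl⟩ := H.up_surj u hu
    show φ (dg b hb) * φ (up a) * (φ (dg b hb))⁻¹ ∈ _
    rw [← map_mul, dg_up, map_mul, mul_inv_cancel_right]
    exact H.up_mem _
  have hl : ∀ (b : F) (hb : b ≠ 0), cj (φ (dg b hb)) (Z (-fr j)) ≤ Z (-fr j) := by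
    rintro b hb _ ⟨u, hu, rfl⟩
    obtain ⟨a, rfl⟩ := H.lo_surj u hu
    show φ (dg b hb) * φ (lo a) * (φ (dg b hb))⁻¹ ∈ _
    have e1 : dg b hb * lo a = lo ((b⁻¹) ^ 2 * a) * dg b hb := by
      refine ext_ent ?_ ?_ ?_ ?_ <;> simp only [ent_mul, _root_.Fin.isValue, _root_.Cfsg.Agent.Lib.SL2Mat.dg_00, _root_.Cfsg.Agent.Lib.SL2Mat.lo_00, _root_.mul_one, _root_.Cfsg.Agent.Lib.SL2Mat.dg_01, _root_.Cfsg.Agent.Lib.SL2Mat.lo_10, _root_.MulZeroClass.zero_mul, _root_.add_zero, _root_.inv_pow, _root_.one_mul, _root_.Cfsg.Agent.Lib.SL2Mat.lo_01, _root_.Cfsg.Agent.Lib.SL2Mat.dg_10, _root_.MulZeroClass.mul_zero, _root_.Cfsg.Agent.Lib.SL2Mat.lo_11, _root_.Cfsg.Agent.Lib.SL2Mat.dg_11, _root_.zero_add]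
      field_simp
    rw [← map_mul, e1, map_mul, mul_inv_cancel_right]
    exact H.lo_mem _
  have eq_of : ∀ (g : Y) (P : Subgroup Y), cj g P ≤ P → cj g⁻¹ P ≤ P → cj g P = P := by
    intro g P h1 h2
    apply le_antisymm h1
    have h3 := cj_mono g h2
    rwa [cj_cj_inv] at h3
  have hJ : ∀ k, k ≠ j → ∀ x ∈ KK Z (fr k), φ (dg b hb) * x = x * φ (dg b hb) := by
    intro k hk
    have h0 : form cs h (fr k) (fr j) = 0 := by
      rw [← cpr_zero_iff cs h _ (C.root _ (Fs.mem j))]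
      exact Fs.orth k j hk
    have h1 : φ (dg b hb) ∈ KK Z (fr j) := by rw [← H.range_eq]; exact ⟨_, rfl⟩
    have h2 : KK Z (fr k) ≤ Subgroup.centralizer ({φ (dg b hb)} : Set Y) := by
      refine sup_le ?_ ?_
      · intro v hv
        rw [Subgroup.mem_centralizer_iff]; rintro _ rfl
        exact (z_comm_of_orth C (Fs.mem j) (C.root _ (Fs.mem k)) h0 (C.le _ (Fs.mem k) hv) h1).symm
      · intro v hv
        rw [Subgroup.mem_centralizer_iff]; rintro _ rfl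
        exact (z_comm_of_orth C (Fs.mem j) (C.root _ (Fs.mem k)).neg (by rw [form_neg_left, h0, neg_zero])
          (C.le _ (Cfsg.Agent.Nodes.ClsNorm.neg_mem C (Fs.mem k)) hv) h1).symm
    intro x hx
    exact Subgroup.mem_centralizer_iff.1 (h2 hx) _ rfl
  refine mem_T_of_norm C hG Fs hno (fun k => ?_) (fun k => ?_)
  · by_cases hk : k = j
    · subst hk
      refine eq_of _ _ (hu b hb) ?_
      rw [← map_inv, hinv]
      exact hu _ _
    · exact Cfsg.Agent.Nodes.FrameCent.cj_eq_of_comm C fun x hx => hJ k hk x (le_sup_left (a := Z (fr k)) hx)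
  · by_cases hk : k = j
    · subst hk
      refine eq_of _ _ (hl b hb) ?_
      rw [← map_inv, hinv]
      exact hl _ _
    · exact Cfsg.Agent.Nodes.FrameCent.cj_eq_of_comm C fun x hx => hJ k hk x (le_sup_right (a := Z (fr k)) hx)

/-- the torus acts diagonally -/
theorem torus_acts (hG : GG cs h T X = ⊤) (Fs : FrameSys cs h R fr)
    (hno : ∀ x, IsRoot cs h x → ∃ k, form cs h x (fr k) ≠ 0) (hTc : ∀ s ∈ T, ∀ t ∈ T, s * t = t * s)
    (h2 : (2 : F) ≠ 0) {φ : SL2 F →* Y} {j : Fin m} (H : SLAt Z φ (fr j)) {t : Y} (ht : t ∈ T) :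
    ∃ (c : F) (hc : c ≠ 0), ∀ x, t * φ x * t⁻¹ = φ (dc c hc x) := by
  refine torus H.inj h2 (fun a => ?_) (fun a => ?_) (fun b hb => hTc t ht _ (dg_mem_T C hG Fs hno H b hb))
  · have h1 : t * φ (up a) * t⁻¹ ∈ Z (fr j) := by
      have h3 := C.tor _ (Fs.mem j) t ht
      rw [← h3]
      exact conj_mem_cj.2 (H.up_mem a)
    obtain ⟨b, hb⟩ := H.up_surj _ h1
    exact ⟨b, hb.symm⟩
  · have h1 : t * φ (lo a) * t⁻¹ ∈ Z (-fr j) := by
      have h3 := C.tor _ (Cfsg.Agent.Nodes.ClsNorm.neg_mem C (Fs.mem j)) t ht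
      rw [← h3]
      exact conj_mem_cj.2 (H.lo_mem a)
    obtain ⟨b, hb⟩ := H.lo_surj _ h1
    exact ⟨b, hb.symm⟩

theorem comm_KK {r s : I → ℤ} (hr : r ∈ R) (hs : s ∈ R) (h0 : form cs h r s = 0) {x y : Y} (hx : x ∈ KK Z r)
    (hy : y ∈ KK Z s) : x * y = y * x := by
  have h2 : KK Z r ≤ Subgroup.centralizer ({y} : Set Y) := by
    refine sup_le ?_ ?_
    · intro v hv
      rw [Subgroup.mem_centralizer_iff]; rintro _ rfl
      exact (z_comm_of_orth C hs (C.root _ hr) h0 (C.le _ hr hv) hy).symm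
    · intro v hv
      rw [Subgroup.mem_centralizer_iff]; rintro _ rfl
      exact (z_comm_of_orth C hs (C.root _ hr).neg (by rw [form_neg_left, h0, neg_zero])
        (C.le _ (Cfsg.Agent.Nodes.ClsNorm.neg_mem C hr) hv) hy).symm
  exact (Subgroup.mem_centralizer_iff.1 (h2 hx) _ rfl).symm

/-- **The frame of `SL₂(q)`'s.** -/
theorem frame (hp : p.Prime) (hp2 : Odd p) (hG : GG cs h T X = ⊤) [Fintype F] (hF : Odd (Fintype.card F))
    (Fs : FrameSys cs h R fr) (hno : ∀ x, IsRoot cs h x → ∃ k, form cs h x (fr k) ≠ 0)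
    (hTc : ∀ s ∈ T, ∀ t ∈ T, s * t = t * s)
    (hsep : ∀ k l, k ≠ l → ∃ y, IsRoot cs h y ∧ y ≠ fr k ∧ y ≠ -fr k ∧ form cs h y (fr k) ≠ 0 ∧ form cs h y (fr l) = 0)
    (htr : ∀ r ∈ R, ∀ s ∈ R, ∃ w : W, rep cs h w r = s)
    (hnb : ∀ k, ∃ y ∈ R, y ≠ fr k ∧ y ≠ -fr k ∧ form cs h y (fr k) ≠ 0)
    {E : Set (Equiv.Perm (Fin m))} (hE : PermTwo.Good E)
    (hperm : ∀ σ ∈ E, ∃ w : W, ∀ k, rep cs h w (fr k) = fr (σ k) ∨ rep cs h w (fr k) = -fr (σ k))
    {φ : Fin m → (SL2 F →* Y)} (H : ∀ k, SLAt Z (φ k) (fr k)) : Frame φ E := by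
  have h2 : (2 : F) ≠ 0 := OddHalf.LongSL.two_ne_of_odd hF
  have hsep' : ∀ r ∈ R, ∀ s ∈ R, z r = z s → s = r ∨ s = -r := fun r hr s hs => z_sep C hp2 Fs hsep hr hs
  have hnb' : ∀ k, ∃ y, IsRoot cs h y ∧ y ≠ fr k ∧ y ≠ -fr k ∧ form cs h y (fr k) ≠ 0 := fun k => by
    obtain ⟨y, hy, h3⟩ := hnb k
    exact ⟨y, C.root y hy, h3⟩
  have hz1 : ∀ k, z (fr k) ≠ 1 := fun k => z_ne_one C hp2 (Fs.mem k) (hnb' k)
  have hφ1 : ∀ k, φ k (-1) = z (fr k) := fun k => (H k).neg_one C (Fs.mem k) h2 (hz1 k)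
  have hrg : ∀ k, (φ k).range = KK Z (fr k) := fun k => (H k).range_eq
  have hform : ∀ k l, k ≠ l → form cs h (fr k) (fr l) = 0 := fun k l hkl => by
    rw [← cpr_zero_iff cs h _ (C.root _ (Fs.mem l))]
    exact Fs.orth k l hkl
  have hcomm : ∀ i j, i ≠ j → ∀ x y, φ i x * φ j y = φ j y * φ i x := fun i j hij x y =>
    comm_KK C (Fs.mem i) (Fs.mem j) (hform i j hij) (by rw [← hrg]; exact ⟨x, rfl⟩) (by rw [← hrg]; exact ⟨y, rfl⟩)
  have hnorm : ∀ i g, g * φ i (-1) = φ i (-1) * g → g ∈ Subgroup.normalizer (((φ i).range : Subgroup Y) : Set Y) := by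
    intro i g hg
    rw [hrg]
    rw [hφ1] at hg
    exact norm C hp2 hG hsep' (Fs.mem i) hg
  have hTn : ∀ i, T ≤ Subgroup.normalizer (((φ i).range : Subgroup Y) : Set Y) := by
    intro i t ht
    apply hnorm
    rw [hφ1]
    exact (C.z_T _ (Fs.mem i) t ht).symm
  have hLam : ∀ g ∈ Lam φ, g ∈ T ⊔ ⨆ k, KK Z (fr k) := by
    intro g hg
    rw [mem_Lam] at hg
    refine mem_sup C hp hp2 hG Fs hsep' hno fun k => ?_
    rw [← hφ1]
    exact hg k
  refine ⟨fun k => (H k).inj, hcomm, hnorm, ?_, ?_, ?_, ?_, ?_, hE⟩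
  · intro i j
    obtain ⟨w, hw⟩ := htr _ (Fs.mem i) _ (Fs.mem j)
    obtain ⟨k, hk⟩ := exists_rp cs C.rgd.nsys w
    refine ⟨k, ?_⟩
    rw [hrg, hrg]
    show cj k (KK Z (fr i)) = _
    unfold KK
    rw [cj_sup, conj_Z C hk (Fs.mem i), conj_Z C hk (Cfsg.Agent.Nodes.ClsNorm.neg_mem C (Fs.mem i)), map_neg, hw]
  · intro g hg i
    let S : Subgroup Y :=
      { carrier := {g | g ∈ Subgroup.normalizer (((φ i).range : Subgroup Y) : Set Y) ∧ ∃ m, Acts (φ i) g m}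
        mul_mem' := by
          rintro a b ⟨ha, m, hm⟩ ⟨hb, m', hm'⟩
          exact ⟨mul_mem ha hb, _, hm.mul hm' hb⟩
        one_mem' := by
          refine ⟨one_mem _, 1, ?_⟩
          have h3 := Acts.of_range (H i).inj 1
          rwa [map_one] at h3
        inv_mem' := by
          rintro a ⟨ha, m, hm⟩
          exact ⟨inv_mem ha, _, hm.inv⟩ }
    have hle : T ⊔ ⨆ k, KK Z (fr k) ≤ S := by
      refine sup_le ?_ (iSup_le fun k => ?_)
      · intro t ht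
        obtain ⟨c, hc, h3⟩ := torus_acts C hG Fs hno hTc h2 (H i) ht
        exact ⟨hTn i ht, _, acts_dc (H i).inj hc h3⟩
      · intro x hx
        rw [← hrg] at hx
        obtain ⟨x, rfl⟩ := hx
        by_cases hk : k = i
        · subst hk
          exact ⟨Subgroup.le_normalizer ⟨x, rfl⟩, _, Acts.of_range (H k).inj x⟩
        · refine ⟨centralizer_le_normalizer' _ (Subgroup.mem_centralizer_iff.2 ?_), 1, by simp, fun u v huv => ?_⟩
          · rintro _ ⟨y, rfl⟩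
            exact (hcomm k i hk x y).symm
          · rw [hcomm k i hk] at huv
            have h3 := (H i).inj (mul_right_cancel huv)
            rw [h3, one_mul, mul_one]
    exact (hle (hLam g hg)).2
  · intro g hg b hb
    have hgT : g ∈ T := by
      have h3 : ∀ k, ∀ x ∈ KK Z (fr k), g * x = x * g := by
        intro k x hx
        rw [← hrg] at hx
        obtain ⟨x, rfl⟩ := hx
        exact hg k x
      exact mem_T_of_norm C hG Fs hno
        (fun k => Cfsg.Agent.Nodes.FrameCent.cj_eq_of_comm C fun x hx => h3 k x (le_sup_left (a := Z (fr k)) hx))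
        (fun k => Cfsg.Agent.Nodes.FrameCent.cj_eq_of_comm C fun x hx => h3 k x (le_sup_right (a := Z (fr k)) hx))
    have hle : T ⊔ ⨆ k, KK Z (fr k) ≤ Subgroup.centralizer ({g} : Set Y) := by
      refine sup_le ?_ (iSup_le fun k => ?_)
      · intro t ht
        rw [Subgroup.mem_centralizer_iff]; rintro _ rfl
        exact hTc _ hgT t ht
      · intro x hx
        rw [← hrg] at hx
        obtain ⟨x, rfl⟩ := hx
        rw [Subgroup.mem_centralizer_iff]; rintro _ rfl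
        exact hg k x
    exact Subgroup.mem_centralizer_iff.1 (hle (hLam b hb)) g rfl
  · intro i
    obtain ⟨s, hs, hs1, hs2, hs3⟩ := hnb i
    obtain ⟨w, hw⟩ := htr _ (Fs.mem i) _ hs
    obtain ⟨k, hk⟩ := exists_rp cs C.rgd.nsys w
    obtain ⟨a, ζ, hζ, hmax⟩ := exists_max_root (F := F) h2
    have hζ0 : ζ ≠ 0 := by
      rintro rfl
      rw [zero_pow (by positivity)] at hζ
      exact neg_ne_zero.2 one_ne_zero hζ.symm
    set t := k * φ i (dg ζ hζ0) * k⁻¹ with ht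
    have htT : t ∈ T := (Subgroup.mem_normalizer_iff.1 hk.mem_normalizer _).1 (dg_mem_T C hG Fs hno (H i) ζ hζ0)
    have htp : t ^ 2 ^ a = z s := by
      have h3 : t ^ 2 ^ a = k * (φ i (dg ζ hζ0)) ^ 2 ^ a * k⁻¹ := by
        rw [ht]; exact conj_pow
      rw [h3, ← map_pow, dg_pow]
      have h4 : dg (ζ ^ 2 ^ a) (pow_ne_zero _ hζ0) = (-1 : SL2 F) := by
        rw [neg_one_eq_dg]
        congr 1
      rw [h4, hφ1, conj_z C hk (Fs.mem i), hw]
    obtain ⟨c, hc, h3⟩ := torus_acts C hG Fs hno hTc h2 (H i) htT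
    refine ⟨t, ?_, _, acts_dc (H i).inj hc h3, ?_⟩
    · rw [mem_Lam]
      intro j
      rw [hφ1]
      exact (C.z_T _ (Fs.mem j) t htT).symm
    · have hpow : ∀ N : ℕ, t ^ N * φ i (up 1) * (t ^ N)⁻¹ = φ i (up (c ^ N)) := by
        intro N
        induction N with
        | zero => simp
        | succ N ih =>
          calc t ^ (N + 1) * φ i (up 1) * (t ^ (N + 1))⁻¹ = t * (t ^ N * φ i (up 1) * (t ^ N)⁻¹) * t⁻¹ := by
                rw [pow_succ']; group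
            _ = φ i (up (c ^ (N + 1))) := by rw [ih, h3, dc_up, pow_succ']
      have h4 := hpow (2 ^ a)
      rw [htp] at h4
      have h5 := C.z_inv s hs (fr i) (C.root _ (Fs.mem i)) hs1.symm (fun h6 => hs2 (by rw [h6, neg_neg]))
        (by rw [form_comm]; exact hs3) _ (C.le _ (Fs.mem i) ((H i).up_mem 1))
      rw [inv_eq_of_mul_eq_one_right (C.z_sq s hs), h5, ← map_inv, up_inv] at h4
      have h6 : c ^ 2 ^ a = -1 := (up_inj ((H i).inj h4)).symm
      have h7 : (!![c, 0; 0, 1] : Matrix (Fin 2) (Fin 2) F).det = c := by simp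
      rw [h7]
      exact not_isSquare_of hmax h6
  · intro σ hσ
    obtain ⟨w, hw⟩ := hperm σ hσ
    obtain ⟨k, hk⟩ := exists_rp cs C.rgd.nsys w
    refine ⟨k, fun i => ?_⟩
    rw [hrg, hrg]
    show cj k (KK Z (fr i)) = _
    have h3 : cj k (KK Z (fr i)) = KK Z (rep cs h w (fr i)) := by
      unfold KK
      rw [cj_sup, conj_Z C hk (Fs.mem i), conj_Z C hk (Cfsg.Agent.Nodes.ClsNorm.neg_mem C (Fs.mem i)), map_neg]
    rw [h3]
    rcases hw i with h4 | h4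
    · rw [h4]
    · rw [h4, KK_neg]

/-- **`OddRow` from classical root groups.** -/
theorem oddRow_of_cls [Finite Y] (hp : p.Prime) (hp2 : Odd p) (hG : GG cs h T X = ⊤) [Fintype F]
    (hF : Odd (Fintype.card F))
    (Fs : FrameSys cs h R fr) (hno : ∀ x, IsRoot cs h x → ∃ k, form cs h x (fr k) ≠ 0)
    (hTc : ∀ s ∈ T, ∀ t ∈ T, s * t = t * s)
    (hsep : ∀ k l, k ≠ l → ∃ y, IsRoot cs h y ∧ y ≠ fr k ∧ y ≠ -fr k ∧ form cs h y (fr k) ≠ 0 ∧ form cs h y (fr l) = 0)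
    (htr : ∀ r ∈ R, ∀ s ∈ R, ∃ w : W, rep cs h w r = s)
    (hnb : ∀ k, ∃ y ∈ R, y ≠ fr k ∧ y ≠ -fr k ∧ form cs h y (fr k) ≠ 0)
    {E : Set (Equiv.Perm (Fin m))} (hE : PermTwo.Good E)
    (hperm : ∀ σ ∈ E, ∃ w : W, ∀ k, rep cs h w (fr k) = fr (σ k) ∨ rep cs h w (fr k) = -fr (σ k))
    (i₀ : Fin m) {r₀ : I → ℤ} (hr₀ : r₀ ∈ R) {φ : SL2 F →* Y} (H : SLAt Z φ r₀) : H747.OddRow Y := by
  have h1 : ∀ k, ∃ φ : SL2 F →* Y, SLAt Z φ (fr k) := by
    intro k
    obtain ⟨w, hw⟩ := htr _ hr₀ _ (Fs.mem k)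
    obtain ⟨g, hg⟩ := exists_rp cs C.rgd.nsys w
    have h2 := H.conj C hr₀ hg
    rw [hw] at h2
    exact ⟨_, h2⟩
  choose ψ hψ using h1
  exact (frame C hp hp2 hG hF Fs hno hTc hsep htr hnb hE hperm hψ).oddRow hF i₀

end SL

end Cfsg.Agent.H745.RowCls
end

-- part: H745/RowE
section
/-!
# S5161: the rows `E₆(q)`, `E₇(q)`, `q` odd (helper745)
-/

set_option autoImplicit false
set_option linter.unusedSectionVars false
set_option linter.style.haveILetI false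

namespace Cfsg.Agent.H745.RowE

open Subgroup CoxeterSystem Cfsg.Agent.ChevalleyStructure.CoxeterGeom Cfsg.Agent.Tits.Roots Cfsg.Agent.Tits.Core
  Cfsg.Agent.Nodes.Comb Cfsg.Agent.Nodes.Reps Cfsg.Agent.Nodes.BNOf Cfsg.Agent.Nodes.RGDLib Cfsg.Agent.Nodes.Chart
  Cfsg.Agent.Nodes.Coroot Cfsg.Agent.Nodes.ClsInv
  Cfsg.Agent.Nodes.KindBase Cfsg.Agent.Nodes.KindChev
open Cfsg.Lie Cfsg.Agent.ChevalleyStructure Cfsg.Agent.ChevalleyStructure.Elts
  Cfsg.Agent.ChevalleyStructure.NPerm Cfsg.Agent.ChevalleyStructure.CoxeterGeomTypes Cfsg.Agent.Nodes.RGDChev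
  Cfsg.Agent.KFacts.RgdChevCoord

universe u

section General

variable {D : ChevalleyDatum} {l : ℕ} {M : CoxeterMatrix (Fin l)} (hp : IsType D l M) {K : Type u} [Field K]
  {p : ℕ} [Fact p.Prime] [CharP K p]

open Cfsg.Agent.Nodes.RGDFold Cfsg.Agent.Nodes.RGDFoldSL
open Cfsg.Agent.Nodes.Bruhat Cfsg.Agent.H745.RowCls Cfsg.Agent.H132

include hp in
/-- The rank one group of a simple root. -/
theorem exists_slAt [Finite K] (hp2 : p ≠ 2) (i : Fin l) {s : ℕ} (hs : s < D.nroots) (hca : D.cartan i s = 1) :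
    ∃ φ : Matrix.SpecialLinearGroup (Fin 2) K →* ↥(D.group K), SLAt (XX D l K) φ (sr i) := by
  have := Fintype.ofFinite K
  have hi : D.simple i < D.nroots := simple_lt hp.inList (lt_rank hp i)
  have hle : XV D l K (sr i) ≤ D.group K := XV_le_group hp _
  have hle' : XV D l K (-sr i) ≤ D.group K := XV_le_group hp _
  have hmem : ∀ g : Matrix.SpecialLinearGroup (Fin 2) K, psi hp.inList K (D.simple i) g ∈ XV D l K (sr i) ⊔ XV D l K (-sr i) := by
    intro g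
    rw [XV_sr hp, XV_neg_sr hp]
    exact psi_mem hp.inList hi g
  let φ : Matrix.SpecialLinearGroup (Fin 2) K →* ↥(D.group K) :=
    (psi hp.inList K (D.simple i)).codRestrict (D.group K) (fun g => (sup_le hle hle') (hmem g))
  have hφ : ∀ g, ((φ g : ↥(D.group K)) : GL D.Idx K) = psi hp.inList K (D.simple i) g := fun _ => rfl
  have hup : ∀ a, φ (SL2Hom.up a) = xc hp (vec D l (D.simple i)) a := fun a => Subtype.ext (by
    rw [hφ, psi_up hp.inList hi, coe_xc hp hi])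
  have hlo : ∀ a, φ (SL2Hom.lo a) = xc hp (vec D l (D.neg (D.simple i))) a := fun a => Subtype.ext (by
    rw [hφ, psi_lo hp.inList hi, coe_xc hp (neg_lt hp.inList hi)])
  have h1 : (-1 : K) ≠ 0 := neg_ne_zero.2 one_ne_zero
  have hneg : (hS (-1 : K)) = (-1 : Matrix.SpecialLinearGroup (Fin 2) K) := by
    apply Subtype.ext
    rw [coe_hS h1]
    ext a b
    (revert a b; simp only [_root_.Fin.forall_fin_succ, _root_.inv_neg, _root_.inv_one, _root_.Matrix.of_apply, _root_.Matrix.cons_val', _root_.Matrix.cons_val_fin_one, _root_.Matrix.SpecialLinearGroup.coe_neg, _root_.Matrix.SpecialLinearGroup.coe_one, _root_.Matrix.neg_apply, Fin.isValue, _root_.Matrix.cons_val_zero, _root_.Matrix.cons_val_succ, _root_.IsEmpty.forall_iff, _root_.and_true, _root_.Matrix.one_apply_eq, Nat.reduceAdd, _root_.Fin.succ_zero_eq_one, _root_.ne_eq, _root_.zero_ne_one, _root_.not_false_eq_true, _root_.Matrix.one_apply_ne, _root_.neg_zero,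 _root_.and_self, _root_.Fin.succ_ne_zero, _root_.neg_inj, _root_.true_and])
  have hφ1 : φ (-1) = hc hp i (-1) := by
    apply Subtype.ext
    rw [hφ, ← hneg, psi_hS hp.inList hi]
    rfl
  have hne : φ (-1) ≠ 1 := by
    rw [hφ1]
    intro h2
    have h3 := (act hp hs (hc_mem hp i h1)).2 1
    rw [ch_hc hp i h1 hs, h2, hca] at h3
    rw [one_mul, inv_one, mul_one, zpow_one, neg_one_mul] at h3
    have h4 := xc_inj hp hs h3
    have h5 : ((2 : ℕ) : K) = 0 := by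
      push_cast
      linear_combination h4
    rw [CharP.cast_eq_zero_iff K p] at h5
    exact hp2 ((Nat.prime_dvd_prime_iff_eq Fact.out Nat.prime_two).1 h5)
  refine ⟨φ, inj_of_neg_one (odd_card_of p hp2) φ hne, fun a => ?_, fun u hu => ?_, fun a => ?_, fun u hu => ?_⟩
  · show φ (SL2Hom.up a) ∈ _
    rw [hup, ← vec_simple hp i]
    exact (Cfsg.Agent.Nodes.ChevCls.mem_XX hp hi _).2 ⟨a, rfl⟩
  · rw [← vec_simple hp i] at hu
    obtain ⟨a, rfl⟩ := (Cfsg.Agent.Nodes.ChevCls.mem_XX hp hi u).1 hu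
    exact ⟨a, hup a⟩
  · show φ (SL2Hom.lo a) ∈ _
    rw [hlo, ← vec_simple hp i, ← vec_neg hp hi]
    exact (Cfsg.Agent.Nodes.ChevCls.mem_XX hp (neg_lt hp.inList hi) _).2 ⟨a, rfl⟩
  · rw [← vec_simple hp i, ← vec_neg hp hi] at hu
    obtain ⟨a, rfl⟩ := (Cfsg.Agent.Nodes.ChevCls.mem_XX hp (neg_lt hp.inList hi) u).1 hu
    exact ⟨a, hlo a⟩

variable {f : ℕ} {N : ℤ} {d : Fin l → ℤ} {fr cf : Fin f → Fin l → ℤ} {idx : Fin f → ℕ}

include hp in
/-- the torus is abelian -/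
theorem torus_comm {W : Type*} [Group W] [Finite W] (cs : CoxeterSystem M W) (hZ : Subgroup.center ↥(D.group K) = ⊥) :
    ∀ s ∈ TT D K, ∀ t ∈ TT D K, s * t = t * s := by
  intro s hs t ht
  have h1 : s * t * (t * s)⁻¹ = 1 := by
    refine Cfsg.Agent.Nodes.ChevCls.eq_one_of_cent hp cs hZ _ fun y hy a ha => ?_
    obtain ⟨r, hr, rfl⟩ := (isRoot_iff hp cs y).1 hy
    obtain ⟨u, rfl⟩ := (Cfsg.Agent.Nodes.ChevCls.mem_XX hp hr a).1 ha
    have e1 := act hp hr hs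
    have e2 := act hp hr ht
    set c := ch hp (vec D l r) s
    set c' := ch hp (vec D l r) t
    have key : (s * t) * xc hp (vec D l r) ((c' * c)⁻¹ * u) * (s * t)⁻¹ = xc hp (vec D l r) u := by
      calc (s * t) * xc hp (vec D l r) ((c' * c)⁻¹ * u) * (s * t)⁻¹
          = s * (t * xc hp (vec D l r) ((c' * c)⁻¹ * u) * t⁻¹) * s⁻¹ := by group
        _ = xc hp (vec D l r) u := by
          rw [e2.2, e1.2]
          congr 1
          have := e1.1
          have := e2.1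
          field_simp
    have key' : (t * s) * xc hp (vec D l r) ((c' * c)⁻¹ * u) * (t * s)⁻¹ = xc hp (vec D l r) u := by
      calc (t * s) * xc hp (vec D l r) ((c' * c)⁻¹ * u) * (t * s)⁻¹
          = t * (s * xc hp (vec D l r) ((c' * c)⁻¹ * u) * s⁻¹) * t⁻¹ := by group
        _ = xc hp (vec D l r) u := by
          rw [e1.2, e2.2]
          congr 1
          have := e1.1
          have := e2.1
          field_simp
    have e3 : (t * s)⁻¹ * xc hp (vec D l r) u * (t * s) = xc hp (vec D l r) ((c' * c)⁻¹ * u) := by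
      rw [← key']; group
    calc s * t * (t * s)⁻¹ * xc hp (vec D l r) u * (s * t * (t * s)⁻¹)⁻¹
        = (s * t) * ((t * s)⁻¹ * xc hp (vec D l r) u * (t * s)) * (s * t)⁻¹ := by group
      _ = xc hp (vec D l r) u := by rw [e3, key]
  exact mul_inv_eq_one.1 h1

include hp in
/-- **General theorem for the Chevalley groups with a frame of roots of length `N`.** -/
theorem oddRow_chev [Finite K] (hp2 : p ≠ 2) (T : KD D l f N d fr cf idx) (k₀ : Fin f) (hd : ∀ i, 0 < d i ∧ 2 * d i ≤ N)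
    (hL : ∀ s < D.nroots, (∀ i, vec D l s i = fr k₀ i) ∨ (∀ i, vec D l s i = -fr k₀ i) ∨
      |∑ i, vec D l s i * cf k₀ i| ≤ 1)
    (hL' : ∀ s < D.nroots, ∀ k, (∀ i, vec D l s i = fr k i) ∨ (∀ i, vec D l s i = -fr k i) ∨
      |∑ i, vec D l s i * cf k i| ≤ 1)
    (hZ : Subgroup.center ↥(D.group K) = ⊥) (i : Fin l) (hi : 2 * d i = N) {s : ℕ} (hs : s < D.nroots)
    (hca : D.cartan i s = 1)
    (hno : ∀ r < D.nroots, ∃ k, ∑ i, vec D l r i * cf k i ≠ 0)
    {E : Set (Equiv.Perm (Fin f))} (hE : PermTwo.Good E)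
    (hperm : ∀ σ ∈ E, ∃ r < D.nroots, ∃ r' < D.nroots, qf (cartanOf D l) d (vec D l r) (vec D l r) = N ∧
      qf (cartanOf D l) d (vec D l r') (vec D l r') = N ∧ qf (cartanOf D l) d (vec D l r') (vec D l r) = 0 ∧
      ∀ k j, fr k j - (∑ i, vec D l r i * cf k i) * vec D l r j - (∑ i, vec D l r' i * cf k i) * vec D l r' j =
        fr (σ k) j) : H747.OddRow ↥(D.group K) := by
  have := Fintype.ofFinite K
  let _ := Cfsg.Agent.Nodes.ChevChart.fintypeW hp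
  have C := Cfsg.Agent.Nodes.ChevCls.cls (K := K) hp M.toCoxeterSystem p T k₀ hd hL hZ
  have hG : GG M.toCoxeterSystem hp.isCartan (TT D K) (XX D l K) = ⊤ := by
    rw [eq_top_iff, ← _root_.Cfsg.Agent.Nodes.RGDChev.G1_eq_top hp M.toCoxeterSystem]
    exact le_sup_right
  have hiR : sr i ∈ RN M.toCoxeterSystem (h := hp.isCartan) N d := by
    refine ⟨isRoot_sr _ _ i, ?_⟩
    have h1 := qf_root M.toCoxeterSystem hp.isCartan T.hd 1 i
    rw [map_one, Module.End.one_apply] at h1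
    rw [h1, hi]
  obtain ⟨φ, hφ⟩ := exists_slAt hp (K := K) (p := p) hp2 i hs hca
  have Fs := T.frameSys (cs := M.toCoxeterSystem) (h := hp.isCartan) hp
  have hcpr : ∀ (x : Fin l → ℤ) (k : Fin f), cpr M.toCoxeterSystem hp.isCartan x (fr k) = ∑ i, x i * cf k i :=
    fun x k => T.cpr hp x k
  have hfz : ∀ (x : Fin l → ℤ) (k : Fin f), form M.toCoxeterSystem hp.isCartan x (fr k) ≠ 0 ↔ ∑ i, x i * cf k i ≠ 0 := by
    intro x k
    rw [← hcpr, Ne, Ne, cpr_zero_iff _ _ _ (T.isRoot hp k)]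
  refine oddRow_of_cls C Fact.out ((Fact.out : p.Prime).odd_of_ne_two hp2) hG (odd_card_of p hp2) Fs ?_
    (torus_comm hp M.toCoxeterSystem hZ) ?_ (fun r hr s hs => T.trans (cs := M.toCoxeterSystem) (h := hp.isCartan) hp hr hs) ?_ hE ?_
    k₀ hiR hφ
  · intro x hx
    obtain ⟨r, hr, rfl⟩ := (isRoot_iff hp _ x).1 hx
    obtain ⟨k, hk⟩ := hno r hr
    exact ⟨k, (hfz _ k).2 hk⟩
  · intro k m hkm
    obtain ⟨r, hr, h1, h2⟩ := T.sep k m hkm
    have hne : ∀ j, (∑ i, vec D l r i * cf j i) % 2 = 1 → vec D l r ≠ fr j ∧ vec D l r ≠ -fr j := by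
      intro j hj
      rw [← hcpr] at hj
      constructor
      · intro h3
        rw [h3, cpr_self _ _ (T.isRoot hp j)] at hj
        omega
      · intro h3
        rw [h3, cpr_neg _ _ _ (T.isRoot hp j), cpr_self _ _ (T.isRoot hp j)] at hj
        omega
    refine ⟨vec D l r, isRoot_vec hp _ hr, (hne k h1).1, (hne k h1).2, (hfz _ k).2 (by omega), ?_⟩
    rw [← cpr_zero_iff _ _ _ (T.isRoot hp m), hcpr]
    rcases hL' r hr m with h3 | h3 | h3
    · exfalso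
      have h4 : vec D l r = fr m := funext h3
      rw [h4, ← hcpr, Fs.orth m k (Ne.symm hkm)] at h1
      omega
    · exfalso
      have h4 : vec D l r = -fr m := funext h3
      rw [h4, ← hcpr, cpr_neg _ _ _ (T.isRoot hp k), Fs.orth m k (Ne.symm hkm)] at h1
      omega
    · rw [abs_le] at h3
      omega
  · intro k
    obtain ⟨r, hr, h1, h2, -⟩ := T.link k k
    refine ⟨vec D l r, ⟨isRoot_vec hp _ hr, h1⟩, ?_, ?_, (hfz _ k).2 (fun h3 => by rw [h3] at h2; omega)⟩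
    · intro h3
      rw [← hcpr, h3, cpr_self _ _ (T.isRoot hp k)] at h2
      omega
    · intro h3
      rw [← hcpr, h3, cpr_neg _ _ _ (T.isRoot hp k), cpr_self _ _ (T.isRoot hp k)] at h2
      omega
  · intro σ hσ
    obtain ⟨r, hr, r', hr', hN, hN', h0, htab⟩ := hperm σ hσ
    have hb := isRoot_vec hp M.toCoxeterSystem hr
    have hb' := isRoot_vec hp M.toCoxeterSystem hr'
    obtain ⟨s, hs⟩ := Cfsg.Agent.Nodes.KindBase.exists_refl M.toCoxeterSystem hp.isCartan hb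
    obtain ⟨s', hs'⟩ := Cfsg.Agent.Nodes.KindBase.exists_refl M.toCoxeterSystem hp.isCartan hb'
    have hc : ∀ {r : ℕ} (hr : r < D.nroots) (hN : qf (cartanOf D l) d (vec D l r) (vec D l r) = N) (k : Fin f),
        cpr M.toCoxeterSystem hp.isCartan (fr k) (vec D l r) = ∑ i, vec D l r i * cf k i := by
      intro r hr hN k
      rw [← hcpr]
      exact cpr_comm_of_qf M.toCoxeterSystem hp.isCartan T.hd (T.isRoot hp k) (isRoot_vec hp _ hr)
        (by rw [T.norm, hN]) (by rw [hN]; exact T.hN)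
    have h00 : cpr M.toCoxeterSystem hp.isCartan (vec D l r') (vec D l r) = 0 := by
      apply mul_right_cancel₀ (b := N) T.hN
      have := cpr_mul_qf M.toCoxeterSystem hp.isCartan T.hd (vec D l r') hb
      rw [hN, h0] at this
      rw [this]; ring
    refine ⟨s * s', fun k => Or.inl ?_⟩
    rw [rep_mul_apply, hs', hs, cpr_sub _ _ _ _ hb, cpr_smul _ _ _ _ hb, h00, hc hr hN, hc hr' hN', mul_zero, sub_zero]
    funext j
    rw [← htab k j]
    simp only [Pi.sub_apply, Pi.smul_apply, smul_eq_mul]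
    ring

end General

section Types

variable {K : Type u} [Field K] [Finite K] {p : ℕ} [Fact p.Prime] [CharP K p]

open Cfsg.Agent.Nodes Cfsg.Agent.Nodes.ChevChart Cfsg.Agent.Cit.TypeDet.KindsEF

private noncomputable def _root_.Cfsg.Agent.LsF.f0a17e9_20 : {f // @Cfsg.Agent.Nodes.RGDChev.vec = f} := ⟨_, by first | (delta Cfsg.Agent.Nodes.RGDChev.vec; rewrite [Cfsg.Agent.LsF.f0a17e9_4.2]; exact rfl) | exact rfl⟩
private noncomputable def _root_.Cfsg.Agent.LsF.f0a17e9_21 : {f // @Cfsg.Agent.Nodes.KindE.fr6 = f} := ⟨_, by first | (delta Cfsg.Agent.Nodes.KindE.fr6; rewrite [Cfsg.Agent.LsF.vecCons_eq]; exact rfl) | exact rfl⟩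
private noncomputable def _root_.Cfsg.Agent.LsF.f0a17e9_22 : {f // @Cfsg.Agent.Nodes.KindE.cf6 = f} := ⟨_, by first | (delta Cfsg.Agent.Nodes.KindE.cf6; rewrite [Cfsg.Agent.LsF.ineg_pat, Cfsg.Agent.LsF.vecCons_eq]; exact rfl) | exact rfl⟩
set_option backward.isDefEq.respectTransparency false in
theorem all6 : ∀ s < chevE6.nroots, ∀ k, (∀ i, vec chevE6 6 s i = KindE.fr6 k i) ∨
    (∀ i, vec chevE6 6 s i = -KindE.fr6 k i) ∨ |∑ i, vec chevE6 6 s i * KindE.cf6 k i| ≤ 1 := by (refine of_decide_eq_true ?_; (try (rewrite [Cfsg.Agent.LsF.sumF_pat, Cfsg.Agent.LsF.f0a17e9_20.2, Cfsg.Agent.LsF.f0a17e9_21.2, Cfsg.Agent.LsF.f0a17e9_22.2, Cfsg.Agent.LsF.iadd_pat, Cfsg.Agent.LsF.imul_pat, Cfsg.Agent.LsF.ineg_pat, Cfsg.Agent.LsF.iACM_eq, Cfsg.Agent.LsF.instIDecEq_eq, Cfsg.Agent.LsF.idecLe_eq, Cfsg.Agent.LsF.dOr_eq, Cfsg.Agent.LsF.dBallLT_eq, Cfsg.Agent.LsF.dForallFin_eq, Cfsg.Agent.LsF.decide_eq])); decide +kernel)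

set_option backward.isDefEq.respectTransparency false in
theorem no6 : ∀ r < chevE6.nroots, ∃ k, ∑ i, vec chevE6 6 r i * KindE.cf6 k i ≠ 0 := by decide +kernel

set_option backward.isDefEq.respectTransparency false in
theorem tab6 : ∀ k j, KindE.fr6 k j - (∑ i, vec chevE6 6 37 i * KindE.cf6 k i) * vec chevE6 6 37 j -
    (∑ i, vec chevE6 6 42 i * KindE.cf6 k i) * vec chevE6 6 42 j = KindE.fr6 (Equiv.swap 2 3 k) j := by decide +kernel

set_option backward.isDefEq.respectTransparency false in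
theorem oddRow_chevE6 (h2 : p ≠ 2) : H747.OddRow ↥(chevE6.group K) :=
  oddRow_chev (p := p) KindE.isType6 h2 KindE.kd6 0 (fun _ => ⟨by norm_num, by norm_num⟩) long6 all6
    (center_of_mem (by simp)) 0 (by decide) (s := 16) (by decide +kernel) (by decide +kernel) no6 PermTwo.good_four (by
      rintro σ hσ
      rw [Set.mem_singleton_iff] at hσ
      subst hσ
      exact ⟨37, by decide +kernel, 42, by decide +kernel, by decide +kernel, by decide +kernel, by decide +kernel, tab6⟩)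

private noncomputable def _root_.Cfsg.Agent.LsF.f0a17e9_23 : {f // @Cfsg.Agent.Nodes.KindE.fr7 = f} := ⟨_, by first | (delta Cfsg.Agent.Nodes.KindE.fr7; rewrite [Cfsg.Agent.LsF.vecCons_eq]; exact rfl) | exact rfl⟩
private noncomputable def _root_.Cfsg.Agent.LsF.f0a17e9_24 : {f // @Cfsg.Agent.Nodes.KindE.cf7 = f} := ⟨_, by first | (delta Cfsg.Agent.Nodes.KindE.cf7; rewrite [Cfsg.Agent.LsF.ineg_pat, Cfsg.Agent.LsF.vecCons_eq]; exact rfl) | exact rfl⟩
set_option backward.isDefEq.respectTransparency false in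
theorem all7 : ∀ s < chevE7.nroots, ∀ k, (∀ i, vec chevE7 7 s i = KindE.fr7 k i) ∨
    (∀ i, vec chevE7 7 s i = -KindE.fr7 k i) ∨ |∑ i, vec chevE7 7 s i * KindE.cf7 k i| ≤ 1 := by (refine of_decide_eq_true ?_; (try (rewrite [Cfsg.Agent.LsF.sumF_pat, Cfsg.Agent.LsF.f0a17e9_20.2, Cfsg.Agent.LsF.f0a17e9_23.2, Cfsg.Agent.LsF.f0a17e9_24.2, Cfsg.Agent.LsF.iadd_pat, Cfsg.Agent.LsF.imul_pat, Cfsg.Agent.LsF.ineg_pat, Cfsg.Agent.LsF.iACM_eq, Cfsg.Agent.LsF.instIDecEq_eq, Cfsg.Agent.LsF.idecLe_eq, Cfsg.Agent.LsF.dOr_eq, Cfsg.Agent.LsF.dBallLT_eq, Cfsg.Agent.LsF.dForallFin_eq, Cfsg.Agent.LsF.decide_eq])); decide +kernel)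

set_option backward.isDefEq.respectTransparency false in
theorem no7 : ∀ r < chevE7.nroots, ∃ k, ∑ i, vec chevE7 7 r i * KindE.cf7 k i ≠ 0 := by (refine of_decide_eq_true ?_; (try (rewrite [Cfsg.Agent.LsF.sumF_pat, Cfsg.Agent.LsF.f0a17e9_20.2, Cfsg.Agent.LsF.f0a17e9_24.2, Cfsg.Agent.LsF.iadd_pat, Cfsg.Agent.LsF.imul_pat, Cfsg.Agent.LsF.iACM_eq, Cfsg.Agent.LsF.instIDecEq_eq, Cfsg.Agent.LsF.dNot_eq, Cfsg.Agent.LsF.dBallLT_eq, Cfsg.Agent.LsF.dExistsFin_eq, Cfsg.Agent.LsF.decide_eq])); decide +kernel)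

set_option backward.isDefEq.respectTransparency false in
theorem tab7a : ∀ k j, KindE.fr7 k j - (∑ i, vec chevE7 7 101 i * KindE.cf7 k i) * vec chevE7 7 101 j -
    (∑ i, vec chevE7 7 115 i * KindE.cf7 k i) * vec chevE7 7 115 j = KindE.fr7 (PermTwo.a7 k) j := by decide +kernel

set_option backward.isDefEq.respectTransparency false in
theorem tab7b : ∀ k j, KindE.fr7 k j - (∑ i, vec chevE7 7 70 i * KindE.cf7 k i) * vec chevE7 7 70 j -
    (∑ i, vec chevE7 7 79 i * KindE.cf7 k i) * vec chevE7 7 79 j = KindE.fr7 (PermTwo.b7 k) j := by decide +kernel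

set_option backward.isDefEq.respectTransparency false in
theorem oddRow_chevE7 (h2 : p ≠ 2) : H747.OddRow ↥(chevE7.group K) :=
  oddRow_chev (p := p) KindE.isType7 h2 KindE.kd7 0 (fun _ => ⟨by norm_num, by norm_num⟩) long7 all7
    (center_of_mem (by simp)) 0 (by decide) (s := 1) (by decide +kernel) (by decide +kernel) no7 PermTwo.good_seven (by
      rintro σ (rfl | rfl)
      · exact ⟨101, by decide +kernel, 115, by decide +kernel, by (refine of_decide_eq_true ?_; (try (delta Cfsg.Agent.ChevalleyStructure.CoxeterGeom.pairing Cfsg.Agent.Nodes.KindChev.qf; rewrite [Cfsg.Agent.LsF.sumF_pat, Cfsg.Agent.LsF.f0a17e9_10.2, Cfsg.Agent.LsF.f0a17e9_20.2, Cfsg.Agent.LsF.iadd_pat, Cfsg.Agent.LsF.imul_pat, Cfsg.Agent.LsF.iACM_eq, Cfsg.Agent.LsF.instIDecEq_eq, Cfsg.Agent.LsF.decide_eq])); decide +kernel), by (refine of_decide_eq_true ?_; (try (delta Cfsg.Agent.ChevalleyStructure.CoxeterGeom.pairing Cfsg.Agent.Nodes.KindChev.qf;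 rewrite [Cfsg.Agent.LsF.sumF_pat, Cfsg.Agent.LsF.f0a17e9_10.2, Cfsg.Agent.LsF.f0a17e9_20.2, Cfsg.Agent.LsF.iadd_pat, Cfsg.Agent.LsF.imul_pat, Cfsg.Agent.LsF.iACM_eq, Cfsg.Agent.LsF.instIDecEq_eq, Cfsg.Agent.LsF.decide_eq])); decide +kernel), by (refine of_decide_eq_true ?_; (try (delta Cfsg.Agent.ChevalleyStructure.CoxeterGeom.pairing Cfsg.Agent.Nodes.KindChev.qf; rewrite [Cfsg.Agent.LsF.sumF_pat, Cfsg.Agent.LsF.f0a17e9_10.2, Cfsg.Agent.LsF.f0a17e9_20.2, Cfsg.Agent.LsF.iadd_pat, Cfsg.Agent.LsF.imul_pat, Cfsg.Agent.LsF.iACM_eq, Cfsg.Agent.LsF.instIDecEq_eq, Cfsg.Agent.LsF.decide_eq])); decide +kernel), tab7a⟩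
      · exact ⟨70, by decide +kernel, 79, by decide +kernel, by (refine of_decide_eq_true ?_; (try (delta Cfsg.Agent.ChevalleyStructure.CoxeterGeom.pairing Cfsg.Agent.Nodes.KindChev.qf; rewrite [Cfsg.Agent.LsF.sumF_pat, Cfsg.Agent.LsF.f0a17e9_10.2, Cfsg.Agent.LsF.f0a17e9_20.2, Cfsg.Agent.LsF.iadd_pat, Cfsg.Agent.LsF.imul_pat, Cfsg.Agent.LsF.iACM_eq, Cfsg.Agent.LsF.instIDecEq_eq, Cfsg.Agent.LsF.decide_eq])); decide +kernel), by (refine of_decide_eq_true ?_; (try (delta Cfsg.Agent.ChevalleyStructure.CoxeterGeom.pairing Cfsg.Agent.Nodes.KindChev.qf; rewrite [Cfsg.Agent.LsF.sumF_pat, Cfsg.Agent.LsF.f0a17e9_10.2, Cfsg.Agent.LsF.f0a17e9_20.2, Cfsg.Agent.LsF.iadd_pat, Cfsg.Agent.LsF.imul_pat, Cfsg.Agent.LsF.iACM_eq, Cfsg.Agent.LsF.instIDecEq_eq, Cfsg.Agent.LsF.decide_eq])); decide +kernel), by (refine of_decide_eq_true ?_; (try (delta Cfsg.Agent.ChevalleyStructure.CoxeterGeom.pairing Cfsg.Agent.Nodes.KindChev.qf;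 rewrite [Cfsg.Agent.LsF.sumF_pat, Cfsg.Agent.LsF.f0a17e9_10.2, Cfsg.Agent.LsF.f0a17e9_20.2, Cfsg.Agent.LsF.iadd_pat, Cfsg.Agent.LsF.imul_pat, Cfsg.Agent.LsF.iACM_eq, Cfsg.Agent.LsF.instIDecEq_eq, Cfsg.Agent.LsF.decide_eq])); decide +kernel), tab7b⟩)

end Types

/-- **The row `E₆(q)`, `q` odd.** -/
theorem row_E6 {F : Type u} [Field F] [Fintype F] (hodd : Odd (Fintype.card F)) : H747.RowTwo ↥(chevE6.group F) := by
  obtain ⟨p, hp⟩ := CharP.exists F
  have hpr : p.Prime := CharP.char_is_prime F p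
  haveI : Fact p.Prime := ⟨hpr⟩
  refine Or.inl (oddRow_chevE6 (p := p) ?_)
  rintro rfl
  obtain ⟨n, -, hn⟩ := FiniteField.card F 2
  rw [hn, ← Nat.not_even_iff_odd] at hodd
  exact hodd (Nat.even_pow.2 ⟨even_two, n.pos.ne'⟩)

/-- **The row `E₇(q)`, `q` odd.** -/
theorem row_E7 {F : Type u} [Field F] [Fintype F] (hodd : Odd (Fintype.card F)) : H747.RowTwo ↥(chevE7.group F) := by
  obtain ⟨p, hp⟩ := CharP.exists F
  have hpr : p.Prime := CharP.char_is_prime F p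
  haveI : Fact p.Prime := ⟨hpr⟩
  refine Or.inl (oddRow_chevE7 (p := p) ?_)
  rintro rfl
  obtain ⟨n, -, hn⟩ := FiniteField.card F 2
  rw [hn, ← Nat.not_even_iff_odd] at hodd
  exact hodd (Nat.even_pow.2 ⟨even_two, n.pos.ne'⟩)

end Cfsg.Agent.H745.RowE
end

-- part: H745/RowTwE
section
/-!
# S5161: the row `²E₆(q)`, `q` odd (helper745)
-/

set_option autoImplicit false
set_option linter.unusedSectionVars false
set_option linter.style.haveILetI false

namespace Cfsg.Agent.H745.RowTwE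

open Subgroup CoxeterSystem Cfsg.Agent.ChevalleyStructure.CoxeterGeom Cfsg.Agent.Tits.Roots Cfsg.Agent.Tits.Core
  Cfsg.Agent.Nodes.Comb Cfsg.Agent.Nodes.Reps Cfsg.Agent.Nodes.BNOf Cfsg.Agent.Nodes.RGDLib Cfsg.Agent.Nodes.Chart
  Cfsg.Agent.Nodes.Coroot Cfsg.Agent.Nodes.ClsInv Cfsg.Agent.Nodes.RGDTwGen
  Cfsg.Agent.Nodes.KindBase Cfsg.Agent.Nodes.KindChev
open Cfsg.Lie Cfsg.Agent.ChevalleyStructure Cfsg.Agent.ChevalleyStructure.Elts
  Cfsg.Agent.ChevalleyStructure.NPerm Cfsg.Agent.ChevalleyStructure.CoxeterGeomTypes Cfsg.Agent.Nodes.RGDChev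
  Cfsg.Agent.KFacts.RgdChevCoord
open Cfsg.Agent.Nodes.RGDFold Cfsg.Agent.Nodes.RGDFoldSL
open Cfsg.Agent.Nodes Cfsg.Agent.Nodes.Bruhat Cfsg.Agent.ChevalleyStructure.RootVec Cfsg.Agent.ChevalleyStructure.RootVecTab
open Cfsg.Agent.ChevalleyStructure.TwistedU Cfsg.Agent.ChevalleyStructure.TwistedFix
open Cfsg.Agent.H745.RowCls Cfsg.Agent.H132

universe u

/-! ### the relative root system, of type `F₄` -/

section Tab

open RGDTwE6

/-- squared lengths, halved -/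
def dF : Fin 4 → ℤ := ![2, 2, 1, 1]

/-- the frame of long roots -/
def frF : Fin 4 → Fin 4 → ℤ := ![![2, 3, 4, 2], ![0, 1, 2, 2], ![0, 1, 2, 0], ![0, 1, 0, 0]]

/-- the functionals `⟨·, (frF k)^∨⟩` -/
def cfF : Fin 4 → Fin 4 → ℤ := ![![1, 0, 0, 0], ![-1, 0, 0, 1], ![-1, 0, 1, -1], ![-1, 2, -1, 0]]

theorem dF_symm : ∀ i j, dF i * RGDTwE6.A i j = dF j * RGDTwE6.A j i := by decide +kernel

theorem normF : ∀ k, qf RGDTwE6.A dF (frF k) (frF k) = 4 := by decide +kernel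

theorem hcF : ∀ k i, cfF k i * 4 = 2 * (dF i * pairing RGDTwE6.A i (frF k)) := by decide +kernel

theorem orthF : ∀ k m, k ≠ m → ∑ i, frF k i * cfF m i = 0 := by decide +kernel

private noncomputable def _root_.Cfsg.Agent.LsF.f0a17e9_25 : {f // @Cfsg.Agent.Nodes.RGDFold.V = f} := ⟨_, by first | (delta Cfsg.Agent.Nodes.RGDFold.V; rewrite [Cfsg.Agent.LsF.f0a17e9_4.2, Cfsg.Agent.LsF.map_eq, Cfsg.Agent.LsF.sum_eq, Cfsg.Agent.LsF.instIAdd_eq]; exact rfl) | exact rfl⟩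
private noncomputable def _root_.Cfsg.Agent.LsF.f0a17e9_26 : {f // @Cfsg.Agent.Nodes.RGDTwE6.J = f} := ⟨_, by first | (delta Cfsg.Agent.Nodes.RGDTwE6.J; rewrite [Cfsg.Agent.LsF.vecCons_eq]; exact rfl) | exact rfl⟩
private noncomputable def _root_.Cfsg.Agent.LsF.f0a17e9_27 : {f // @Cfsg.Agent.H745.RowTwE.frF = f} := ⟨_, by first | (delta Cfsg.Agent.H745.RowTwE.frF; rewrite [Cfsg.Agent.LsF.vecCons_eq]; exact rfl) | exact rfl⟩
theorem rootF : ∀ k, ∃ r < chevE6.nroots, V chevE6 RGDTwE6.J r = frF k := by (refine of_decide_eq_true ?_; (try (rewrite [Cfsg.Agent.LsF.dPiF_pat, Cfsg.Agent.LsF.f0a17e9_25.2, Cfsg.Agent.LsF.f0a17e9_26.2, Cfsg.Agent.LsF.f0a17e9_27.2, Cfsg.Agent.LsF.instIDecEq_eq, Cfsg.Agent.LsF.dForallFin_eq, Cfsg.Agent.LsF.dExistsLT_eq, Cfsg.Agent.LsF.decide_eq])); decide +kernel)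

private noncomputable def _root_.Cfsg.Agent.LsF.f0a17e9_28 : {f // @Cfsg.Agent.H745.RowTwE.cfF = f} := ⟨_, by first | (delta Cfsg.Agent.H745.RowTwE.cfF; rewrite [Cfsg.Agent.LsF.ineg_pat, Cfsg.Agent.LsF.vecCons_eq]; exact rfl) | exact rfl⟩
theorem noF : ∀ r < chevE6.nroots, ∃ k, ∑ i, V chevE6 RGDTwE6.J r i * cfF k i ≠ 0 := by (refine of_decide_eq_true ?_; (try (rewrite [Cfsg.Agent.LsF.sumF_pat, Cfsg.Agent.LsF.f0a17e9_25.2, Cfsg.Agent.LsF.f0a17e9_26.2, Cfsg.Agent.LsF.f0a17e9_28.2, Cfsg.Agent.LsF.iadd_pat, Cfsg.Agent.LsF.imul_pat, Cfsg.Agent.LsF.iACM_eq, Cfsg.Agent.LsF.instIDecEq_eq, Cfsg.Agent.LsF.dNot_eq, Cfsg.Agent.LsF.dBallLT_eq, Cfsg.Agent.LsF.dExistsFin_eq, Cfsg.Agent.LsF.decide_eq])); decide +kernel)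

theorem sepF : ∀ k m, k ≠ m → ∃ r < chevE6.nroots, V chevE6 RGDTwE6.J r ≠ frF k ∧ V chevE6 RGDTwE6.J r ≠ -frF k ∧
    ∑ i, V chevE6 RGDTwE6.J r i * cfF k i ≠ 0 ∧ ∑ i, V chevE6 RGDTwE6.J r i * cfF m i = 0 := by (refine of_decide_eq_true ?_; (try (rewrite [Cfsg.Agent.LsF.sumF_pat, Cfsg.Agent.LsF.pneg_pat, Cfsg.Agent.LsF.dPiF_pat, Cfsg.Agent.LsF.f0a17e9_25.2, Cfsg.Agent.LsF.f0a17e9_26.2, Cfsg.Agent.LsF.f0a17e9_27.2, Cfsg.Agent.LsF.f0a17e9_28.2, Cfsg.Agent.LsF.iadd_pat, Cfsg.Agent.LsF.imul_pat, Cfsg.Agent.LsF.ineg_pat, Cfsg.Agent.LsF.iACM_eq, Cfsg.Agent.LsF.instIDecEq_eq, Cfsg.Agent.LsF.dAnd_eq, Cfsg.Agent.LsF.dNot_eq, Cfsg.Agent.LsF.dFinEq_eq, Cfsg.Agent.LsF.dForallFin_eq, Cfsg.Agent.LsF.dExistsLT_eq, Cfsg.Agent.LsF.dAllP_eq, Cfsg.Agent.LsF.decide_eq])); decide +kernel)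

theorem nbF : ∀ k, ∃ r < chevE6.nroots, qf RGDTwE6.A dF (V chevE6 RGDTwE6.J r) (V chevE6 RGDTwE6.J r) = 4 ∧
    V chevE6 RGDTwE6.J r ≠ frF k ∧ V chevE6 RGDTwE6.J r ≠ -frF k ∧ ∑ i, V chevE6 RGDTwE6.J r i * cfF k i ≠ 0 := by
  decide +kernel

theorem permF : ∀ k, frF k - pairing RGDTwE6.A 2 (frF k) • sr 2 = frF (Equiv.swap 2 3 k) := by decide +kernel

theorem stepF : (sr 1 : Fin 4 → ℤ) =
    (sr 0 - pairing RGDTwE6.A 1 (sr 0) • sr 1) - pairing RGDTwE6.A 0 (sr 0 - pairing RGDTwE6.A 1 (sr 0) • sr 1) • sr 0 := by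
  decide +kernel

end Tab

section Root

variable {W : Type*} [Group W] [Fintype W] (cs : CoxeterSystem CoxeterMatrix.F₄ W) (h : IsCartan CoxeterMatrix.F₄ RGDTwE6.A)

theorem mem_RL_iff (x : Fin 4 → ℤ) : x ∈ RL cs h 0 ↔ IsRoot cs h x ∧ qf RGDTwE6.A dF x x = 4 := by
  constructor
  · rintro ⟨w, rfl⟩
    refine ⟨(isRoot_sr cs h 0).act w, ?_⟩
    rw [qf_root cs h dF_symm w 0]
    rfl
  · rintro ⟨⟨w, i, rfl⟩, hx⟩
    rw [qf_root cs h dF_symm w i] at hx
    fin_cases i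
    · exact ⟨w, rfl⟩
    · refine ⟨w * (cs.simple 0 * cs.simple 1), ?_⟩
      rw [rep_mul_apply, rep_mul_apply, rep_simple_eq _ h 1, rep_simple_eq _ h 0, ← stepF]
      rfl
    · exact absurd hx (by decide)
    · exact absurd hx (by decide)

theorem isRoot_V {r : ℕ} (hr : r < chevE6.nroots) : IsRoot cs h (V chevE6 RGDTwE6.J r) :=
  (RGDTwE6.foldData.isRoot_iff RGDTwE6.hp.checked (fun i _ hr => wp_lt RGDTwE6.hp (RGDTwE6.J i) hr) _).2 ⟨r, hr, rfl⟩

theorem exists_V {y : Fin 4 → ℤ} (hy : IsRoot cs h y) : ∃ r < chevE6.nroots, V chevE6 RGDTwE6.J r = y :=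
  (RGDTwE6.foldData.isRoot_iff RGDTwE6.hp.checked (fun i _ hr => wp_lt RGDTwE6.hp (RGDTwE6.J i) hr) y).1 hy

theorem isRoot_frF (k : Fin 4) : IsRoot cs h (frF k) := by
  obtain ⟨r, hr, e⟩ := rootF k
  rw [← e]
  exact isRoot_V cs h hr

theorem cprF (x : Fin 4 → ℤ) (k : Fin 4) : cpr cs h x (frF k) = ∑ i, x i * cfF k i := by
  refine cpr_eq_sum cs h dF_symm (isRoot_frF cs h k) (by rw [normF]; norm_num) (fun i => ?_) x
  rw [normF]
  exact hcF k i

theorem formF (x : Fin 4 → ℤ) (k : Fin 4) : form cs h x (frF k) = 0 ↔ ∑ i, x i * cfF k i = 0 := by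
  rw [← cprF cs h, cpr_zero_iff cs h x (isRoot_frF cs h k)]

theorem frameSysF : FrameSys cs h (RL cs h 0) frF where
  root r hr := ((mem_RL_iff cs h r).1 hr).1
  act := by
    rintro _ ⟨w, rfl⟩ v
    exact ⟨v * w, by rw [rep_mul_apply]⟩
  le_one x hx y hy h1 h2 := by
    obtain ⟨hx1, hx2⟩ := (mem_RL_iff cs h x).1 hx
    obtain ⟨hy1, hy2⟩ := (mem_RL_iff cs h y).1 hy
    refine le_one_of_comm cs h hx1 hy1 ?_ h1 h2
    exact cpr_comm_of_qf cs h dF_symm hx1 hy1 (by rw [hx2, hy2]) (by rw [hy2]; norm_num)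
  mem k := (mem_RL_iff cs h _).2 ⟨isRoot_frF cs h k, normF k⟩
  orth k m hkm := by rw [cprF]; exact orthF k m hkm
  max x hx hk := by
    obtain ⟨r, hr, rfl⟩ := exists_V cs h ((mem_RL_iff cs h x).1 hx).1
    obtain ⟨k, hk'⟩ := noF r hr
    apply hk'
    rw [← cprF cs h]
    exact hk k

end Root

section Fold

variable {D : ChevalleyDatum} {l m : ℕ} {M' : CoxeterMatrix (Fin l)} (hp : IsType D l M') {K : Type u} [Field K]
  {M : CoxeterMatrix (Fin m)} {W : Type*} [Group W] (cs : CoxeterSystem M W)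
  {A : Fin m → Fin m → ℤ} (h : IsCartan M A) {J : Fin m → List (Fin l)} {L : List (List ℕ)}
  {σ : GL D.Idx K →* GL D.Idx K} {ρ ρ' : ℕ → ℕ} {f : ℕ → K → K} {G : Subgroup (GL D.Idx K)} {i₀ : Fin m} {j₀ : Fin l}
  {φ : K →+* K} (FD : FoldData D M A J L) (FG : FoldGrp hp K J L σ ρ ρ' f G)

include hp in
/-- the torus is abelian -/
theorem torus_comm : ∀ s ∈ TF (K := K) D G, ∀ t ∈ TF (K := K) D G, s * t = t * s := by
  intro a ha b hb
  obtain ⟨χ, hχ⟩ := HMatDiagAll.mem_torus.1 (HMatDiagAll.diagonalSubgroup_le_torus hp.inList (Subgroup.mem_subgroupOf.1 ha).1)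
  obtain ⟨ψ, hψ⟩ := HMatDiagAll.mem_torus.1 (HMatDiagAll.diagonalSubgroup_le_torus hp.inList (Subgroup.mem_subgroupOf.1 hb).1)
  apply Subtype.ext
  apply Units.ext
  rw [Subgroup.coe_mul, Subgroup.coe_mul, Units.val_mul, Units.val_mul, hχ, hψ, Matrix.diagonal_mul_diagonal,
    Matrix.diagonal_mul_diagonal]
  congr 1
  funext i
  exact mul_comm _ _

include cs h FD in
theorem slAt_Phi [Finite K] (p : ℕ) [Fact p.Prime] [CharP K p] (N : NodeOK D J L ρ i₀ (D.simple j₀) [])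
    (hf : ∀ s ∈ [D.simple j₀], ∀ t, f s t = φ t) (hinj : Function.Injective (Phi FG N hf)) :
    SLAt (XF hp J σ G) (Phi FG N hf) (sr i₀) := by
  have Rg : RGD cs h p (TF (K := K) D G) (fun i => (⟨nI hp K (J i), FG.nG i⟩ : ↥G)) (XF hp J σ G) := _root_.Cfsg.Agent.Nodes.RGDFold.rgd cs h FD FG p
  have h1 : cj (⟨nI hp K (J i₀), FG.nG i₀⟩ : ↥G) (XF hp J σ G (sr i₀)) = XF hp J σ G (-sr i₀) := by
    have := Rg.conj i₀ (sr i₀) (isRoot_sr cs h i₀)
    rwa [rep_simple_sr] at this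
  have h2 : ∀ a, Phi FG N hf (SL2Hom.up a) ∈ XF hp J σ G (sr i₀) := fun a => (mem_X_iff FG N hf _).2 ⟨a, rfl⟩
  refine ⟨hinj, h2, fun u hu => ?_, fun a => ?_, fun y hy => ?_⟩
  · obtain ⟨a, ha⟩ := (mem_X_iff FG N hf u).1 hu
    exact ⟨a, ha.symm⟩
  · show Phi FG N hf (SL2Hom.lo a) ∈ _
    rw [← h1, lo_eq, map_mul, map_mul, map_inv, Phi_wS]
    exact conj_mem_cj.2 (h2 _)
  · rw [← h1, mem_cj] at hy
    obtain ⟨a, ha⟩ := (mem_X_iff FG N hf _).1 hy
    refine ⟨-a, ?_⟩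
    show Phi FG N hf (SL2Hom.lo (-a)) = y
    rw [lo_eq, _root_.neg_neg, map_mul, map_mul, map_inv, Phi_wS, ← ha]
    group

open Cfsg.Agent.H132 in
include hp FD FG in
/-- **`OddRow` for the twisted group.** -/
theorem oddRow_fold [Finite K] (p : ℕ) [Fact p.Prime] [CharP K p] (hp2 : p ≠ 2) (hZ : Subgroup.center ↥G = ⊥)
    (N : NodeOK D J L ρ i₀ (D.simple j₀) []) (hf : ∀ s ∈ [D.simple j₀], ∀ t, f s t = φ t)
    (LN : LongNode D A J i₀ j₀) (j₁ : Fin m)
    (h3 : Odd (pairing A i₀ (sr i₀ - pairing A j₁ (sr i₀) • sr j₁))) (h : IsCartan M A) [Fintype M.Group]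
    {t : ℕ} {fr : Fin t → Fin m → ℤ} (Fs : FrameSys M.toCoxeterSystem h (RL M.toCoxeterSystem h i₀) fr)
    (hno : ∀ x, IsRoot M.toCoxeterSystem h x → ∃ k, form M.toCoxeterSystem h x (fr k) ≠ 0)
    (hsep : ∀ k l, k ≠ l → ∃ y, IsRoot M.toCoxeterSystem h y ∧ y ≠ fr k ∧ y ≠ -fr k ∧
      form M.toCoxeterSystem h y (fr k) ≠ 0 ∧ form M.toCoxeterSystem h y (fr l) = 0)
    (hnb : ∀ k, ∃ y ∈ RL M.toCoxeterSystem h i₀, y ≠ fr k ∧ y ≠ -fr k ∧ form M.toCoxeterSystem h y (fr k) ≠ 0)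
    {E : Set (Equiv.Perm (Fin t))} (hE : PermTwo.Good E)
    (hperm : ∀ σ ∈ E, ∃ w : M.Group, ∀ k, rep M.toCoxeterSystem h w (fr k) = fr (σ k) ∨
      rep M.toCoxeterSystem h w (fr k) = -fr (σ k)) (k₀ : Fin t) : H747.OddRow ↥G := by
  have C := cls_fold hp M.toCoxeterSystem h FD FG N hf LN p hZ
  have hF : Finite (Fx φ (([] : List ℕ).length + 1)) := inferInstance
  have := Fintype.ofFinite (Fx φ (([] : List ℕ).length + 1))
  have hcF : CharP (Fx φ (([] : List ℕ).length + 1)) p :=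
    (RingHom.charP_iff (Fx φ (([] : List ℕ).length + 1)).subtype (Fx φ (([] : List ℕ).length + 1)).subtype.injective p).2
      inferInstance
  have hi : D.simple j₀ < D.nroots := _root_.Cfsg.Agent.ChevalleyStructure.NPerm.simple_lt hp.inList (lt_rank hp j₀)
  have hroot : ∀ y, IsRoot M.toCoxeterSystem h y → ∃ r < D.nroots, V D J r = y := fun y hy =>
    (FD.isRoot_iff hp.checked (fun i r hr => wp_lt hp (J i) hr) y).1 hy
  have hrep : rep M.toCoxeterSystem h (M.toCoxeterSystem.simple j₁) (sr i₀) = sr i₀ - pairing A j₁ (sr i₀) • sr j₁ :=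
    rep_simple_eq _ h j₁ _
  -- injectivity
  have hne : Phi FG N hf (-1) ≠ 1 := by
    intro h4
    obtain ⟨s, hs, e⟩ := hroot _ ((isRoot_sr M.toCoxeterSystem h i₀).act (M.toCoxeterSystem.simple j₁))
    rw [hrep] at e
    rw [← e, LN.pair s hs] at h3
    have h5 := hG_conj (K := K) hp j₀ hs 1
    rw [← coe_zF hp FG N hf, h3.neg_one_zpow] at h5
    unfold zF at h5
    rw [h4, Subgroup.coe_one, one_mul, inv_one, mul_one, mul_one] at h5
    have h6 : (1 : K) = -1 := xG_injective hp.inList hs h5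
    have h7 : ((2 : ℕ) : K) = 0 := by
      push_cast
      linear_combination h6
    rw [CharP.cast_eq_zero_iff K p] at h7
    exact hp2 ((Nat.prime_dvd_prime_iff_eq Fact.out Nat.prime_two).1 h7)
  have hinj := inj_of_neg_one (odd_card_of p hp2) (Phi FG N hf) hne
  have hG : GG M.toCoxeterSystem h (TF (K := K) D G) (XF hp J σ G) = ⊤ := by
    rw [eq_top_iff, ← RGDFold.G1_eq_top M.toCoxeterSystem h FD FG p]
    exact le_sup_right
  refine oddRow_of_cls C Fact.out ((Fact.out : p.Prime).odd_of_ne_two hp2) hG (odd_card_of p hp2) Fs hno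
    (torus_comm hp) hsep ?_ hnb hE hperm k₀ (r₀ := sr i₀) ⟨1, by rw [map_one, Module.End.one_apply]⟩
    (slAt_Phi hp M.toCoxeterSystem h FD FG p N hf hinj)
  rintro _ ⟨w, rfl⟩ _ ⟨v, rfl⟩
  exact ⟨v * w⁻¹, by rw [rep_mul_apply, rep_inv_apply]⟩

end Fold

open Cfsg.Agent.Nodes.RGDTwNode Cfsg.Agent.Nodes.RGDTwE6

/-- **`OddRow` for `²E₆(q)`, `q` odd.** -/
theorem oddRow_twE6 {K : Type u} [Field K] [Fintype K] {q : ℕ} (hq : IsPrimePow q) (hK : Fintype.card K = q ^ 2)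
    {p : ℕ} [Fact p.Prime] [CharP K p] (hp2 : p ≠ 2) : H747.OddRow ↥(twistedE6 K q) := by
  obtain ⟨φ, hφ, hqq⟩ := Cfsg.Agent.ChevalleyStructure.TwE6Basic.exists_frob hq hK
  have FG := RGDTwE6.foldGrp hφ hqq
  have N : NodeOK chevE6 RGDTwE6.J TwistedE6U.L TwistedE6Sigma.rho 0 (chevE6.simple ((1 : Fin 6) : ℕ)) [] := E6.nodeOK 0
  have hf : ∀ s ∈ [chevE6.simple ((1 : Fin 6) : ℕ)], ∀ t : K, ((TwistedE6Sigma.eps s : ℤ) : K) * φ t = φ t := by
    intro s hs t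
    rw [E6.eps_one 0 s hs, Int.cast_one, one_mul]
  have : Finite CoxeterMatrix.F₄.Group :=
    RGDFold.finite_W (hp := RGDTwE6.hp) CoxeterMatrix.F₄.toCoxeterSystem RGDTwE6.isCartan RGDTwE6.foldData
  have := Fintype.ofFinite CoxeterMatrix.F₄.Group
  have h := RGDTwE6.isCartan
  refine oddRow_fold RGDTwE6.hp (j₀ := 1) RGDTwE6.foldData FG p hp2 (center_eq_bot' (Cfsg.Agent.S1070.result hq hK)) N hf
    longNodeE6 1 (by decide) h (frameSysF _ h) ?_ ?_ ?_ PermTwo.good_four ?_ 0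
  · intro x hx
    obtain ⟨r, hr, rfl⟩ := exists_V _ h hx
    obtain ⟨k, hk⟩ := noF r hr
    exact ⟨k, fun h0 => hk ((formF _ h _ k).1 h0)⟩
  · intro k l hkl
    obtain ⟨r, hr, h1, h2, h3, h4⟩ := sepF k l hkl
    exact ⟨_, isRoot_V _ h hr, h1, h2, fun h0 => h3 ((formF _ h _ k).1 h0), (formF _ h _ l).2 h4⟩
  · intro k
    obtain ⟨r, hr, h0, h1, h2, h3⟩ := nbF k
    exact ⟨_, (mem_RL_iff _ h _).2 ⟨isRoot_V _ h hr, h0⟩, h1, h2, fun h4 => h3 ((formF _ h _ k).1 h4)⟩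
  · intro σ hσ
    rw [Set.mem_singleton_iff] at hσ
    subst hσ
    refine ⟨CoxeterMatrix.F₄.toCoxeterSystem.simple 2, fun k => Or.inl ?_⟩
    rw [rep_simple_eq _ h 2]
    exact permF k

/-- **The row `²E₆(q)`, `q` odd.** -/
theorem row_2E6 {K : Type u} [Field K] [Fintype K] {q : ℕ} (hodd : Odd q)
    (hK : Fintype.card K = q ^ 2) : H747.RowTwo ↥(twistedE6 K q) := by
  have hq : IsPrimePow q := by
    rw [← isPrimePow_pow_iff two_ne_zero, ← hK]
    exact FiniteField.isPrimePow_card K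
  obtain ⟨p, hp⟩ := CharP.exists K
  have hpr : p.Prime := CharP.char_is_prime K p
  haveI : Fact p.Prime := ⟨hpr⟩
  refine Or.inl (oddRow_twE6 (p := p) hq hK ?_)
  rintro rfl
  obtain ⟨n, -, hn⟩ := FiniteField.card K 2
  have h1 : Odd (Fintype.card K) := by rw [hK]; exact hodd.pow
  rw [hn, ← Nat.not_even_iff_odd] at h1
  exact h1 (Nat.even_pow.2 ⟨even_two, n.pos.ne'⟩)

end Cfsg.Agent.H745.RowTwE
end

private theorem dce_e0206d3ee5c7 : _root_.True := by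
  try have : _root_.True := by simp only [_root_.Cfsg.Agent.H745.TorSL.dc.eq_1]
  try have : _root_.True := by simp only [_root_.Cfsg.Agent.GpExc.Field.emb.congr_simp]
  exact _root_.True.intro
end

-- part: H779/RowHex
section
set_option linter.all false
open scoped Cfsg.Agent.FastGrp

-- part: H779/RowHexA
section
/-!
# The model Sylow 2-subgroup of `G₂(q)`, `q` odd, has no automorphism of odd order (helper779, S5161)
-/

set_option autoImplicit false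

namespace Cfsg.Agent.H779.RowHex

open Cfsg Cfsg.Agent.ClassificationK.GTwoModel Cfsg.Agent.H747
open scoped commutatorElement

variable {m : ℕ}

/-- the base group -/
def A (m : ℕ) : Subgroup (T m) where
  carrier := {x | x.e = false ∧ x.d = false}
  mul_mem' := by
    rintro ⟨i, j, e, d⟩ ⟨i', j', e', d'⟩ ⟨h1, h2⟩ ⟨h3, h4⟩
    simp only at h1 h2 h3 h4
    subst h1 h2 h3 h4
    exact ⟨rfl, rfl⟩
  one_mem' := ⟨rfl, rfl⟩
  inv_mem' := by
    rintro ⟨i, j, e, d⟩ ⟨h1, h2⟩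
    simp only at h1 h2
    subst h1 h2
    exact ⟨rfl, rfl⟩

/-- the subgroup of index 2 -/
def B (m : ℕ) : Subgroup (T m) where
  carrier := {x | x.d = false}
  mul_mem' := by
    rintro ⟨i, j, e, d⟩ ⟨i', j', e', d'⟩ h2 h4
    simp only [Set.mem_ofPred_eq] at h2 h4
    subst h2 h4
    exact rfl
  one_mem' := rfl
  inv_mem' := by
    rintro ⟨i, j, e, d⟩ h2
    simp only [Set.mem_ofPred_eq] at h2
    subst h2
    exact rfl

theorem mem_A {x : T m} : x ∈ A m ↔ x.e = false ∧ x.d = false := Iff.rfl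
theorem mem_B {x : T m} : x ∈ B m ↔ x.d = false := Iff.rfl

instance : (A m).Normal := by
  refine ⟨?_⟩
  rintro ⟨i, j, e, d⟩ ⟨h1, h2⟩ ⟨i', j', e', d'⟩
  simp only at h1 h2
  subst h1 h2
  rw [mem_A]
  cases e' <;> cases d' <;> exact ⟨rfl, rfl⟩

instance : (B m).Normal := by
  refine ⟨?_⟩
  rintro ⟨i, j, e, d⟩ h2 ⟨i', j', e', d'⟩
  rw [mem_B] at h2 ⊢
  simp only at h2
  subst h2
  cases e <;> cases e' <;> cases d' <;> rfl

theorem two_ne {l : ℕ} (hl : 2 ≤ l) : (2 : ZMod (2 * l)) ≠ 0 := by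
  intro h
  have h1 : ((2 : ℕ) : ZMod (2 * l)) = 0 := by exact_mod_cast h
  rw [ZMod.natCast_eq_zero_iff] at h1
  have := Nat.le_of_dvd (by norm_num) h1
  omega

/-- the commutator with the inverting element -/
theorem comm_t (i j : ZMod m) : ⁅(⟨i, j, false, false⟩ : T m), (⟨0, 0, true, false⟩ : T m)⁆ = (⟨2 * i, 2 * j, false, false⟩ : T m) := by
  rw [commutatorElement_def]
  simp [T.inv_mk, T.mul_mk]
  constructor <;> ring

theorem comm_u (i j : ZMod m) : ⁅(⟨i, j, false, false⟩ : T m), (⟨0, 0, false, true⟩ : T m)⁆ = (⟨i - j, j - i, false, false⟩ : T m) := by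
  rw [commutatorElement_def]
  simp [T.inv_mk, T.mul_mk]
  constructor <;> ring

/-- `A` is the centralizer of the derived subgroup -/
theorem mem_A_iff {l : ℕ} (hl : 2 ≤ l) (x : T (2 * l)) :
    x ∈ A (2 * l) ↔ ∀ a b : T (2 * l), x * ⁅a, b⁆ = ⁅a, b⁆ * x := by
  have h2 := two_ne hl
  constructor
  · obtain ⟨i, j, e, d⟩ := x
    rintro ⟨h1, h2⟩ ⟨i1, j1, e1, d1⟩ ⟨i2, j2, e2, d2⟩
    simp only at h1 h2
    subst h1 h2
    have key : ∃ u v : ZMod (2 * l), ⁅(⟨i1, j1, e1, d1⟩ : T (2 * l)), (⟨i2, j2, e2, d2⟩ : T (2 * l))⁆ = (⟨u, v, false, false⟩ : T (2 * l)) := by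
      refine ⟨⁅(⟨i1, j1, e1, d1⟩ : T (2 * l)), (⟨i2, j2, e2, d2⟩ : T (2 * l))⁆.i,
        ⁅(⟨i1, j1, e1, d1⟩ : T (2 * l)), (⟨i2, j2, e2, d2⟩ : T (2 * l))⁆.j, ?_⟩
      apply T.ext
      · rfl
      · rfl
      · rw [commutatorElement_def]
        cases e1 <;> cases e2 <;> cases d1 <;> cases d2 <;> rfl
      · rw [commutatorElement_def]
        cases e1 <;> cases e2 <;> cases d1 <;> cases d2 <;> rfl
    obtain ⟨u, v, huv⟩ := key
    rw [huv, T.mul_mk, T.mul_mk]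
    simp only [sg_false, cond_false, Bool.xor_false]
    congr 1 <;> ring
  · intro h
    obtain ⟨i, j, e, d⟩ := x
    have h1 := h ⟨1, 0, false, false⟩ ⟨0, 0, false, true⟩
    have h3 := h ⟨1, 0, false, false⟩ ⟨0, 0, true, false⟩
    rw [comm_u] at h1
    rw [comm_t] at h3
    rw [mem_A]
    simp only [T.mul_mk, T.mk.injEq] at h1 h3
    obtain ⟨h1, -, -, -⟩ := h1
    obtain ⟨h3, -, -, -⟩ := h3
    cases e <;> cases d <;> simp only [sg_true, sg_false, cond_true, cond_false, true_and, and_true, Bool.true_eq_false,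
      Bool.false_eq_true, and_false, false_and] at h1 h3 ⊢
    · exact h2 (by linear_combination -h3)
    · exact h2 (by linear_combination -h1)
    · exact h2 (by linear_combination -h3)

/-- `B` is the centralizer of `A / A ^ 2` -/
theorem mem_B_iff {l : ℕ} (hl : 2 ≤ l) (x : T (2 * l)) :
    x ∈ B (2 * l) ↔ ∀ a ∈ A (2 * l), ∃ b ∈ A (2 * l), x * a * x⁻¹ * a⁻¹ = b * b := by
  constructor
  · obtain ⟨i, j, e, d⟩ := x
    rintro hd ⟨u, v, e', d'⟩ ⟨h1, h2⟩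
    rw [mem_B] at hd
    simp only at hd h1 h2
    subst hd h1 h2
    cases e
    · refine ⟨1, one_mem _, ?_⟩
      simp only [T.inv_mk, T.mul_mk, T.one_def, sg_false, cond_false, Bool.xor_false]
      congr 1 <;> ring
    · refine ⟨⟨-u, -v, false, false⟩, ⟨rfl, rfl⟩, ?_⟩
      simp only [T.inv_mk, T.mul_mk, sg_false, sg_true, cond_false, Bool.xor_false, Bool.xor_true, Bool.not_true]
      congr 1 <;> ring
  · intro h
    obtain ⟨i, j, e, d⟩ := x
    obtain ⟨⟨u, v, e', d'⟩, ⟨h1, h2⟩, h3⟩ := h ⟨1, 0, false, false⟩ ⟨rfl, rfl⟩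
    simp only at h1 h2
    subst h1 h2
    rw [mem_B]
    cases d
    · rfl
    · exfalso
      have h4 : ∃ w : ZMod (2 * l), (1 : ZMod (2 * l)) = 2 * w := by
        rw [T.mul_mk, T.inv_mk, T.inv_mk, T.mul_mk, T.mul_mk, T.mul_mk, T.mk.injEq] at h3
        have h5 := h3.1
        cases e <;> simp only [sg_true, sg_false, cond_true, cond_false, Bool.xor_true, Bool.xor_false,
          Bool.not_true, Bool.not_false] at h5
        · exact ⟨-u, by linear_combination -h5⟩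
        · exact ⟨-u, by linear_combination -h5⟩
      obtain ⟨w, hw⟩ := h4
      have h6 : (l : ZMod (2 * l)) = 0 := by
        have h7 : ((2 * l : ℕ) : ZMod (2 * l)) = 0 := ZMod.natCast_self _
        push_cast at h7
        calc (l : ZMod (2 * l)) = l * 1 := by ring
          _ = l * (2 * w) := by rw [← hw]
          _ = (2 * l) * w := by ring
          _ = 0 := by rw [h7, zero_mul]
      rw [ZMod.natCast_eq_zero_iff] at h6
      have := Nat.le_of_dvd (by omega) h6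
      omega

/-- parity -/
theorem even_or {l : ℕ} (hl : 0 < l) (x : ZMod (2 * l)) : ∃ w : ZMod (2 * l), x = 2 * w ∨ x = 2 * w + 1 := by
  have : NeZero (2 * l) := ⟨by omega⟩
  obtain ⟨c, hc⟩ : ∃ c : ℕ, (c : ZMod (2 * l)) = x := ⟨x.val, ZMod.natCast_zmod_val x⟩
  rcases Nat.even_or_odd' c with ⟨w, h | h⟩
  · exact ⟨w, Or.inl (by rw [← hc, h]; push_cast; ring)⟩
  · exact ⟨w, Or.inr (by rw [← hc, h]; push_cast; ring)⟩

theorem mem_comm {i j w : ZMod m} (h : i + j = 2 * w) : (⟨i, j, false, false⟩ : T m) ∈ commutator (T m) := by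
  have h1 : (⟨i, j, false, false⟩ : T m) =
      ⁅(⟨i, 0, false, false⟩ : T m), (⟨0, 0, false, true⟩ : T m)⁆ *
        ⁅(⟨0, w, false, false⟩ : T m), (⟨0, 0, true, false⟩ : T m)⁆ := by
    rw [comm_u, comm_t, T.mul_mk]
    simp only [sg_false, cond_false, Bool.xor_false]
    congr 1
    · ring
    · linear_combination h
  rw [h1]
  exact mul_mem (Subgroup.commutator_mem_commutator (Subgroup.mem_top _) (Subgroup.mem_top _))
    (Subgroup.commutator_mem_commutator (Subgroup.mem_top _) (Subgroup.mem_top _))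

theorem step_A {l : ℕ} (hl : 0 < l) {x y : T (2 * l)} (hx : x ∈ A (2 * l)) (hy : y ∈ A (2 * l))
    (hx' : x ∉ commutator (T (2 * l))) (hy' : y ∉ commutator (T (2 * l))) :
    x⁻¹ * y ∈ commutator (T (2 * l)) := by
  obtain ⟨i, j, e, d⟩ := x
  obtain ⟨i', j', e', d'⟩ := y
  obtain ⟨h1, h2⟩ := hx
  obtain ⟨h3, h4⟩ := hy
  simp only at h1 h2 h3 h4
  subst h1 h2 h3 h4
  obtain ⟨w, hw | hw⟩ := even_or hl (i + j)
  · exact absurd (mem_comm hw) hx'
  obtain ⟨w', hw' | hw'⟩ := even_or hl (i' + j')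
  · exact absurd (mem_comm hw') hy'
  rw [T.inv_mk, T.mul_mk]
  simp only [sg_false, cond_false, Bool.xor_false]
  refine mem_comm (w := w' - w) ?_
  linear_combination hw' - hw

theorem step_B {x y : T m} (hx : x ∈ B m) (hy : y ∈ B m) (hx' : x ∉ A m) (hy' : y ∉ A m) : x⁻¹ * y ∈ A m := by
  obtain ⟨i, j, e, d⟩ := x
  obtain ⟨i', j', e', d'⟩ := y
  rw [mem_B] at hx hy
  simp only at hx hy
  subst hx hy
  rw [mem_A] at hx' hy' ⊢
  cases e
  · exact absurd ⟨rfl, rfl⟩ hx'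
  cases e'
  · exact absurd ⟨rfl, rfl⟩ hy'
  exact ⟨rfl, rfl⟩

theorem step_top {x y : T m} (hx' : x ∉ B m) (hy' : y ∉ B m) : x⁻¹ * y ∈ B m := by
  obtain ⟨i, j, e, d⟩ := x
  obtain ⟨i', j', e', d'⟩ := y
  rw [mem_B] at hx' hy' ⊢
  cases d
  · exact absurd rfl hx'
  cases d'
  · exact absurd rfl hy'
  cases e <;> cases e' <;> rfl

theorem apply_mem_A {l : ℕ} (hl : 2 ≤ l) (σ : MulAut (T (2 * l))) {x : T (2 * l)} (hx : x ∈ A (2 * l)) :
    σ x ∈ A (2 * l) := by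
  rw [mem_A_iff hl] at hx ⊢
  intro a b
  have h := congrArg σ (hx (σ⁻¹ a) (σ⁻¹ b))
  simpa [map_commutatorElement] using h

theorem apply_mem_B {l : ℕ} (hl : 2 ≤ l) (σ : MulAut (T (2 * l))) {x : T (2 * l)} (hx : x ∈ B (2 * l)) :
    σ x ∈ B (2 * l) := by
  rw [mem_B_iff hl] at hx ⊢
  intro a ha
  obtain ⟨b, hb, h⟩ := hx (σ⁻¹ a) (apply_mem_A hl _ ha)
  refine ⟨σ b, apply_mem_A hl _ hb, ?_⟩
  have h1 := congrArg σ h
  simpa using h1

theorem apply_mem_comm {G : Type*} [Group G] (σ : MulAut G) {x : G} (hx : x ∈ commutator G) : σ x ∈ commutator G := by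
  have h1 : (commutator G).map σ.toMonoidHom = commutator G := by
    rw [commutator_def, Subgroup.map_commutator, Subgroup.map_top_of_surjective _ σ.surjective]
  rw [← h1]
  exact ⟨x, hx, rfl⟩

/-- the chain -/
def ch (m : ℕ) : ℕ → Subgroup (T m)
  | 0 => commutator (T m)
  | 1 => A m
  | 2 => B m
  | _ => ⊤

/-- **No automorphisms of odd order.** -/
theorem aut_eq_one {k : ℕ} (hk : 1 ≤ k) (σ : MulAut (T (2 * 2 ^ k))) {n : ℕ} (hn : Odd n) (h : σ ^ n = 1) : σ = 1 := by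
  have hl : 2 ≤ 2 ^ k := by
    calc 2 = 2 ^ 1 := rfl
      _ ≤ 2 ^ k := Nat.pow_le_pow_right (by norm_num) hk
  have hl0 : 0 < 2 ^ k := by omega
  have : NeZero (2 * 2 ^ k) := ⟨by omega⟩
  have : Fact (Nat.Prime 2) := ⟨Nat.prime_two⟩
  have hT : IsPGroup 2 (T (2 * 2 ^ k)) := by
    refine IsPGroup.of_card (n := 2 * (k + 1) + 2) ?_
    rw [T.card_T, ← pow_succ', ← pow_mul, pow_add]
    ring
  have hinv : ∀ i, ∀ α ∈ (⊤ : Subgroup (MulAut (T (2 * 2 ^ k)))), ∀ x ∈ ch (2 * 2 ^ k) i, α x ∈ ch (2 * 2 ^ k) i := by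
    intro i α _ x hx
    match i with
    | 0 => exact apply_mem_comm α hx
    | 1 => exact apply_mem_A hl α hx
    | 2 => exact apply_mem_B hl α hx
    | i + 3 => exact Subgroup.mem_top _
  have hnorm : ∀ i, (ch (2 * 2 ^ k) i).Normal := by
    intro i
    match i with
    | 0 => exact inferInstanceAs (commutator _).Normal
    | 1 => exact inferInstanceAs (A _).Normal
    | 2 => exact inferInstanceAs (B _).Normal
    | i + 3 => exact inferInstanceAs (⊤ : Subgroup _).Normal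
  have hst := Cfsg.Agent.H767.EssFrat.chainStab_isPGroup hT ⊤ (ch (2 * 2 ^ k)) 3 hinv hnorm
    (Cfsg.Agent.Lib.FrattiniPGroup.commutator_le_frattini hT) rfl
  have hmem : (⟨σ, Subgroup.mem_top _⟩ : (⊤ : Subgroup (MulAut (T (2 * 2 ^ k))))) ∈
      Cfsg.Agent.H767.EssFrat.chainStab ⊤ (ch (2 * 2 ^ k)) 3 hinv := by
    intro i hi x hx
    by_cases hx' : x ∈ ch (2 * 2 ^ k) i
    · exact mul_mem (inv_mem hx') (hinv i σ (Subgroup.mem_top _) x hx')
    have hy : σ x ∈ ch (2 * 2 ^ k) (i + 1) := hinv (i + 1) σ (Subgroup.mem_top _) x hx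
    have hy' : σ x ∉ ch (2 * 2 ^ k) i := by
      intro h1
      have h2 := hinv i σ⁻¹ (Subgroup.mem_top _) _ h1
      rw [MulAut.inv_apply_self] at h2
      exact hx' h2
    have hi' : i = 0 ∨ i = 1 ∨ i = 2 := by omega
    rcases hi' with rfl | rfl | rfl
    · exact step_A hl0 hx hy hx' hy'
    · exact step_B hx hy hx' hy'
    · exact step_top hx' hy'
  obtain ⟨r, hr⟩ := hst ⟨_, hmem⟩
  have hr' : σ ^ 2 ^ r = 1 := by
    have := congrArg (fun z => ((z : (⊤ : Subgroup (MulAut (T (2 * 2 ^ k))))) : MulAut (T (2 * 2 ^ k)))) (congrArg Subtype.val hr)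
    simpa using this
  have h1 := orderOf_dvd_of_pow_eq_one hr'
  have h2 := orderOf_dvd_of_pow_eq_one h
  have h3 : Nat.Coprime (2 ^ r) n := Nat.Coprime.pow_left r (Nat.coprime_two_left.2 hn)
  have h4 : orderOf σ = 1 := Nat.eq_one_of_dvd_coprimes h3 h1 h2
  exact orderOf_eq_one_iff.1 h4

/-- the row of a group whose Sylow 2-subgroups are of type `G₂(q)` -/
theorem row_of_equiv {K : Type*} [Group K] [Finite K] (P : Sylow 2 K) {k : ℕ} (hk : 1 ≤ k)
    (e : T (2 * 2 ^ k) ≃* (P : Subgroup K)) : RowTwo K := by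
  refine Or.inl (OddRow.of_aut P fun φ n hn h => ?_)
  have h1 : (MulAut.congr e.symm φ) ^ n = 1 := by
    rw [← map_pow, h, map_one]
  have h2 := aut_eq_one hk _ hn h1
  exact (MulAut.congr e.symm).injective (h2.trans (map_one _).symm)

end Cfsg.Agent.H779.RowHex
end

-- part: H779/RowHex
section
/-!
# S5161: the rows `G₂(q)`, `³D₄(q)`, `q` odd (helper779)
-/

set_option autoImplicit false

namespace Cfsg.Agent.H779.RowHex

open Cfsg Cfsg.Lie Cfsg.Agent.ClassificationK.GTwoModel Cfsg.Agent.H747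

/-- the row `G₂(q)`, `q` odd (Chevalley group) -/
theorem row_chevG2 {F : Type*} [Field F] [Fintype F] (hF : Odd (Fintype.card F)) : RowTwo ↥(chevG2.group F) := by
  have hcard : Nat.card ↥(chevG2.group F) =
      Fintype.card F ^ 6 * (Fintype.card F ^ 2 - 1) * (Fintype.card F ^ 6 - 1) :=
    Cfsg.Agent.S1059.result (F := F) rfl
  have : Fact (Nat.Prime 2) := ⟨Nat.prime_two⟩
  obtain ⟨Q⟩ : Nonempty (Sylow 2 ↥(chevG2.group F)) := inferInstance
  obtain ⟨k, hk, ⟨f⟩⟩ := Cfsg.Agent.ClassificationK.GTwoSylow.exists_equiv hF hcard Q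
  exact row_of_equiv Q hk f

/-- the row `³D₄(q)`, `q` odd -/
theorem row_3D4 {E : Type*} [Field E] [Fintype E] {q : ℕ} (hq : Odd q) (hE : Fintype.card E = q ^ 3) :
    RowTwo ↥(twistedD4 E q) := by
  have : Fact (Nat.Prime 2) := ⟨Nat.prime_two⟩
  obtain ⟨Q⟩ : Nonempty (Sylow 2 ↥(twistedD4 E q)) := inferInstance
  obtain ⟨k, m, hk, -, -, ⟨f⟩⟩ := Cfsg.Agent.H285.D4Sylow.exists_equiv hq hE Q
  exact row_of_equiv Q hk f

end Cfsg.Agent.H779.RowHex
end
end
end
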